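import Cfsg.Agent.TC22.Type

/-!
A transposition centraliser gives the setting of this folder.
-/

set_option autoImplicit false
set_option linter.style.haveILetI false

namespace CfsgLib.TC22

theorem exists_setup {G : Type*} [Group G] [Finite G] {d : G} (hd : orderOf d = 2)
    (hq : Cfsg.IsQuasisimple ↥(Subgroup.centralizer ({d} : Set G)))
    [((Subgroup.zpowers d).subgroupOf (Subgroup.centralizer ({d} : Set G))).Normal]
    {K : Type} [Field K] [Fintype K] [CharP K 2]
    (e : ↥(Subgroup.centralizer ({d} : Set G)) ⧸ (Subgroup.zpowers d).subgroupOf (Subgroup.centralizer ({d} : Set G)) ≃*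
      Cfsg.PSU 6 K 2)
    (hnwc : ∃ g : G, g * d * g⁻¹ ∈ Subgroup.centralizer ({d} : Set G) ∧ g * d * g⁻¹ ≠ d) : Nonempty (TC K d) := by
  let Z := (Subgroup.zpowers d).subgroupOf (Subgroup.centralizer ({d} : Set G))
  refine ⟨⟨
    { φ := e.toMonoidHom.comp (QuotientGroup.mk' Z)
      surj := e.surjective.comp (QuotientGroup.mk'_surjective Z)
      z := ⟨d, Subgroup.mem_centralizer_singleton_iff.2 rfl⟩
      z_ne := fun h => by
        have h1 : d = 1 := congrArg Subtype.val h
        rw [h1, orderOf_one] at hd
        exact absurd hd (by norm_num)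
      ker_iff := fun x => by
        refine e.map_eq_one_iff.trans ((QuotientGroup.eq_one_iff x).trans ?_)
        rw [Subgroup.mem_subgroupOf]
        constructor
        · intro h
          obtain ⟨k, hk⟩ := Subgroup.mem_zpowers_iff.1 h
          rw [← zpow_mod_orderOf, hd] at hk
          rcases Int.emod_two_eq_zero_or_one k with h2 | h2
          · left; exact Subtype.ext (by simpa [h2] using hk.symm)
          · right; exact Subtype.ext (by simpa [h2] using hk.symm)
        · rintro (rfl | rfl)
          · exact one_mem _
          · exact Subgroup.mem_zpowers d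
      central := fun x => Subtype.ext (Subgroup.mem_centralizer_singleton_iff.1 x.2).symm
      perfect := hq.1.commutator_eq_top }, rfl, hnwc⟩⟩

end CfsgLib.TC22
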