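import Cfsg.Agent.SixPlane.Tables
import Mathlib.Data.List.Count

/-!
Tables for the key lemma: the sixes of a plane through a point, the lines of the unitary space of dimension four and
the search showing that a map avoiding zero does not exist.
-/

set_option autoImplicit false

namespace CfsgLib.TC22.Data

open CfsgLib.SixPlane

/-- Inverses in the field of four elements. -/
def inv4 : Fin 4 → Fin 4 := ![0, 1, 3, 2]

/-- The squares. -/
def sqr (a : Fin 4) : Fin 4 := mul4 a a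

/-- The five points of the standard line. -/
def q2 : Fin 5 → Fin 4 × Fin 4 := ![(1, 0), (0, 1), (1, 1), (1, 2), (1, 3)]

/-- The digits of a pattern. -/
def dig (n : ℕ) (i : Fin 5) : Fin 4 := ⟨n / 4 ^ i.val % 4, Nat.mod_lt _ (by omega)⟩

/-- The index and the scalar of a point of the plane. -/
def sidx : Fin 4 → Fin 5 → Fin 21 × Fin 4 :=
  ![![(1, 1), (2, 1), (3, 1), (4, 1), (5, 1)], ![(9, 1), (6, 1), (10, 1), (11, 1), (12, 1)], 
    ![(17, 2), (8, 2), (20, 2), (18, 2), (19, 2)], ![(13, 3), (7, 3), (15, 3), (16, 3), (14, 3)]]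

/-- The codes of the points. -/
def codes : Fin 21 → ℕ := ![1, 2, 4, 134, 390, 262, 37, 101, 69, 11, 175, 495, 335, 27, 319, 255, 479, 19, 439, 375, 215]

/-- The six points of a pattern. -/
def six (n : ℕ) : List (Fin 21) := 0 :: List.ofFn fun i => (sidx (dig n i) i).1

/-- The lines of the plane. -/
def lines : Fin 21 → Fin 5 → Fin 21 :=
  ![![0, 1, 9, 13, 17], ![0, 2, 6, 7, 8], ![0, 3, 10, 15, 20], ![0, 4, 11, 16, 18], ![0, 5, 12, 14, 19], 
    ![1, 2, 3, 4, 5], ![1, 6, 10, 14, 18], ![1, 7, 11, 15, 19], ![1, 8, 12, 16, 20], ![2, 9, 10, 11, 12], 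
    ![2, 13, 14, 15, 16], ![2, 17, 18, 19, 20], ![3, 6, 9, 16, 19], ![3, 7, 12, 13, 18], ![3, 8, 11, 14, 17], 
    ![4, 6, 12, 15, 17], ![4, 7, 9, 14, 20], ![4, 8, 10, 13, 19], ![5, 6, 11, 13, 20], ![5, 7, 10, 16, 17], 
    ![5, 8, 9, 15, 18]]

/-- The coordinates on a line with respect to its first two points. -/
def lineab : Fin 21 → Fin 5 → Fin 4 × Fin 4 :=
  ![![(1, 0), (0, 1), (1, 1), (1, 2), (1, 3)], ![(1, 0), (0, 1), (1, 1), (1, 2), (1, 3)], 
    ![(1, 0), (0, 1), (1, 1), (1, 2), (1, 3)], ![(1, 0), (0, 1), (1, 1), (1, 2), (1, 3)], 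
    ![(1, 0), (0, 1), (1, 1), (1, 2), (1, 3)], ![(1, 0), (0, 1), (1, 1), (1, 2), (1, 3)], 
    ![(1, 0), (0, 1), (1, 1), (2, 1), (3, 1)], ![(1, 0), (0, 1), (1, 1), (2, 1), (3, 1)], 
    ![(1, 0), (0, 1), (1, 1), (2, 1), (3, 1)], ![(1, 0), (0, 1), (1, 1), (2, 1), (3, 1)], 
    ![(1, 0), (0, 1), (1, 1), (2, 1), (3, 1)], ![(1, 0), (0, 1), (1, 1), (2, 1), (3, 1)], 
    ![(1, 0), (0, 1), (1, 1), (2, 1), (3, 1)], ![(1, 0), (0, 1), (1, 1), (2, 1), (3, 1)], 
    ![(1, 0), (0, 1), (1, 1), (2, 1), (3, 1)], ![(1, 0), (0, 1), (1, 1), (2, 1), (3, 1)], 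
    ![(1, 0), (0, 1), (1, 1), (2, 1), (3, 1)], ![(1, 0), (0, 1), (1, 1), (2, 1), (3, 1)], 
    ![(1, 0), (0, 1), (1, 1), (2, 1), (3, 1)], ![(1, 0), (0, 1), (1, 1), (2, 1), (3, 1)], 
    ![(1, 0), (0, 1), (1, 1), (2, 1), (3, 1)]]

/-- The three classes of patterns. -/
def patt : Fin 3 → List ℕ :=
  ![[21, 114, 172, 203, 291, 324, 410, 509, 526, 617, 695, 720, 824, 863, 897, 998], 
    [42, 77, 147, 244, 284, 379, 421, 450, 561, 598, 648, 751, 775, 864, 958, 985], 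
    [63, 88, 134, 225, 265, 366, 432, 471, 548, 579, 669, 762, 786, 885, 939, 972]]

/-- The first pattern of each class. -/
def rep : Fin 3 → ℕ := ![21, 42, 63]

/-- The lines in the difference to the first pattern. -/
def classCert : Fin 3 → List (List (Fin 21)) :=
  ![[[], [0, 3, 6, 10], [2, 4, 5, 6, 7, 9], [1, 4, 5, 7, 9, 10], [2, 3, 5, 6, 9, 10], [5, 9], 
      [0, 1, 3, 4, 7, 10], [3, 4, 6, 7], [0, 3, 5, 6, 7, 10], [1, 2, 5, 7], [3, 4, 9, 10], [3, 4, 6, 9], 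
      [1, 4, 7, 9], [3, 4, 6, 7, 9, 10], [5, 6], [0, 2, 5, 10]],
    [[], [0, 1, 2, 3, 6, 10], [0, 1, 2, 4, 5, 6, 7, 9], [0, 1, 2, 4, 5, 7, 9, 10], [0, 1, 2, 3, 5, 6, 9, 10], 
      [0, 2, 5, 9], [0, 1, 3, 4, 7, 10], [1, 2, 3, 4, 6, 7], [0, 1, 2, 3, 5, 6, 7, 10], [1, 2, 5, 7], 
      [0, 2, 3, 4, 9, 10], [0, 1, 3, 4, 6, 9], [0, 1, 2, 4, 7, 9], [0, 1, 3, 4, 6, 7, 9, 10], [1, 2, 5, 6], 
      [0, 2, 5, 10]],
    [[], [1, 3, 6, 10], [0, 4, 5, 6, 7, 9], [2, 4, 5, 7, 9, 10], [1, 3, 5, 6, 9, 10], [0, 2, 5, 9], 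
      [3, 4, 7, 10], [3, 4, 6, 7], [2, 3, 5, 6, 7, 10], [5, 7], [3, 4, 9, 10], [0, 1, 3, 4, 6, 9], [0, 4, 7, 9], 
      [3, 4, 6, 7, 9, 10], [1, 2, 5, 6], [5, 10]]]

/-- The pairs of classes. -/
def pairs : Fin 3 → Fin 3 × Fin 3 := ![(0, 1), (0, 2), (1, 2)]

/-- The positions left free by a pair of classes. -/
def free : Fin 3 → Fin 9 → Fin 21 :=
  ![![0, 1, 2, 3, 4, 6, 7, 9, 13], ![0, 1, 2, 3, 4, 6, 7, 9, 13], ![0, 1, 2, 3, 4, 6, 7, 9, 13]]

/-- The expression of each position in the free ones, and the generators used. -/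
def pivot : Fin 3 → Fin 21 → List (Fin 9) × List (Fin 23) :=
  ![![([0], []), ([1], []), ([2], []), ([3], []), ([4], []), ([1, 2, 3, 4], [5]), ([5], []), ([6], []), 
      ([0, 2, 5, 6], [1]), ([7], []), ([0, 1, 2, 3, 5, 7], [5, 21]), 
      ([0, 1, 2, 4, 6, 7], [0, 1, 2, 3, 5, 6, 10, 22]), ([2, 3, 4, 5, 6, 7], [0, 1, 2, 3, 6, 9, 10, 21, 22]), 
      ([8], []), ([0, 3, 4, 5, 8], [0, 1, 2, 4, 7, 9, 22]), ([0, 1, 2, 3, 6, 8], [0, 1, 2, 21, 22]), 
      ([1, 4, 5, 6, 8], [4, 7, 9, 10, 21]), ([0, 1, 7, 8], [0]), 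
      ([2, 4, 5, 7, 8], [0, 1, 2, 4, 5, 6, 7, 9, 21, 22]), ([1, 3, 4, 6, 7, 8], [3, 5, 6, 7, 10, 21]), 
      ([0, 3, 5, 6, 7, 8], [0, 1, 5, 22])],
    ![([0], []), ([1], []), ([2], []), ([3], []), ([4], []), ([1, 2, 3, 4], [5]), ([5], []), ([6], []), 
      ([0, 2, 5, 6], [1]), ([7], []), ([0, 1, 2, 3, 5, 7], [5, 21]), ([0, 1, 2, 4, 6, 7], [3, 6, 10, 21, 22]), 
      ([2, 3, 4, 5, 6, 7], [3, 5, 6, 9, 10, 22]), ([8], []), ([0, 3, 4, 5, 8], [4, 5, 7, 9, 21, 22]), 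
      ([0, 1, 2, 3, 6, 8], [5, 22]), ([1, 4, 5, 6, 8], [4, 7, 9, 10, 21]), ([0, 1, 7, 8], [0]), 
      ([2, 4, 5, 7, 8], [4, 6, 7, 9, 22]), ([1, 3, 4, 6, 7, 8], [3, 5, 6, 7, 10, 21]), 
      ([0, 3, 5, 6, 7, 8], [2, 21, 22])],
    ![([0], []), ([1], []), ([2], []), ([3], []), ([4], []), ([1, 2, 3, 4], [5]), ([5], []), ([6], []), 
      ([0, 2, 5, 6], [1]), ([7], []), ([0, 1, 2, 3, 5, 7], [0, 1, 2, 21, 22]), 
      ([0, 1, 2, 4, 6, 7], [0, 1, 2, 3, 5, 6, 10, 21]), ([2, 3, 4, 5, 6, 7], [3, 5, 6, 9, 10, 22]), ([8], []), 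
      ([0, 3, 4, 5, 8], [0, 1, 2, 4, 7, 9, 21]), ([0, 1, 2, 3, 6, 8], [5, 22]), 
      ([1, 4, 5, 6, 8], [0, 1, 2, 4, 5, 7, 9, 10, 21, 22]), ([0, 1, 7, 8], [0]), 
      ([2, 4, 5, 7, 8], [4, 6, 7, 9, 22]), ([1, 3, 4, 6, 7, 8], [0, 1, 2, 3, 6, 7, 10, 21, 22]), 
      ([0, 3, 5, 6, 7, 8], [0, 1, 5, 21])]]

/-- A generator of the kernel of a pair of classes. -/
def gen (p : Fin 3) (g : Fin 23) : List (Fin 21) :=
  if h : g.val < 21 then List.ofFn (lines ⟨g, h⟩) else if g.val = 21 then six (rep (pairs p).1) else six (rep (pairs p).2)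

/-- The isotropic points in dimension four. -/
def pts45 : Fin 45 → Fin 4 → Fin 4 :=
  ![![0, 0, 1, 1], ![0, 0, 1, 2], ![0, 0, 1, 3], ![0, 1, 0, 1], ![0, 1, 0, 2], ![0, 1, 0, 3], ![0, 1, 1, 0], 
    ![0, 1, 2, 0], ![0, 1, 3, 0], ![1, 0, 0, 1], ![1, 0, 0, 2], ![1, 0, 0, 3], ![1, 0, 1, 0], ![1, 0, 2, 0], 
    ![1, 0, 3, 0], ![1, 1, 0, 0], ![1, 1, 1, 1], ![1, 1, 1, 2], ![1, 1, 1, 3], ![1, 1, 2, 1], ![1, 1, 2, 2], 
    ![1, 1, 2, 3], ![1, 1, 3, 1], ![1, 1, 3, 2], ![1, 1, 3, 3], ![1, 2, 0, 0], ![1, 2, 1, 1], ![1, 2, 1, 2], 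
    ![1, 2, 1, 3], ![1, 2, 2, 1], ![1, 2, 2, 2], ![1, 2, 2, 3], ![1, 2, 3, 1], ![1, 2, 3, 2], ![1, 2, 3, 3], 
    ![1, 3, 0, 0], ![1, 3, 1, 1], ![1, 3, 1, 2], ![1, 3, 1, 3], ![1, 3, 2, 1], ![1, 3, 2, 2], ![1, 3, 2, 3], 
    ![1, 3, 3, 1], ![1, 3, 3, 2], ![1, 3, 3, 3]]

/-- The words moving the standard line to the others. -/
def words : Fin 27 → List (Fin 45) :=
  ![[], [1], [2], [3], [4], [5], [6], [7], [8], [25], [35], [3, 1], [4, 1], [5, 1], [6, 1], [7, 1], [8, 1], 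
    [25, 1], [35, 1], [3, 2], [4, 2], [5, 2], [6, 2], [7, 2], [8, 2], [25, 2], [35, 2]]

/-- Where the points of the standard line go, with the scalars. -/
def img : Fin 27 → Fin 5 → Fin 45 × Fin 4 :=
  ![![(15, 1), (0, 1), (16, 1), (20, 1), (24, 1)], ![(15, 1), (2, 3), (23, 1), (18, 1), (19, 1)], 
    ![(15, 1), (1, 2), (21, 1), (22, 1), (17, 1)], ![(9, 1), (6, 1), (16, 1), (29, 1), (42, 1)], 
    ![(10, 1), (7, 3), (37, 1), (20, 1), (33, 1)], ![(11, 1), (8, 2), (28, 1), (41, 1), (24, 1)], 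
    ![(12, 1), (3, 1), (16, 1), (27, 1), (38, 1)], ![(13, 1), (4, 3), (39, 1), (20, 1), (31, 1)], 
    ![(14, 1), (5, 2), (32, 1), (43, 1), (24, 1)], ![(35, 3), (0, 1), (40, 3), (44, 3), (36, 3)], 
    ![(25, 2), (0, 1), (34, 2), (26, 2), (30, 2)], ![(9, 1), (7, 2), (32, 1), (36, 1), (19, 1)], 
    ![(10, 1), (8, 1), (23, 1), (27, 1), (40, 1)], ![(11, 1), (6, 3), (44, 1), (18, 1), (31, 1)], 
    ![(12, 1), (5, 3), (37, 1), (18, 1), (26, 1)], ![(13, 1), (3, 2), (30, 1), (41, 1), (19, 1)], 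
    ![(14, 1), (4, 1), (23, 1), (34, 1), (42, 1)], ![(35, 3), (2, 3), (38, 3), (39, 3), (43, 3)], 
    ![(25, 2), (2, 3), (29, 2), (33, 2), (28, 2)], ![(9, 1), (8, 3), (39, 1), (22, 1), (26, 1)], 
    ![(10, 1), (6, 2), (30, 1), (43, 1), (17, 1)], ![(11, 1), (7, 1), (21, 1), (34, 1), (38, 1)], 
    ![(12, 1), (4, 2), (28, 1), (36, 1), (17, 1)], ![(13, 1), (5, 1), (21, 1), (29, 1), (40, 1)], 
    ![(14, 1), (3, 3), (44, 1), (22, 1), (33, 1)], ![(35, 3), (1, 2), (42, 3), (37, 3), (41, 3)], 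
    ![(25, 2), (1, 2), (27, 2), (31, 2), (32, 2)]]

/-- A standard point in dimension four. -/
def q4 (i : Fin 5) : Fin 4 → Fin 4 := ![(q2 i).1, (q2 i).1, (q2 i).2, (q2 i).2]

/-- The form in dimension four. -/
def h4 (x u : Fin 4 → Fin 4) : Fin 4 :=
  add4 (add4 (add4 (mul4 (x 0) (sqr (u 0))) (mul4 (x 1) (sqr (u 1)))) (mul4 (x 2) (sqr (u 2)))) (mul4 (x 3) (sqr (u 3)))

/-- A transvection in dimension four. -/
def tv4 (u x : Fin 4 → Fin 4) : Fin 4 → Fin 4 := fun k => add4 (x k) (mul4 (h4 x u) (u k))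

/-- The action of a word. -/
def act (w : List (Fin 45)) (x : Fin 4 → Fin 4) : Fin 4 → Fin 4 := w.foldr (fun u y => tv4 (pts45 u) y) x

/-- A search tree. -/
inductive Tree where
  | node (L : Fin 27) {m : ℕ} (kids : Fin m → Tree)

/-- The value of a map at a position, as far as assigned. -/
def look : List (Fin 45 × Fin 4) → Fin 45 → Option (Fin 4)
  | [], _ => none
  | (i, v) :: s, j => if i = j then some v else look s j

/-- Extends a partial map by a pattern on a line, step by step. -/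
def extend : List (Fin 45 × Fin 4) → List (Fin 45 × Fin 4) → Option (List (Fin 45 × Fin 4))
  | [], s => some s
  | (j, v) :: r, s =>
    if v = 0 then none else
      match look s j with
      | none => extend r ((j, v) :: s)
      | some x => if x = v then extend r s else none

/-- The assignments a pattern makes on a line. -/
def assigns (L : Fin 27) (n : ℕ) : List (Fin 45 × Fin 4) :=
  List.ofFn fun i => ((img L i).1, mul4 (inv4 (img L i).2) (dig n i))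

/-- The check of a search tree. -/
def check (κ : Fin 3) : ℕ → Tree → List (Fin 45 × Fin 4) → Bool
  | 0, _, _ => false
  | k + 1, .node L kids, s =>
    let good := (patt κ).filterMap fun n => extend (assigns L n) s
    good.length == (List.ofFn kids).length && (good.zip (List.ofFn kids)).all fun p => check κ k p.2 p.1

/-- The three search trees. -/
def tree : Fin 3 → Tree :=
  ![.node 0 ![.node 1 ![.node 2 ![.node 3 ![.node 18 ![], .node 11 ![]], .node 3 ![.node 18 ![], .node 11 ![]]], .node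
      2 ![.node 3 ![.node 16 ![], .node 13 ![]], .node 3 ![.node 16 ![], .node 13 ![]]]], .node 1 ![.node 2 ![.node 3
      ![.node 13 ![], .node 11 ![]], .node 3 ![.node 13 ![], .node 11 ![]]], .node 2 ![.node 3 ![.node 16 ![], .node 18
      ![]], .node 3 ![.node 16 ![], .node 18 ![]]]], .node 1 ![.node 2 ![.node 3 ![.node 18 ![], .node 16 ![]], .node 3
      ![.node 18 ![], .node 16 ![]]], .node 2 ![.node 3 ![.node 13 ![], .node 11 ![]], .node 3 ![.node 13 ![], .node 11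
      ![]]]], .node 1 ![.node 2 ![.node 3 ![.node 18 ![], .node 13 ![]], .node 3 ![.node 18 ![], .node 13 ![]]], .node 2
      ![.node 3 ![.node 11 ![], .node 16 ![]], .node 3 ![.node 11 ![], .node 16 ![]]]], .node 1 ![.node 2 ![.node 3
      ![.node 11 ![], .node 16 ![]], .node 3 ![.node 11 ![], .node 16 ![]]], .node 2 ![.node 3 ![.node 13 ![], .node 18
      ![]], .node 3 ![.node 13 ![], .node 18 ![]]]], .node 1 ![.node 2 ![.node 3 ![.node 16 ![], .node 13 ![]], .node 3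
      ![.node 16 ![], .node 13 ![]]], .node 2 ![.node 3 ![.node 11 ![], .node 18 ![]], .node 3 ![.node 11 ![], .node 18
      ![]]]]],
    .node 0 ![.node 1 ![.node 2 ![.node 3 ![.node 18 ![], .node 11 ![]], .node 3 ![.node 18 ![], .node 11 ![]]], .node
      2 ![.node 3 ![.node 13 ![], .node 16 ![]], .node 3 ![.node 13 ![], .node 16 ![]]]], .node 1 ![.node 2 ![.node 3
      ![.node 18 ![], .node 13 ![]], .node 3 ![.node 18 ![], .node 13 ![]]], .node 2 ![.node 3 ![.node 16 ![], .node 11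
      ![]], .node 3 ![.node 16 ![], .node 11 ![]]]], .node 1 ![.node 2 ![.node 3 ![.node 13 ![], .node 11 ![]], .node 3
      ![.node 13 ![], .node 11 ![]]], .node 2 ![.node 3 ![.node 16 ![], .node 18 ![]], .node 3 ![.node 16 ![], .node 18
      ![]]]], .node 1 ![.node 2 ![.node 3 ![.node 13 ![], .node 16 ![]], .node 3 ![.node 13 ![], .node 16 ![]]], .node 2
      ![.node 3 ![.node 11 ![], .node 18 ![]], .node 3 ![.node 11 ![], .node 18 ![]]]], .node 1 ![.node 2 ![.node 3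
      ![.node 16 ![], .node 18 ![]], .node 3 ![.node 16 ![], .node 18 ![]]], .node 2 ![.node 3 ![.node 11 ![], .node 13
      ![]], .node 3 ![.node 11 ![], .node 13 ![]]]], .node 1 ![.node 2 ![.node 3 ![.node 11 ![], .node 16 ![]], .node 3
      ![.node 11 ![], .node 16 ![]]], .node 2 ![.node 3 ![.node 18 ![], .node 13 ![]], .node 3 ![.node 18 ![], .node 13
      ![]]]]],
    .node 0 ![.node 1 ![.node 2 ![.node 3 ![.node 13 ![], .node 18 ![]], .node 3 ![.node 13 ![], .node 18 ![]]], .node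
      2 ![.node 3 ![.node 16 ![], .node 11 ![]], .node 3 ![.node 16 ![], .node 11 ![]]]], .node 1 ![.node 2 ![.node 3
      ![.node 13 ![], .node 11 ![]], .node 3 ![.node 13 ![], .node 11 ![]]], .node 2 ![.node 3 ![.node 18 ![], .node 16
      ![]], .node 3 ![.node 18 ![], .node 16 ![]]]], .node 1 ![.node 2 ![.node 3 ![.node 11 ![], .node 18 ![]], .node 3
      ![.node 11 ![], .node 18 ![]]], .node 2 ![.node 3 ![.node 16 ![], .node 13 ![]], .node 3 ![.node 16 ![], .node 13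
      ![]]]], .node 1 ![.node 2 ![.node 3 ![.node 16 ![], .node 11 ![]], .node 3 ![.node 16 ![], .node 11 ![]]], .node 2
      ![.node 3 ![.node 18 ![], .node 13 ![]], .node 3 ![.node 18 ![], .node 13 ![]]]], .node 1 ![.node 2 ![.node 3
      ![.node 13 ![], .node 16 ![]], .node 3 ![.node 13 ![], .node 16 ![]]], .node 2 ![.node 3 ![.node 11 ![], .node 18
      ![]], .node 3 ![.node 11 ![], .node 18 ![]]]], .node 1 ![.node 2 ![.node 3 ![.node 18 ![], .node 16 ![]], .node 3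
      ![.node 18 ![], .node 16 ![]]], .node 2 ![.node 3 ![.node 11 ![], .node 13 ![]], .node 3 ![.node 11 ![], .node 13
      ![]]]]]]

theorem tree_ok : ∀ κ, check κ 6 (tree κ) [] = true := by decide +kernel

theorem sidx_spec : ∀ l i, (sidx l i).2 ≠ 0 ∧ ∀ k,
    mul4 (sidx l i).2 (pts (sidx l i).1 k) = ![l, (q2 i).1, (q2 i).2] k := by decide +kernel

theorem lineab_spec : ∀ L i k, pts (lines L i) k =
    add4 (mul4 (lineab L i).1 (pts (lines L 0) k)) (mul4 (lineab L i).2 (pts (lines L 1) k)) := by decide +kernel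

theorem lines_inj : ∀ L i j, lines L i = lines L j → i = j := by decide +kernel

theorem pts_prop : ∀ i j a, (∀ k, pts i k = mul4 a (pts j k)) → i = j := by decide +kernel

theorem pts_cover : ∀ a b c : Fin 4, ![a, b, c] ≠ ![0, 0, 0] →
    ∃ i e, e ≠ 0 ∧ ∀ k, ![a, b, c] k = mul4 e (pts i k) := by decide +kernel

theorem codes_spec : ∀ k, codes k = code (pts k) := by decide +kernel

theorem patt_cover : ∀ n < 1024, (six n).foldr (fun k r => codes k ^^^ r) 0 = 0 → ∃ κ, n ∈ patt κ := by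
  decide +kernel

theorem patt_lt : ∀ κ, ∀ n ∈ patt κ, n < 1024 := by decide +kernel

theorem class_spec : ∀ κ, (patt κ).length = (classCert κ).length ∧
    ∀ p ∈ (patt κ).zip (classCert κ), ∀ x,
      ((six p.1).count x + ((six (rep κ)) ++ p.2.flatMap fun L => List.ofFn (lines L)).count x) % 2 = 0 := by
  decide +kernel

theorem pivot_spec : ∀ p k x,
    (List.count x [k] + ((pivot p k).1.map (free p) ++ (pivot p k).2.flatMap (gen p)).count x) % 2 = 0 := by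
  decide +kernel

theorem act_spec : ∀ L i k, act (words L) (q4 i) k = mul4 (img L i).2 (pts45 (img L i).1 k) := by decide +kernel

theorem img_ne : ∀ L i, (img L i).2 ≠ 0 ∧ ∀ j, (img L i).1 = (img L j).1 → i = j := by decide +kernel

theorem pts45_iso : ∀ i, h4 (pts45 i) (pts45 i) = 0 := by decide +kernel

theorem pts45_first : ∀ i j a, (∀ k, pts45 i k = mul4 a (pts45 j k)) → i = j := by decide +kernel

theorem pts45_cover : ∀ a b c e : Fin 4, h4 ![a, b, c, e] ![a, b, c, e] = 0 → ![a, b, c, e] ≠ ![0, 0, 0, 0] →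
    ∃ i s, s ≠ 0 ∧ ∀ k, ![a, b, c, e] k = mul4 s (pts45 i k) := by decide +kernel

theorem img_perp : ∀ L i j, h4 (pts45 (img L i).1) (pts45 (img L j).1) = 0 := by decide +kernel

end CfsgLib.TC22.Data
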