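import Cfsg.Agent.TC22.Lines
import Cfsg.Agent.TC22.Data

/-!
The sixes of the plane whose members multiply to one lie in a single class.
-/

set_option autoImplicit false
set_option linter.unusedSectionVars false
set_option linter.style.haveILetI false

namespace CfsgLib.TC22

open Matrix CfsgLib.Unitary CfsgLib.ThreeT CfsgLib.ThreeT.SixTwo CfsgLib.SixPlane

section Comm

variable {M : Type*} [Group M]

/-- Commuting involutions: a product depends on the parities only. -/
theorem prod_parity {n : ℕ} (f : Fin n → M) (hc : ∀ i j, Commute (f i) (f j)) (h2 : ∀ i, f i * f i = 1)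
    {l l' : List (Fin n)} (h : ∀ x, (l.count x + l'.count x) % 2 = 0) : (l.map f).prod = (l'.map f).prod := by
  classical
  let H := Subgroup.closure (Set.range f)
  letI : CommGroup ↥H :=
    { (inferInstance : Group ↥H) with
      mul_comm := fun a b => by
        have key : ∀ x ∈ H, ∀ y ∈ H, Commute x y := by
          intro x hx y hy
          induction hx, hy using Subgroup.closure_induction₂ with
          | mem a b ha hb => obtain ⟨i, rfl⟩ := ha; obtain ⟨j, rfl⟩ := hb; exact hc i j
          | one_left => exact Commute.one_left _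
          | one_right => exact Commute.one_right _
          | mul_left a b c _ _ _ h1 h2 => exact h1.mul_left h2
          | mul_right a b c _ _ _ h1 h2 => exact h1.mul_right h2
          | inv_left a b _ _ h => exact h.inv_left
          | inv_right a b _ _ h => exact h.inv_right
        exact Subtype.ext (key a a.2 b b.2) }
  let g : Fin n → ↥H := fun i => ⟨f i, Subgroup.subset_closure ⟨i, rfl⟩⟩
  have hval : ∀ l : List (Fin n), ((∏ x, g x ^ l.count x : ↥H) : M) = (l.map f).prod := by
    intro l
    induction l with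
    | nil => simp
    | cons a l ih =>
      have : (∏ x, g x ^ (a :: l).count x) = g a * ∏ x, g x ^ l.count x := by
        simp only [List.count_cons, pow_add, Finset.prod_mul_distrib]
        rw [mul_comm]
        congr 1
        simp [beq_iff_eq, pow_ite, Finset.prod_ite_eq]
      rw [this, List.map_cons, List.prod_cons, ← ih]
      rfl
  rw [← hval, ← hval]
  congr 1
  refine Finset.prod_congr rfl fun x _ => ?_
  have hx : g x * g x = 1 := Subtype.ext (h2 x)
  have hp : ∀ m : ℕ, g x ^ m = g x ^ (m % 2) := fun m => by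
    conv_lhs => rw [← Nat.mod_add_div m 2, pow_add, pow_mul, pow_two, hx, one_pow, mul_one]
  rw [hp (l.count x), hp (l'.count x), show l.count x % 2 = l'.count x % 2 by have := h x; omega]

/-- A group generated by commuting involutions is small. -/
theorem card_closure_le [Finite M] {n : ℕ} (g : Fin n → M) (hc : ∀ i j, Commute (g i) (g j))
    (h2 : ∀ i, g i * g i = 1) : Nat.card ↥(Subgroup.closure (Set.range g)) ≤ 2 ^ n := by
  classical
  let P : (Fin n → Bool) → M := fun c => (((List.finRange n).filter fun i => c i).map g).prod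
  have hsub : ∀ x ∈ Subgroup.closure (Set.range g), ∃ l : List (Fin n), (l.map g).prod = x := by
    intro x hx
    induction hx using Subgroup.closure_induction with
    | mem y hy => obtain ⟨i, rfl⟩ := hy; exact ⟨[i], by simp⟩
    | one => exact ⟨[], by simp⟩
    | mul a b _ _ ha hb =>
      obtain ⟨l, rfl⟩ := ha; obtain ⟨l', rfl⟩ := hb
      exact ⟨l ++ l', by simp⟩
    | inv a _ ha =>
      obtain ⟨l, rfl⟩ := ha
      refine ⟨l.reverse, ?_⟩
      rw [List.prod_inv_reverse, List.map_map, List.map_reverse]
      congr 2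
      exact List.map_congr_left fun i _ => (inv_eq_of_mul_eq_one_right (h2 i)).symm
  have hP : ∀ x ∈ Subgroup.closure (Set.range g), ∃ c, P c = x := fun x hx => by
    obtain ⟨l, rfl⟩ := hsub x hx
    refine ⟨fun i => decide (l.count i % 2 = 1), prod_parity g hc h2 fun i => ?_⟩
    by_cases hi : l.count i % 2 = 1
    · rw [List.count_filter (p := fun i => decide (l.count i % 2 = 1)) (decide_eq_true hi),
        List.count_eq_one_of_mem (List.nodup_finRange n) (List.mem_finRange i)]
      omega
    · have h0 : i ∉ (List.finRange n).filter fun i => decide (l.count i % 2 = 1) := fun h =>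
        hi (of_decide_eq_true (List.mem_filter.1 h).2)
      rw [List.count_eq_zero.2 h0]
      omega
  refine (Nat.card_le_card_of_surjective (fun c : {c // P c ∈ Subgroup.closure (Set.range g)} =>
    (⟨P c.1, c.2⟩ : ↥(Subgroup.closure (Set.range g)))) fun x => ?_).trans ?_
  · obtain ⟨c, hc⟩ := hP x x.2
    exact ⟨⟨c, hc ▸ x.2⟩, Subtype.ext hc⟩
  · refine (Finite.card_subtype_le _).trans ?_
    simp

end Comm

variable {F : Type} [Field F] [CharP F 2] [Finite F] (hF : Nat.card F = 2 ^ 2) {ω : F}
  (hω : ω ^ 2 = ω + 1) {G : Type*} [Group G] [Finite G] {d : G} (T : TC F d)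

local notation "V" => Fin 6 → F
local notation "hh" => Cfsg.hermForm 6 F 2
local notation "π" => QuotientGroup.mk' (Subgroup.center (Cfsg.SU 6 F 2))

include hF hω

omit hF in
theorem vec_eq {i : Fin 21} {a : Fin 4} {v : Fin 3 → Fin 4} (h : ∀ k, v k = mul4 a (pts i k)) :
    (fun k => enc ω (v k)) = enc ω a • vec ω i := funext fun k => by
  rw [Pi.smul_apply, smul_eq_mul, h, enc_mul hω]; rfl

theorem vec_prop {i j : Fin 21} (hij : i ≠ j) (a : F) : vec ω i ≠ a • vec ω j := by
  intro e
  obtain ⟨a', rfl⟩ := enc_surjective hF hω a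
  refine hij (Data.pts_prop i j a' fun k => enc_injective hω ?_)
  rw [enc_mul hω]
  exact congrFun e k

theorem vec_ne (i : Fin 21) : vec ω i ≠ (0 : Fin 3 → F) := by
  obtain ⟨j, hj⟩ : ∃ j : Fin 21, j ≠ i := exists_ne i
  intro e
  exact vec_prop hF hω hj.symm 0 (by rw [e, zero_smul])

theorem isTr_list : ∀ l : List (Fin 21),
    IsTr ((l.map fun k => tv hF (emb (vec ω k))).prod) (hmat ω (l.foldr (fun k r => code (pts k) ^^^ r) 0)) ∧
      l.foldr (fun k r => code (pts k) ^^^ r) 0 < 512
  | [] => by
    refine ⟨?_, by simp⟩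
    simp only [List.map_nil, List.prod_nil, List.foldr_nil]
    rw [hmat_zero hω]
    exact IsTr.one
  | k :: l => by
    obtain ⟨h, hlt⟩ := isTr_list l
    simp only [List.map_cons, List.prod_cons, List.foldr_cons]
    refine ⟨?_, Nat.xor_lt_two_pow (n := 9) (code_lt k) hlt⟩
    rw [hmat_xor hω, hmat_code hω]
    exact (isTr_tv hF _).mul h

namespace TC

include T

/-- The members over the points of the plane. -/
noncomputable def trp (ω : F) (k : Fin 21) : G := T.tr hF (emb (vec ω k))

/-- The members times `d`. -/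
noncomputable def fac (ω : F) (k : Fin 21) : G := d * T.trp hF ω k

theorem trp_mem (k : Fin 21) : T.trp hF ω k ∈ T.om := T.tr_emb_mem hF hω (vec_ne hF hω k)

theorem trp_comm (i j : Fin 21) : Commute (T.trp hF ω i) (T.trp hF ω j) :=
  T.base_comm hF hω (T.trp_mem hF hω i).1 (T.trp_mem hF hω j).1

theorem fac_comm (i j : Fin 21) : Commute (T.fac hF ω i) (T.fac hF ω j) :=
  T.base_comm hF hω (mul_mem (T.z_mem_baseG hF hω) (T.trp_mem hF hω i).1)
    (mul_mem (T.z_mem_baseG hF hω) (T.trp_mem hF hω j).1)

theorem fac_sq (i : Fin 21) : T.fac hF ω i * T.fac hF ω i = 1 := by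
  rw [fac, (show Commute (T.trp hF ω i) d from T.tr_cent hF _).mul_mul_mul_comm, T.dd,
    T.sq_of_conj (T.trp_mem hF hω i).2, one_mul]

theorem prod_fac (l : List (Fin 21)) :
    (l.map (T.fac hF ω)).prod = d ^ l.length * (l.map (T.trp hF ω)).prod := by
  induction l with
  | nil => simp
  | cons k l ih =>
    simp only [List.map_cons, List.prod_cons, List.length_cons, ih, fac, pow_succ']
    rw [mul_assoc d, ← mul_assoc (T.trp hF ω k) (d ^ l.length),
      ((show Commute (T.trp hF ω k) d from T.tr_cent hF _).pow_right _).eq]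
    simp only [mul_assoc]

theorem fac_line (L : Fin 21) : ((List.ofFn (Data.lines L)).map (T.fac hF ω)).prod = 1 := by
  have hv : ∀ i, IsPt (emb (vec ω (Data.lines L i)) : V) := fun i => isPt_emb (vec_ne hF hω _)
  have hd : ∀ i j, i ≠ j → ∀ a : F, emb (vec ω (Data.lines L i)) ≠ a • (emb (vec ω (Data.lines L j)) : V) :=
    fun i j hij a e => vec_prop hF hω (fun h => hij (Data.lines_inj L i j h)) a
      (emb_injective (by rw [e, map_smul]))
  have hm : ∀ i, ∃ a b : F, (emb (vec ω (Data.lines L i)) : V) =
      a • emb (vec ω (Data.lines L 0)) + b • emb (vec ω (Data.lines L 1)) := fun i => by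
    refine ⟨enc ω (Data.lineab L i).1, enc ω (Data.lineab L i).2, ?_⟩
    rw [← map_smul, ← map_smul, ← map_add]
    congr 1
    funext k
    simp only [SixPlane.vec, Pi.add_apply, Pi.smul_apply, smul_eq_mul]
    rw [Data.lineab_spec, enc_add hω, enc_mul hω, enc_mul hω]
  have h1 := line_five hF (hh_emb_emb _ _) (hh_emb_emb _ _) (hh_emb_emb _ _) hv hm hd
  have h := T.line_prod hF hω hv (fun i j => hh_emb_emb _ _) hd h1
  rw [T.prod_fac hF hω, List.map_ofFn, List.length_ofFn]
  rw [show (List.ofFn (T.trp hF ω ∘ Data.lines L)).prod = d from h, ← pow_succ,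
    show (5 + 1 : ℕ) = 2 * 3 from rfl, pow_mul, pow_two, T.dd, one_pow]

theorem fac_gens (ls : List (Fin 21)) :
    ((ls.flatMap fun L => List.ofFn (Data.lines L)).map (T.fac hF ω)).prod = 1 := by
  induction ls with
  | nil => simp
  | cons L ls ih => rw [List.flatMap_cons, List.map_append, List.prod_append, ih, T.fac_line hF hω, one_mul]

theorem fac_six (n : ℕ) : ((Data.six n).map (T.fac hF ω)).prod = ((Data.six n).map (T.trp hF ω)).prod := by
  rw [T.prod_fac hF hω, show (Data.six n).length = 2 * 3 by simp [Data.six], pow_mul, pow_two, T.dd, one_pow, one_mul]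

theorem six_class {κ : Fin 3} {n : ℕ} (hn : n ∈ Data.patt κ) :
    ((Data.six n).map (T.fac hF ω)).prod = ((Data.six (Data.rep κ)).map (T.fac hF ω)).prod := by
  obtain ⟨hlen, hspec⟩ := Data.class_spec κ
  obtain ⟨i, hi, rfl⟩ := List.getElem_of_mem hn
  have hp : ((Data.patt κ)[i], (Data.classCert κ)[i]'(hlen ▸ hi)) ∈ (Data.patt κ).zip (Data.classCert κ) :=
    List.mem_iff_getElem.2 ⟨i, by simp [← hlen, hi], by simp⟩
  rw [prod_parity _ (T.fac_comm hF hω) (T.fac_sq hF hω) (hspec _ hp), List.map_append, List.prod_append,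
    T.fac_gens hF hω, mul_one]

theorem six_image {n : ℕ} (hn : n < 1024) (h : ((Data.six n).map (T.trp hF ω)).prod = 1) :
    ∃ κ, n ∈ Data.patt κ := by
  refine Data.patt_cover n hn ?_
  simp only [Data.codes_spec]
  obtain ⟨hA, hlt⟩ := isTr_list hF hω (Data.six n)
  have hp : π ((Data.six n).map fun k => tv hF (emb (vec ω k))).prod = 1 := by
    rw [map_list_prod, List.map_map]
    have e : (π ∘ fun k => tv hF (emb (vec ω k))) =
        T.K.φ ∘ fun k => T.K.kk hF (T.base₀ hF) (emb (vec ω k)) :=
      funext fun k => (T.phi_tr hF hω (isPt_emb (vec_ne hF hω k))).symm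
    rw [e, ← List.map_map, ← map_list_prod,
      show ((Data.six n).map fun k => T.K.kk hF (T.base₀ hF) (emb (vec ω k))).prod = 1 from Subtype.ext (by
        rw [Subgroup.val_list_prod, List.map_map]; exact h), map_one]
  have hinv : ((Data.six n).map fun k => tv hF (emb (vec ω k))).prod *
      ((Data.six n).map fun k => tv hF (emb (vec ω k))).prod = 1 := by
    refine (hA.mul hA).eq ?_
    rw [show hmat ω _ + hmat ω _ = 0 from Matrix.ext fun _ _ => CharTwo.add_self_eq_zero _]
    exact IsTr.one
  rw [pi_inj hF hinv (one_mul 1) (hp.trans (map_one π).symm)] at hA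
  exact hmat_inj hω hlt (by norm_num) (hA.unique (hmat_zero hω ▸ IsTr.one))

/-- The sixes multiplying to one lie in one class. -/
theorem class_unique : ∃ κ, ∀ n < 1024, ((Data.six n).map (T.trp hF ω)).prod = 1 → n ∈ Data.patt κ := by
  by_contra hno
  push Not at hno
  obtain ⟨n, hn, h1, -⟩ := hno 0
  obtain ⟨i, hi⟩ := T.six_image hF hω hn h1
  obtain ⟨m, hm, h2, hm'⟩ := hno i
  obtain ⟨j, hj⟩ := T.six_image hF hω hm h2
  have hij : i ≠ j := fun e => hm' (e ▸ hj)
  have hone : ∀ k n, n ∈ Data.patt k → ((Data.six n).map (T.trp hF ω)).prod = 1 →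
      ((Data.six (Data.rep k)).map (T.fac hF ω)).prod = 1 := fun k n hk h => by
    rw [← T.six_class hF hω hk, T.fac_six hF hω, h]
  have hri := hone i n hi h1
  have hrj := hone j m hj h2
  obtain ⟨p, hp⟩ : ∃ p, Data.pairs p = (i, j) ∨ Data.pairs p = (j, i) := by
    revert hij; clear * -; revert i j; decide
  have hgen : ∀ g, ((Data.gen p g).map (T.fac hF ω)).prod = 1 := fun g => by
    have hp' : ((Data.six (Data.rep (Data.pairs p).1)).map (T.fac hF ω)).prod = 1 ∧
        ((Data.six (Data.rep (Data.pairs p).2)).map (T.fac hF ω)).prod = 1 := by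
      rcases hp with h | h <;> rw [h] <;> constructor <;> assumption
    rw [Data.gen]
    split_ifs
    exacts [T.fac_line hF hω _, hp'.1, hp'.2]
  set g9 : Fin 9 → G := fun i => T.fac hF ω (Data.free p i)
  set H := Subgroup.closure (Set.range g9) with hH
  have hmem : ∀ k, T.fac hF ω k ∈ H := fun k => by
    have h := prod_parity _ (T.fac_comm hF hω) (T.fac_sq hF hω) (Data.pivot_spec p k)
    rw [List.map_append, List.prod_append] at h
    have hg : (((Data.pivot p k).2.flatMap (Data.gen p)).map (T.fac hF ω)).prod = 1 := by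
      induction (Data.pivot p k).2 with
      | nil => simp
      | cons a l ih => rw [List.flatMap_cons, List.map_append, List.prod_append, ih, hgen, one_mul]
    rw [hg, mul_one, List.map_singleton, List.prod_singleton, List.map_map] at h
    rw [h]
    refine list_prod_mem ?_
    rintro _ hx
    obtain ⟨a, -, rfl⟩ := List.mem_map.1 hx
    exact Subgroup.subset_closure ⟨a, rfl⟩
  have hHle : H ≤ T.K.baseG := (Subgroup.closure_le _).2 (by
    rintro _ ⟨i, rfl⟩; exact mul_mem (T.z_mem_baseG hF hω) (T.trp_mem hF hω _).1)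
  have hcard : Nat.card ↥H ≤ 512 := card_closure_le g9 (fun i j => T.fac_comm hF hω _ _) fun i => T.fac_sq hF hω _
  -- every member is `d` times an element of `H`
  have hemb : ∀ a : Fin 3 → F, a ≠ 0 → d * T.tr hF (emb a) ∈ H := by
    intro a ha
    obtain ⟨a', rfl⟩ : ∃ a' : Fin 3 → Fin 4, (fun k => enc ω (a' k)) = a :=
      ⟨fun k => (enc_surjective hF hω (a k)).choose, funext fun k => (enc_surjective hF hω (a k)).choose_spec⟩
    have h3 : ![a' 0, a' 1, a' 2] = a' := funext fun k => by fin_cases k <;> rfl
    obtain ⟨k, e, he, hk⟩ := Data.pts_cover (a' 0) (a' 1) (a' 2) fun h => ha (funext fun k => by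
      rw [h3] at h; rw [h]; fin_cases k <;> simp [enc])
    rw [h3] at hk
    rw [vec_eq hω hk, map_smul, T.tr_smul hF hω (isPt_emb (vec_ne hF hω k))
      fun h0 => he (enc_injective hω (h0.trans (by simp [enc])))]
    exact hmem k
  have hdich : ∀ x ∈ T.K.baseG, x ∈ H ∨ d * x ∈ H := by
    intro x hx
    rw [← T.base_eq_closure hF hω] at hx
    induction hx using Subgroup.closure_induction with
    | mem y hy =>
      right
      rcases T.mem_om hF hω hy with rfl | ⟨a, ha, rfl⟩
      · rw [T.dd]; exact one_mem _
      · exact hemb a ha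
    | one => exact Or.inl (one_mem _)
    | mul a b ha hb iha ihb =>
      have hda : Commute d a := T.base_comm hF hω (T.z_mem_baseG hF hω) ((T.base_eq_closure hF hω) ▸ ha)
      rcases iha with h | h <;> rcases ihb with h' | h'
      · exact Or.inl (mul_mem h h')
      · right; rw [← mul_assoc, hda.eq, mul_assoc]; exact mul_mem h h'
      · right; rw [← mul_assoc]; exact mul_mem h h'
      · left
        have := mul_mem h h'
        rwa [hda.eq, mul_assoc a d, ← mul_assoc d d, T.dd, one_mul] at this
    | inv a ha iha =>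
      have hda : Commute d a := T.base_comm hF hω (T.z_mem_baseG hF hω) ((T.base_eq_closure hF hω) ▸ ha)
      rcases iha with h | h
      · exact Or.inl (inv_mem h)
      · right
        have := inv_mem h
        rwa [_root_.mul_inv_rev, T.inv_of_conj hF hω (IsConj.refl d), ← (hda.inv_right).eq] at this
  have hbase : Nat.card ↥T.K.baseG = 1024 := by
    rw [Cov.baseG, Subgroup.card_map_of_injective Subtype.val_injective, T.K.card_base hF hω]
  have hdH : d ∉ H := fun hd => by
    have hle : T.K.baseG ≤ H := fun x hx => (hdich x hx).elim id fun h => by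
      have := mul_mem hd h
      rwa [← mul_assoc, T.dd, one_mul] at this
    have := Subgroup.card_le_of_le hle
    omega
  refine T.K.no_split hF hω (H := H.subgroupOf _) (fun x hx => ?_) (fun h => hdH (T.hz ▸ Subgroup.mem_subgroupOf.1 h))
    ?_ fun m hm x hx => ?_
  · obtain ⟨y, hy, e⟩ := hHle (Subgroup.mem_subgroupOf.1 hx)
    exact Subtype.ext e ▸ hy
  · have hle : H ≤ Subgroup.centralizer ({d} : Set G) := hHle.trans (T.baseG_le_cent hF hω)
    rw [Nat.card_congr (Subgroup.subgroupOfEquivOfLe hle).toEquiv]
    have hs : Function.Surjective (fun p : ↥H × Bool => (⟨if p.2 then d * p.1 else p.1, by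
        split_ifs
        exacts [mul_mem (T.z_mem_baseG hF hω) (hHle p.1.2), hHle p.1.2]⟩ : ↥T.K.baseG)) := fun x => by
      rcases hdich x x.2 with h | h
      · exact ⟨(⟨_, h⟩, false), Subtype.ext (by simp)⟩
      · exact ⟨(⟨_, h⟩, true), Subtype.ext (show (if true = true then d * (d * (x : G)) else d * (x : G)) = (x : G) by
          rw [if_pos rfl, ← mul_assoc, T.dd, one_mul])⟩
    have := Nat.card_le_card_of_surjective _ hs
    rw [hbase, Nat.card_prod, Nat.card_eq_fintype_card (α := Bool), Fintype.card_bool] at this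
    omega
  · have hn := T.stab_le_N hF hω hm
    show (m : G) * (x : G) * (m : G)⁻¹ ∈ H
    have hx' : (x : G) ∈ H := hx
    generalize (x : G) = y at hx'
    induction hx' using Subgroup.closure_induction with
    | mem y hy =>
      obtain ⟨i, rfl⟩ := hy
      show (m : G) * (d * T.trp hF ω _) * (m : G)⁻¹ ∈ H
      rw [← conj_mul, (mem_cent.1 m.2).eq, mul_inv_cancel_right]
      have := T.om_conj hn (T.trp_mem hF hω (Data.free p i))
      rcases T.mem_om hF hω this with h | ⟨a, ha, h⟩
      · rw [h, T.dd]; exact one_mem _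
      · rw [h]; exact hemb a ha
    | one => simp
    | mul a b _ _ ha hb => rw [← conj_mul]; exact mul_mem ha hb
    | inv a _ ha => rw [← conj_inv]; exact inv_mem ha

end TC

end CfsgLib.TC22
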