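import Cfsg.Agent.TC22.Pairs
import Mathlib.Logic.Relation

/-!
The commuting graph on the class is connected.
-/

set_option autoImplicit false
set_option linter.unusedSectionVars false
set_option linter.style.haveILetI false

namespace CfsgLib.TC22

open Matrix CfsgLib.Unitary CfsgLib.ThreeT CfsgLib.ThreeT.SixTwo CfsgLib.SixPlane

variable {F : Type} [Field F] [CharP F 2] [Finite F] (hF : Nat.card F = 2 ^ 2) {ω : F}
  (hω : ω ^ 2 = ω + 1) {G : Type*} [Group G] [Finite G] {d : G} (T : TC F d)

/-- Adjacency in the commuting graph of the class. -/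
def Adj (d a b : G) : Prop := IsConj d a ∧ IsConj d b ∧ Commute a b

/-- Connectedness in the commuting graph of the class. -/
def Conn (d a b : G) : Prop := Relation.ReflTransGen (Adj d) a b

theorem Adj.symm' {a b : G} (h : Adj d a b) : Adj d b a := ⟨h.2.1, h.1, h.2.2.symm⟩

theorem Conn.of_middle {x y e : G} (hx : IsConj d x) (hy : IsConj d y) (he : IsConj d e) (h1 : Commute x y)
    (h2 : Commute e y) : Conn d x e :=
  (Relation.ReflTransGen.single ⟨hx, hy, h1⟩).tail ⟨hy, he, h2.symm⟩

theorem adj_conj (g : G) {a b : G} (h : Adj d a b) : Adj d (g * a * g⁻¹) (g * b * g⁻¹) :=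
  ⟨h.1.trans (isConj_iff.2 ⟨g, rfl⟩), h.2.1.trans (isConj_iff.2 ⟨g, rfl⟩), (Commute.conj_iff g).2 h.2.2⟩

theorem conn_conj (g : G) {a b : G} (h : Conn d a b) : Conn d (g * a * g⁻¹) (g * b * g⁻¹) := by
  induction h with
  | refl => exact Relation.ReflTransGen.refl
  | tail _ h ih => exact ih.tail (adj_conj g h)

namespace TC

include hF hω T

/-- A member commuting with the product of a commuting pair commutes with both. -/
theorem comm_pair {x p q : G} (hx : IsConj d x) (hp : IsConj d p) (hq : IsConj d q) (hpq : Commute p q)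
    (hne : p ≠ q) (h : Commute x (p * q)) : Commute x p ∧ Commute x q := by
  have key : Commute x p := by
    rcases T.pair_fixed hF hω hp hq hpq hne h with e | e
    · exact mul_inv_eq_iff_eq_mul.1 e
    by_contra hc
    have hxx := T.sq_of_conj hx
    have hxi := T.inv_of_conj hF hω hx
    have h2 : (x * p) ^ 2 = q * p := by
      rw [pow_two, show x * p * (x * p) = x * p * x * p by group]
      rw [hxi] at e; rw [e]
    have h4 : (x * p) ^ 4 = 1 := by
      rw [show (4 : ℕ) = 2 + 2 from rfl, pow_add, h2, hpq.mul_mul_mul_comm, T.sq_of_conj hq, T.sq_of_conj hp, one_mul]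
    have hodd := T.order_cases hF hω hx hp hc
    have hdvd : orderOf (x * p) ∣ 2 ^ 2 := orderOf_dvd_of_pow_eq_one h4
    obtain ⟨i, hi, ei⟩ := (Nat.dvd_prime_pow Nat.prime_two).1 hdvd
    rw [ei] at hodd
    rcases Nat.eq_zero_or_pos i with rfl | hi0
    · rw [pow_zero, orderOf_eq_one_iff] at ei
      exact hc (by rw [eq_inv_of_mul_eq_one_left ei]; exact (Commute.refl p).inv_left)
    · exact (Nat.not_even_iff_odd.2 hodd) (Nat.even_pow.2 ⟨even_two, hi0.ne'⟩)
  refine ⟨key, ?_⟩
  have := (key.inv_right).mul_right h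
  rwa [inv_mul_cancel_left] at this

/-- The commuting graph is connected. -/
theorem connected {x e : G} (hx : IsConj d x) (he : IsConj d e) : Conn d x e := by
  classical
  by_contra hbad
  haveI : Fact (Nat.Prime 2) := ⟨Nat.prime_two⟩
  let P : Subgroup G → Prop := fun W => IsPGroup 2 ↥W ∧ ∃ a b, IsConj d a ∧ IsConj d b ∧ ¬ Conn d a b ∧
    ∀ w ∈ W, Commute w a ∧ Commute w b
  have hne : ({W | P W} : Set (Subgroup G)).Nonempty :=
    ⟨⊥, IsPGroup.of_bot, x, e, hx, he, hbad, fun w hw => by
      rw [Subgroup.mem_bot.1 hw]; exact ⟨Commute.one_left _, Commute.one_left _⟩⟩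
  obtain ⟨W₀, hW₀, hmax⟩ := Set.exists_max_image {W | P W} (fun W : Subgroup G => Nat.card ↥W) (Set.toFinite _) hne
  clear hbad hx he x e
  obtain ⟨hp₀, x₀, e₀, hx₀, he₀, hnc₀, hcen₀⟩ := hW₀
  have hp1 : IsPGroup 2 ↥(W₀ ⊔ Subgroup.zpowers x₀) := by
    refine IsPGroup.to_sup_of_normal_left' hp₀ ?_ ?_
    · intro ⟨z, hz⟩
      obtain ⟨i, rfl⟩ := Subgroup.mem_zpowers_iff.1 hz
      exact ⟨1, Subtype.ext (show (x₀ ^ i) ^ (2 ^ 1) = 1 by
        rw [← zpow_natCast, zpow_comm, zpow_natCast, pow_one, pow_two, T.sq_of_conj hx₀, _root_.one_zpow])⟩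
    · rw [Subgroup.zpowers_le]
      refine Subgroup.mem_normalizer_fintype fun z hz => ?_
      rw [(hcen₀ z hz).1.symm.eq, mul_inv_cancel_right]
      exact hz
  obtain ⟨g, hg⟩ := T.two_group hF hω hp1
  -- move the configuration
  set W := W₀.map (MulAut.conj g).toMonoidHom with hW
  obtain ⟨x, hxdef⟩ : ∃ x, g * x₀ * g⁻¹ = x := ⟨_, rfl⟩
  obtain ⟨e, hedef⟩ : ∃ e, g * e₀ * g⁻¹ = e := ⟨_, rfl⟩
  have hx : IsConj d x := hxdef ▸ T.conj_mem hF hω g hx₀
  have he : IsConj d e := hedef ▸ T.conj_mem hF hω g he₀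
  have hnc : ¬ Conn d x e := fun h => hnc₀ (by
    simpa [← hxdef, ← hedef, mul_assoc] using conn_conj g⁻¹ h)
  have hWc : ∀ w ∈ W, Commute w x ∧ Commute w e := by
    rintro _ ⟨w, hw, rfl⟩
    rw [← hxdef, ← hedef]
    exact ⟨(Commute.conj_iff g).2 (hcen₀ w hw).1, (Commute.conj_iff g).2 (hcen₀ w hw).2⟩
  have hWN : W ≤ T.N := by
    rintro _ ⟨w, hw, rfl⟩
    exact (hg w (Subgroup.mem_sup_left hw)).1
  have hxom : x ∈ T.om := hxdef ▸ (hg x₀ (Subgroup.mem_sup_right (Subgroup.mem_zpowers x₀))).2 hx₀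
  have hWp : IsPGroup 2 ↥W := hp₀.map _
  have hWmax : ∀ W' : Subgroup G, P W' → W ≤ W' → W' = W := fun W' h' hle => by
    refine (Subgroup.eq_of_le_of_card_ge hle ?_).symm
    rw [hW, Subgroup.card_map_of_injective (MulAut.conj g).injective]
    exact hmax W' h'
  have hno : ∀ y ∈ W, ¬ IsConj d y := fun y hy hyd =>
    hnc (Conn.of_middle hx hyd he (hWc y hy).1.symm (hWc y hy).2.symm)
  have hno2 : ∀ p q : G, IsConj d p → IsConj d q → Commute p q → p * q ∈ W → p = q := by
    intro p q hp hq hpq hmem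
    by_contra hne
    exact hnc (Conn.of_middle hx hp he (T.comm_pair hF hω hx hp hq hpq hne (hWc _ hmem).1.symm).1
      (T.comm_pair hF hω he hp hq hpq hne (hWc _ hmem).2.symm).1)
  set Q := {y : G | y ∈ T.om ∧ ∀ w ∈ W, Commute w y}
  have hxQ : x ∈ Q := ⟨hxom, fun w hw => (hWc w hw).1⟩
  have habe : ∀ a ∈ T.om, ∀ b ∈ T.om, Commute a b := fun a ha b hb => T.base_comm hF hω ha.1 hb.1
  -- the third member
  have third : ∀ y ∈ Q, y ≠ x → ∃ s ∈ Q, s ≠ x ∧ s ≠ y ∧ x * y * s ∈ W := by
    intro y hy hyx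
    have hxy : Commute x y := habe x hxom y hy.1
    set z := x * y with hz
    have hzD : ¬ IsConj d z := T.prod_not_mem hF hω hx hy.1.2 hxy
    have hz1 : z ≠ 1 := fun h => hyx (by
      rw [eq_inv_of_mul_eq_one_right h, T.inv_of_conj hF hω hx])
    have hzz : z * z = 1 := by rw [hz, hxy.symm.mul_mul_mul_comm, T.sq_of_conj hx, T.sq_of_conj hy.1.2, one_mul]
    have hzi : z⁻¹ = z := inv_eq_of_mul_eq_one_right hzz
    have hee := T.sq_of_conj he
    have hei := T.inv_of_conj hF hω he
    have hzW : ∀ w ∈ W, Commute w z := fun w hw => (hWc w hw).1.mul_right (hy.2 w hw)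
    -- the reflections of the dihedral group
    have hshift : ∀ k j : ℕ, e * (e * z) ^ (k + 2 * j) = ((e * z) ^ j)⁻¹ * (e * (e * z) ^ k) * (e * z) ^ j := by
      intro k j
      have hi : e * (e * z) ^ j = ((e * z) ^ j)⁻¹ * e := by
        have : e * (e * z) ^ j * e⁻¹ = ((e * z) ^ j)⁻¹ := by
          rw [← conj_pow, show e * (e * z) * e⁻¹ = (e * z)⁻¹ by
            rw [← mul_assoc, hee, one_mul, _root_.mul_inv_rev, hzi, hei], inv_pow]
        rw [← this, inv_mul_cancel_right]
      rw [← mul_assoc ((e * z) ^ j)⁻¹ e, ← hi, mul_assoc, mul_assoc, ← pow_add, ← pow_add]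
      congr 2; omega
    have hrefl : ∀ k : ℕ, IsConj (e * (e * z) ^ k) e ∧ Even k ∨ IsConj (e * (e * z) ^ k) z ∧ Odd k := by
      intro k
      rcases Nat.even_or_odd k with ⟨j, hj⟩ | ⟨j, hj⟩
      · left
        refine ⟨isConj_iff.2 ⟨(e * z) ^ j, ?_⟩, ⟨j, hj⟩⟩
        rw [show k = 0 + 2 * j by omega, hshift, pow_zero, mul_one]; group
      · right
        refine ⟨isConj_iff.2 ⟨(e * z) ^ j, ?_⟩, ⟨j, hj⟩⟩
        rw [show k = 1 + 2 * j by omega, hshift, pow_one, ← mul_assoc e e z, hee, one_mul]; group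
    obtain ⟨m, hm⟩ : Even (orderOf (e * z)) := by
      by_contra hodd
      obtain ⟨m, hm⟩ := Nat.not_even_iff_odd.1 hodd
      rcases hrefl (orderOf (e * z)) with ⟨-, h⟩ | ⟨h, -⟩
      · exact hodd h
      · rw [pow_orderOf_eq_one, mul_one] at h
        exact hzD (he.trans h)
    set v := (e * z) ^ m with hv
    have hv1 : v ≠ 1 := by
      have := orderOf_pos (e * z)
      exact pow_ne_one_of_lt_orderOf (by omega) (by omega)
    have hvv : v * v = 1 := by rw [hv, ← pow_add, ← hm, pow_orderOf_eq_one]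
    have hvi : v⁻¹ = v := inv_eq_of_mul_eq_one_right hvv
    have hev : Commute e v := by
      refine mul_inv_eq_iff_eq_mul.1 ?_
      rw [hv, ← conj_pow, show e * (e * z) * e⁻¹ = (e * z)⁻¹ by
        rw [← mul_assoc, hee, one_mul, _root_.mul_inv_rev, hzi, hei], inv_pow, ← hv, hvi]
    have hzv : Commute z v := by
      have h := (hev.inv_left).mul_left ((Commute.refl (e * z)).pow_right m)
      rwa [inv_mul_cancel_left] at h
    have hvW : ∀ w ∈ W, Commute w v := fun w hw => ((hWc w hw).2.mul_right (hzW w hw)).pow_right m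
    rcases hrefl m with ⟨h, hev2⟩ | ⟨h, hodd⟩
    · -- `e v` is a member
      exfalso
      rw [← hv] at h
      have he' : IsConj d (e * v) := he.trans h.symm
      have hne' : e ≠ e * v := fun h' => hv1 (mul_eq_left.1 h'.symm)
      have hpair : e * (e * v) = v := by rw [← mul_assoc, hee, one_mul]
      rcases T.pair_fixed hF hω he he' ((Commute.refl e).mul_right hev) hne' (g := z) (hpair.symm ▸ hzv) with h' | h'
      · have hze : Commute z e := mul_inv_eq_iff_eq_mul.1 h'
        have h2 : (e * z) ^ 2 = 1 := by rw [pow_two, hze.mul_mul_mul_comm, hee, hzz, one_mul]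
        have hle := Nat.le_of_dvd (by norm_num) (orderOf_dvd_of_pow_eq_one h2)
        have hpos := orderOf_pos (e * z)
        rw [show m = 1 by omega] at hev2
        exact absurd hev2 (by decide)
      · have hp2 : IsPGroup 2 ↥(Subgroup.zpowers v ⊔ Subgroup.zpowers e ⊔ Subgroup.zpowers z) := by
          have hinv : ∀ {a : G}, a * a = 1 → IsPGroup 2 ↥(Subgroup.zpowers a) := fun {a} ha ⟨u, hu⟩ => by
            obtain ⟨i, rfl⟩ := Subgroup.mem_zpowers_iff.1 hu
            exact ⟨1, Subtype.ext (show (a ^ i) ^ (2 ^ 1) = 1 by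
              rw [← zpow_natCast, zpow_comm, zpow_natCast, pow_one, pow_two, ha, _root_.one_zpow])⟩
          refine IsPGroup.to_sup_of_normal_left' (IsPGroup.to_sup_of_normal_left' (hinv hvv) (hinv hee) ?_)
            (hinv hzz) ?_
          · rw [Subgroup.zpowers_le]
            refine Subgroup.mem_normalizer_fintype fun u hu => ?_
            obtain ⟨i, rfl⟩ := Subgroup.mem_zpowers_iff.1 hu
            rw [(hev.zpow_right i).eq, mul_inv_cancel_right]
            exact zpow_mem (Subgroup.mem_zpowers _) _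
          · rw [Subgroup.zpowers_le]
            refine Subgroup.mem_normalizer_fintype fun u hu => ?_
            rw [Subgroup.zpowers_eq_closure, Subgroup.zpowers_eq_closure, ← Subgroup.closure_union] at hu ⊢
            induction hu using Subgroup.closure_induction with
            | mem u hu =>
              rcases hu with hu | hu
              · obtain rfl : u = v := hu
                rw [hzv.eq, mul_inv_cancel_right]
                exact Subgroup.subset_closure (Or.inl rfl)
              · obtain rfl : u = e := hu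
                rw [h']
                exact mul_mem (Subgroup.subset_closure (Or.inr rfl)) (Subgroup.subset_closure (Or.inl rfl))
            | one => simp
            | mul a b _ _ ha hb => rw [← conj_mul]; exact mul_mem ha hb
            | inv a _ ha => rw [← conj_inv]; exact inv_mem ha
        obtain ⟨g', hg'⟩ := T.two_group hF hω hp2
        have hzN := (hg' z (Subgroup.mem_sup_right (Subgroup.mem_zpowers z))).1
        obtain ⟨y₀, hy₀, hc⟩ := T.invol_fix hF hω hzN (by rw [conj_mul, hzz, mul_one, mul_inv_cancel])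
        have hom := (hg' e (Subgroup.mem_sup_left (Subgroup.mem_sup_right (Subgroup.mem_zpowers e)))).2 he
        have c1 : Commute z (g'⁻¹ * y₀ * g') := by
          have := (Commute.conj_iff g'⁻¹).2 hc
          rwa [inv_inv, show g'⁻¹ * (g' * z * g'⁻¹) * g' = z by group] at this
        have c2 : Commute e (g'⁻¹ * y₀ * g') := by
          have := (Commute.conj_iff g'⁻¹).2 (habe _ hom _ hy₀)
          rwa [inv_inv, show g'⁻¹ * (g' * e * g'⁻¹) * g' = e by group] at this
        have hy' : IsConj d (g'⁻¹ * y₀ * g') := by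
          have := T.conj_mem hF hω g'⁻¹ hy₀.2
          rwa [inv_inv] at this
        exact hnc (Conn.of_middle hx hy' he (T.comm_pair hF hω hy' hx hy.1.2 hxy (Ne.symm hyx) c1.symm).1.symm c2)
    -- `z v` is a member
    have hs' : IsConj d (z * v) := by
      rw [← hv] at h
      have h1 : (e * z) ^ (m + 1) = v * (e * z) := by rw [pow_succ]
      rcases hrefl (m + 1) with ⟨h2, -⟩ | ⟨-, h2⟩
      · rw [pow_succ', ← hv, show e * (e * z * v) = z * v by rw [← mul_assoc, ← mul_assoc, hee, one_mul]] at h2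
        exact he.trans h2.symm
      · exact absurd h2 (Nat.not_odd_iff_even.2 (by obtain ⟨j, rfl⟩ := hodd; exact ⟨j + 1, by omega⟩))
    obtain ⟨hsx, hsy⟩ := T.comm_pair hF hω hs' hx hy.1.2 hxy (Ne.symm hyx) ((Commute.refl z).mul_left hzv.symm)
    have hvx : Commute v x := by
      have := ((Commute.refl x).mul_left hxy.symm).inv_left.mul_left hsx
      rwa [← hz, inv_mul_cancel_left] at this
    have hvW' : v ∈ W := by
      have hv2 : IsPGroup 2 ↥(Subgroup.zpowers v) := fun ⟨u, hu⟩ => by
        obtain ⟨i, rfl⟩ := Subgroup.mem_zpowers_iff.1 hu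
        exact ⟨1, Subtype.ext (show (v ^ i) ^ (2 ^ 1) = 1 by
          rw [← zpow_natCast, zpow_comm, zpow_natCast, pow_one, pow_two, hvv, _root_.one_zpow])⟩
      have hP' : P (W ⊔ Subgroup.zpowers v) := by
        refine ⟨IsPGroup.to_sup_of_normal_left' hWp hv2 ?_, x, e, hx, he, hnc, fun w hw => ?_⟩
        · rw [Subgroup.zpowers_le]
          refine Subgroup.mem_normalizer_fintype fun u hu => ?_
          rw [(hvW u hu).symm.eq, mul_inv_cancel_right]
          exact hu
        · rw [Subgroup.zpowers_eq_closure, ← Subgroup.closure_eq W, ← Subgroup.closure_union] at hw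
          induction hw using Subgroup.closure_induction with
          | mem u hu =>
            rcases hu with hu | hu
            · exact hWc u hu
            · obtain rfl : u = v := hu; exact ⟨hvx, hev.symm⟩
          | one => exact ⟨Commute.one_left _, Commute.one_left _⟩
          | mul a b _ _ ha hb => exact ⟨ha.1.mul_left hb.1, ha.2.mul_left hb.2⟩
          | inv a _ ha => exact ⟨ha.1.inv_left, ha.2.inv_left⟩
      rw [← hWmax _ hP' le_sup_left]
      exact Subgroup.mem_sup_right (Subgroup.mem_zpowers v)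
    have hsN : z * v ∈ T.N := mul_mem (Subgroup.le_normalizer (mul_mem hxom.1 hy.1.1)) (hWN hvW')
    refine ⟨z * v, ⟨⟨T.conj_N hF hω hs' hsN, hs'⟩, fun w hw => (hzW w hw).mul_right (hvW w hw)⟩, ?_, ?_, ?_⟩
    · intro h'
      have : v = y := by
        have h3 := congrArg (fun t => x * t) h'
        simp only [hz, ← mul_assoc, T.sq_of_conj hx, one_mul] at h3
        rw [← inv_mul_cancel_left y v, h3, mul_one, T.inv_of_conj hF hω hy.1.2]
      exact hno v hvW' (this ▸ hy.1.2)
    · intro h'
      have : v = z * y := by rw [← h', ← mul_assoc, hzz, one_mul]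
      rw [hz, mul_assoc, T.sq_of_conj hy.1.2, mul_one] at this
      exact hno v hvW' (this ▸ hx)
    · rw [← mul_assoc, hzz, one_mul]; exact hvW'
  have huniq : ∀ y s s', s ∈ Q → s' ∈ Q → y ∈ Q → x * y * s ∈ W → x * y * s' ∈ W → s = s' := by
    intro y s s' hs hs' hy h h'
    refine hno2 s s' hs.1.2 hs'.1.2 (habe s hs.1 s' hs'.1) ?_
    have := mul_mem (inv_mem h) h'
    rwa [_root_.mul_inv_rev, mul_assoc, inv_mul_cancel_left, T.inv_of_conj hF hω hs.1.2] at this
  choose! f hfQ hfx hfy hfW using third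
  have heven := T.even_fixed hF hω hWp hWN
  change Even Q.ncard at heven
  have hodd : Odd (Q \ {x}).ncard := by
    have h1 := Set.ncard_sdiff_singleton_add_one hxQ (Set.toFinite Q)
    rw [← h1] at heven
    exact Nat.not_even_iff_odd.1 (Nat.even_add_one.1 heven)
  haveI := Fintype.ofFinite G
  set S := (Q \ {x}).toFinset with hS
  have hz : (∑ _y ∈ S, (1 : ZMod 2)) = 0 := by
    refine Finset.sum_involution (fun y _ => f y) (fun _ _ => CharTwo.add_self_eq_zero 1) (fun y hy _ => ?_) (fun y hy => ?_)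
      (fun y hy => ?_)
    · rw [hS, Set.mem_toFinset] at hy
      exact hfy y hy.1 hy.2
    · rw [hS, Set.mem_toFinset] at hy ⊢
      exact ⟨hfQ y hy.1 hy.2, hfx y hy.1 hy.2⟩
    · rw [hS, Set.mem_toFinset] at hy
      have h1 := hfQ y hy.1 hy.2
      have h2 := hfW y hy.1 hy.2
      refine huniq (f y) _ y (hfQ _ h1 (hfx y hy.1 hy.2)) hy.1 h1 (hfW _ h1 (hfx y hy.1 hy.2)) ?_
      rwa [mul_assoc, (habe (f y) h1.1 y hy.1.1).eq, ← mul_assoc]
  rw [Finset.sum_const, nsmul_one, ZMod.natCast_eq_zero_iff_even, hS, ← Set.ncard_eq_toFinset_card'] at hz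
  exact Nat.not_even_iff_odd.2 hodd hz

end TC

end CfsgLib.TC22
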