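import Cfsg.Agent.TC22.Classes

/-!
The key lemma: among the common neighbours of two members that do not commute, any transvection orthogonal to none
of a given point is avoided by at least one.
-/

set_option autoImplicit false
set_option linter.unusedSectionVars false
set_option linter.style.haveILetI false

namespace CfsgLib.TC22

open Matrix CfsgLib.Unitary CfsgLib.ThreeT CfsgLib.ThreeT.SixTwo CfsgLib.SixPlane

/-- The code of a pattern. -/
def encode (μ : Fin 5 → Fin 4) : ℕ :=
  (μ 0).val + 4 * (μ 1).val + 16 * (μ 2).val + 64 * (μ 3).val + 256 * (μ 4).val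

theorem encode_spec (μ : Fin 5 → Fin 4) : encode μ < 1024 ∧ ∀ i, Data.dig (encode μ) i = μ i := by
  have h := fun i => (μ i).isLt
  have h0 := h 0; have h1 := h 1; have h2 := h 2; have h3 := h 3; have h4 := h 4
  refine ⟨by unfold encode; omega, fun i => Fin.ext ?_⟩
  simp only [Data.dig, encode]
  fin_cases i <;> simp <;> omega

theorem inv4_cancel : ∀ c x : Fin 4, c ≠ 0 → mul4 (Data.inv4 c) (mul4 c x) = x := by decide

theorem perm_two : ∀ a b : Fin 4, a ≠ b →
    ∃ c e : Fin 4, ∀ i j, (![a, b, c, e] : Fin 4 → Fin 4) i = ![a, b, c, e] j → i = j := by decide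

theorem look_mem {s : List (Fin 45 × Fin 4)} {j : Fin 45} {x : Fin 4} (h : Data.look s j = some x) :
    (j, x) ∈ s := by
  induction s with
  | nil => simp [Data.look] at h
  | cons p s ih =>
    obtain ⟨i, v⟩ := p
    simp only [Data.look] at h
    split_ifs at h with hij
    · cases h; rw [hij]; exact List.mem_cons_self
    · exact List.mem_cons_of_mem _ (ih h)

theorem extend_some {f : Fin 45 → Fin 4} (hf : ∀ j, f j ≠ 0) :
    ∀ (l s : List (Fin 45 × Fin 4)), (∀ p ∈ l, p.2 = f p.1) → (∀ p ∈ s, p.2 = f p.1) →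
      ∃ s', Data.extend l s = some s' ∧ ∀ p ∈ s', p.2 = f p.1
  | [], s, _, hs => ⟨s, rfl, hs⟩
  | (j, v) :: r, s, hl, hs => by
    obtain rfl : v = f j := hl _ List.mem_cons_self
    simp only [Data.extend, if_neg (hf j)]
    cases h : Data.look s j with
    | none =>
      dsimp only
      exact extend_some hf r _ (fun p hp => hl p (List.mem_cons_of_mem _ hp))
        (List.forall_mem_cons.2 ⟨rfl, hs⟩)
    | some x =>
      obtain rfl : x = f j := hs _ (look_mem h)
      dsimp only
      rw [if_pos rfl]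
      exact extend_some hf r s (fun p hp => hl p (List.mem_cons_of_mem _ hp)) hs

theorem check_sound {κ : Fin 3} {f : Fin 45 → Fin 4} (hf : ∀ j, f j ≠ 0) (N : Fin 27 → ℕ)
    (hN : ∀ L, N L ∈ Data.patt κ) (hA : ∀ L, ∀ p ∈ Data.assigns L (N L), p.2 = f p.1) :
    ∀ (k : ℕ) (t : Data.Tree) (s : List (Fin 45 × Fin 4)), Data.check κ k t s = true →
      (∀ p ∈ s, p.2 = f p.1) → False
  | 0, t, s, h, _ => by simp [Data.check] at h
  | k + 1, .node L kids, s, h, hs => by
    simp only [Data.check, Bool.and_eq_true, beq_iff_eq, List.all_eq_true] at h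
    obtain ⟨s', he, hs'⟩ := extend_some hf _ s (hA L) hs
    have hm : s' ∈ (Data.patt κ).filterMap fun n => Data.extend (Data.assigns L n) s :=
      List.mem_filterMap.2 ⟨_, hN L, he⟩
    obtain ⟨i, hi, e⟩ := List.getElem_of_mem hm
    have hi' : i < (List.ofFn kids).length := h.1 ▸ hi
    exact check_sound hf N hN hA k ((List.ofFn kids)[i]) s' (h.2 (s', (List.ofFn kids)[i]) (List.mem_iff_getElem.2
      ⟨i, by rw [List.length_zip]; exact lt_min hi hi', by simp [e]⟩)) hs'

variable {F : Type} [Field F] [CharP F 2] [Finite F] (hF : Nat.card F = 2 ^ 2) {ω : F}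
  (hω : ω ^ 2 = ω + 1) {G : Type*} [Group G] [Finite G] {d : G} (T : TC F d)

local notation "V" => Fin 6 → F
local notation "hh" => Cfsg.hermForm 6 F 2
local notation "π" => QuotientGroup.mk' (Subgroup.center (Cfsg.SU 6 F 2))

/-- A vector from a scalar and four coordinates. -/
def vec4 (ω : F) (l : Fin 4) (x : Fin 4 → Fin 4) : Fin 6 → F :=
  ![enc ω l, enc ω l, enc ω (x 0), enc ω (x 1), enc ω (x 2), enc ω (x 3)]

include hF hω

theorem enc_h4 (x u : Fin 4 → Fin 4) : enc ω (Data.h4 x u) =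
    enc ω (x 0) * enc ω (u 0) ^ 2 + enc ω (x 1) * enc ω (u 1) ^ 2 + enc ω (x 2) * enc ω (u 2) ^ 2 +
      enc ω (x 3) * enc ω (u 3) ^ 2 := by
  simp only [Data.h4, Data.sqr, enc_add hω, enc_mul hω, pow_two]

theorem hh_vec4 (l m : Fin 4) (x u : Fin 4 → Fin 4) :
    hh (vec4 ω l x) (vec4 ω m u) = enc ω (Data.h4 x u) := by
  rw [enc_h4 hF hω]
  simp [vec4, Cfsg.hermForm, Fin.sum_univ_six]
  linear_combination (enc ω l * enc ω m ^ 2) * CharTwo.two_eq_zero (R := F)

theorem hh_vec4_bu (l : Fin 4) (x : Fin 4 → Fin 4) : hh (vec4 ω l x) (bu 0) = 0 := by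
  simp [vec4, bu, emb, Cfsg.hermForm, Fin.sum_univ_six, CharTwo.add_self_eq_zero]

theorem hh_vec4_dd0 (l : Fin 4) (x : Fin 4 → Fin 4) : hh (vec4 ω l x) (dd0 ω) = enc ω l := by
  have e2 : (2 : F) = 0 := CharTwo.two_eq_zero
  simp [vec4, dd0, Cfsg.hermForm, Fin.sum_univ_six]
  grind

theorem vec4_smul (c l : Fin 4) (x : Fin 4 → Fin 4) :
    vec4 ω (mul4 c l) (fun k => mul4 c (x k)) = enc ω c • vec4 ω l x := by
  funext i; fin_cases i <;> simp [vec4, enc_mul hω]

theorem vec4_line (l : Fin 4) (x : Fin 4 → Fin 4) :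
    vec4 ω l x = enc ω l • bu 0 + (1 : F) • vec4 ω 0 x := by
  funext i; fin_cases i <;> simp [vec4, bu, emb, enc]

theorem vec4_prop {l m : Fin 4} {i j : Fin 45} {a : F}
    (e : vec4 ω l (Data.pts45 i) = a • vec4 ω m (Data.pts45 j)) : i = j := by
  obtain ⟨a', rfl⟩ := enc_surjective hF hω a
  refine Data.pts45_first i j a' fun k => enc_injective hω ?_
  rw [enc_mul hω]
  fin_cases k
  exacts [congrFun e 2, congrFun e 3, congrFun e 4, congrFun e 5]

theorem vec4_ne_bu (l : Fin 4) (j : Fin 45) (a : F) : vec4 ω l (Data.pts45 j) ≠ a • bu 0 := by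
  intro e
  obtain ⟨i, hi⟩ := exists_ne j
  refine hi (Data.pts45_first j i 0 fun k => enc_injective hω ?_).symm
  rw [enc_mul hω, show enc ω (0 : Fin 4) = 0 from rfl, zero_mul]
  fin_cases k
  exacts [by simpa [vec4, bu, emb] using congrFun e 2, by simpa [vec4, bu, emb] using congrFun e 3,
    by simpa [vec4, bu, emb] using congrFun e 4, by simpa [vec4, bu, emb] using congrFun e 5]

theorem vec4_pt (l : Fin 4) (j : Fin 45) : IsPt (vec4 ω l (Data.pts45 j)) :=
  ⟨fun e => vec4_ne_bu hF hω l j 0 (by rw [e, zero_smul]), by rw [hh_vec4 hF hω, Data.pts45_iso]; rfl⟩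

theorem act_word (l : Fin 4) (x : Fin 4 → Fin 4) : ∀ w : List (Fin 45),
    suMat (w.map fun u => tv hF (vec4 ω 0 (Data.pts45 u))).prod *ᵥ vec4 ω l x = vec4 ω l (Data.act w x)
  | [] => by simp [suMat_one, Data.act]
  | u :: w => by
    have hp : IsPt (vec4 ω 0 (Data.pts45 u)) := vec4_pt hF hω 0 u
    rw [List.map_cons, List.prod_cons, suMat_mul, ← Matrix.mulVec_mulVec, act_word l x w, tv_apply hF hp.2,
      hh_vec4 hF hω]
    funext i
    fin_cases i <;> simp [vec4, Data.act, Data.tv4, enc_add hω, enc_mul hω, show enc ω (0 : Fin 4) = 0 from rfl]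

namespace TC

include T

theorem bu_pt : IsPt (bu (F := F) 0) := isPt_emb fun e => one_ne_zero (α := F) (by simpa using congrFun e 0)

/-- The common neighbours of `d`, `e` and `tr (bu 0)`. -/
theorem ncard_common_three' {e : G} (he : IsConj d e) (hed : ¬ Commute e d)
    (hez : Commute e (T.tr hF (bu 0))) :
    45 ≤ {x : G | IsConj d x ∧ Commute x d ∧ Commute x e ∧ Commute x (T.tr hF (bu 0)) ∧
      x ≠ T.tr hF (bu 0)}.ncard := by
  have h₀ : IsPt (bu (F := F) 0) := T.bu_pt hF hω
  set z := T.tr hF (bu 0)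
  obtain ⟨g, hg⟩ := T.exists_conj hF hω (T.isConj_tr hF hω h₀)
  have hto : ∀ {x : G}, IsConj d x → Commute x z → x ≠ z → ∃ s : V, IsPt s ∧ g * x * g⁻¹ = T.tr hF s :=
    fun {x} hx hc hne => by
    refine T.exists_tr_ne hF hω (T.conj_mem hF hω g hx) ?_ fun e => hne (mul_left_cancel (mul_right_cancel (e.trans hg.symm)))
    have h := (Commute.conj_iff g).2 hc
    rwa [hg] at h
  obtain ⟨a, ha, ea⟩ := hto (IsConj.refl d) (T.tr_cent hF _).symm (Ne.symm (T.tr_ne hF hω h₀))
  obtain ⟨b, hb, eb⟩ := hto he hez fun e' => hed (e' ▸ T.tr_cent hF _)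
  have hab : hh a b ≠ 0 := fun h => hed (by
    rw [← T.tr_commute_iff hF hω ha hb, ← ea, ← eb, Commute.conj_iff] at h
    exact h.symm)
  have hcard := SixTwo.ncard_common hF ⟨a, ha, rfl⟩ ⟨b, hb, rfl⟩ (fun h => hab ((comm_pi hF ha hb).1 h))
  rw [← hcard]
  choose! r hrpt hre using fun (P : Cfsg.PSU 6 F 2) (h : P ∈ tvSet hF) => h
  refine Set.ncard_le_ncard_of_injOn (fun P => g⁻¹ * T.tr hF (r P) * g) ?_ ?_ (Set.toFinite _)
  · rintro P ⟨hP, hPa, hPb⟩
    have hr := hrpt P hP
    have e0 : g * (g⁻¹ * T.tr hF (r P) * g) * g⁻¹ = T.tr hF (r P) := by group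
    rw [← hre P hP, comm_pi hF hr ha] at hPa
    rw [← hre P hP, comm_pi hF hr hb] at hPb
    refine ⟨?_, ?_, ?_, ?_, ?_⟩
    · simpa using T.conj_mem hF hω g⁻¹ (T.isConj_tr hF hω hr)
    · exact (Commute.conj_iff g).1 (by rw [e0, ea]; exact (T.tr_commute_iff hF hω hr ha).2 hPa)
    · exact (Commute.conj_iff g).1 (by rw [e0, eb]; exact (T.tr_commute_iff hF hω hr hb).2 hPb)
    · refine (Commute.conj_iff g).1 ?_
      rw [e0]
      exact hg.symm ▸ T.tr_cent hF _
    · intro h
      exact T.tr_ne hF hω hr (by rw [← e0, h, hg])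
  · intro P hP Q hQ h
    have h' : T.tr hF (r P) = T.tr hF (r Q) := mul_left_cancel (mul_right_cancel h)
    rw [← hre P hP.1, ← hre Q hQ.1, ← T.phi_tr hF hω (hrpt P hP.1), ← T.phi_tr hF hω (hrpt Q hQ.1),
      show T.K.kk hF (T.base₀ hF) (r P) = T.K.kk hF (T.base₀ hF) (r Q) from Subtype.ext h']

/-- The common neighbours of `d`, `e` and `tr (bu 0)` form the graph of a function on the forty-five points. -/
theorem exists_fun {e : G} (he : IsConj d e) (hed : ¬ Commute e d) (hez : Commute e (T.tr hF (bu 0))) :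
    ∃ f : Fin 45 → Fin 4, ∀ l j, Commute e (T.tr hF (vec4 ω l (Data.pts45 j))) ↔ l = f j := by
  classical
  have h₀ : IsPt (bu (F := F) 0) := T.bu_pt hF hω
  set z := T.tr hF (bu 0) with hz
  set pt : Fin 4 → Fin 45 → V := fun l j => vec4 ω l (Data.pts45 j) with hpt
  have hptp : ∀ l j, IsPt (pt l j) := fun l j => vec4_pt hF hω l j
  -- at most one member on each line
  have hone : ∀ j l m, Commute e (T.tr hF (pt l j)) → Commute e (T.tr hF (pt m j)) → l = m := by
    intro j l m hl hm
    by_contra hne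
    obtain ⟨c, c', hinj⟩ := perm_two l m hne
    set v : Fin 5 → V := Fin.cons (bu 0) fun i => pt (![l, m, c, c'] i) j with hv
    have hvp : ∀ i, IsPt (v i) := Fin.cases (by simpa [v] using h₀) (fun i => by simpa [v] using hptp _ j)
    have hvo : ∀ i k, hh (v i) (v k) = 0 := fun i k => by
      refine Fin.cases ?_ (fun i => ?_) i <;> refine Fin.cases ?_ (fun k => ?_) k
      · simpa [v] using h₀.2
      · simpa [v, pt] using (hh_comm hF).1 (hh_vec4_bu hF hω _ _)
      · simpa [v, pt] using hh_vec4_bu hF hω _ _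
      · simp [v, pt, hh_vec4 hF hω, Data.pts45_iso, enc]
    have hvm : ∀ i, ∃ a b : F, v i = a • bu 0 + b • pt 0 j := Fin.cases ⟨1, 0, by simp [v]⟩
      (fun i => ⟨enc ω (![l, m, c, c'] i), 1, by simp [v, pt, vec4_line hF hω (![l, m, c, c'] i)]⟩)
    have hvd : ∀ i k, i ≠ k → ∀ a : F, v i ≠ a • v k := fun i k => by
      refine Fin.cases ?_ (fun i => ?_) i <;> refine Fin.cases ?_ (fun k => ?_) k
      · exact fun h => absurd rfl h
      · intro _ a e'
        simp only [v, pt, Fin.cons_zero, Fin.cons_succ] at e'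
        have h2 := congrArg (fun x => a⁻¹ • x) e'
        have ha : a ≠ 0 := fun h0 => h₀.1 (by rw [e', h0, zero_smul])
        simp only [smul_smul, inv_mul_cancel₀ ha, one_smul] at h2
        exact vec4_ne_bu hF hω _ j a⁻¹ h2.symm
      · intro _ a e'
        simp only [v, pt, Fin.cons_zero, Fin.cons_succ] at e'
        exact vec4_ne_bu hF hω _ j a e'
      · intro hik a e'
        simp only [v, pt, Fin.cons_succ] at e'
        refine hik (congrArg Fin.succ (hinj i k ?_))
        have h2 := congrFun e' 2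
        have h3 := congrFun e' 3
        have h4 := congrFun e' 4
        have h5 := congrFun e' 5
        have h0 := congrFun e' 0
        obtain ⟨a', rfl⟩ := enc_surjective hF hω a
        simp only [vec4, Pi.smul_apply, smul_eq_mul, Matrix.cons_val, ← enc_mul hω,
          (enc_injective hω).eq_iff] at h0 h2 h3 h4 h5
        have h1 : a' = 1 := by
          have key : ∀ (a' : Fin 4) (j : Fin 45), (∀ t, Data.pts45 j t = mul4 a' (Data.pts45 j t)) → a' = 1 := by
            decide +kernel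
          exact key a' j fun t => by fin_cases t; exacts [h2, h3, h4, h5]
        rw [h1] at h0
        exact h0.trans ((by decide : ∀ y : Fin 4, mul4 1 y = y) _)
    have h1 := line_five hF h₀.2 (hptp 0 j).2 (by simpa [pt] using (hh_comm hF).1 (hh_vec4_bu hF hω 0 _)) hvp hvm hvd
    exact T.five_excl hF hω hvp hvo hvd h1 he hed (by simpa [v] using hez)
      (show Commute e (T.tr hF (pt l j)) from hl) (show Commute e (T.tr hF (pt m j)) from hm)
  -- every line carries one
  set S : Set (Fin 4 × Fin 45) := {p | Commute e (T.tr hF (pt p.1 p.2))} with hS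
  have hcover : {x : G | IsConj d x ∧ Commute x d ∧ Commute x e ∧ Commute x z ∧ x ≠ z} ⊆
      (fun p : Fin 4 × Fin 45 => T.tr hF (pt p.1 p.2)) '' S := by
    rintro x ⟨hx, hxd, hxe, hxz, hne⟩
    obtain ⟨v, hv, rfl⟩ := T.exists_tr_ne hF hω hx hxd fun h => hed (h ▸ hxe).symm
    have hv0 := (T.tr_commute_iff hF hω hv h₀).1 hxz
    have h01 : v 0 = v 1 := by
      simp [bu, emb, Cfsg.hermForm, Fin.sum_univ_six] at hv0
      exact CharTwo.add_eq_zero.1 hv0
    choose n hn using fun i => enc_surjective hF hω (v i)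
    have hvv : v = vec4 ω (n 0) ![n 2, n 3, n 4, n 5] := funext fun i => by
      fin_cases i <;> simp [vec4, hn, h01]
    have hiso : Data.h4 ![n 2, n 3, n 4, n 5] ![n 2, n 3, n 4, n 5] = 0 := enc_injective hω (by
      rw [← hh_vec4 hF hω (n 0) (n 0), ← hvv, hv.2]; rfl)
    have hne0 : ![n 2, n 3, n 4, n 5] ≠ ![0, 0, 0, 0] := fun h0 => hne (by
      have hv' : v = enc ω (n 0) • bu 0 := by
        rw [hvv, h0]; funext i; fin_cases i <;> simp [vec4, bu, emb, enc]
      rw [hv', T.tr_smul hF hω h₀ fun hc => hv.1 (by rw [hv', hc, zero_smul])])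
    obtain ⟨j, s, hs, hj⟩ := Data.pts45_cover _ _ _ _ hiso hne0
    refine ⟨(mul4 (Data.inv4 s) (n 0), j), ?_, ?_⟩ <;>
      have hvs : v = enc ω s • pt (mul4 (Data.inv4 s) (n 0)) j := by
        rw [hvv, show pt (mul4 (Data.inv4 s) (n 0)) j = vec4 ω (mul4 (Data.inv4 s) (n 0)) (Data.pts45 j) from rfl,
          ← vec4_smul hF hω, show (fun k => mul4 s (Data.pts45 j k)) = ![n 2, n 3, n 4, n 5] from funext fun k => (hj k).symm]
        congr 1
        exact ((by decide : ∀ c x : Fin 4, c ≠ 0 → mul4 c (mul4 (Data.inv4 c) x) = x) s (n 0) hs).symm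
    · show Commute e _
      rw [hvs, T.tr_smul hF hω (hptp _ _) fun h0 => hs (enc_injective hω h0)] at hxe
      exact hxe.symm
    · rw [hvs, T.tr_smul hF hω (hptp _ _) fun h0 => hs (enc_injective hω h0)]
  have hinjS : Set.InjOn Prod.snd S := fun p hp q hq h => Prod.ext (hone p.2 p.1 q.1 hp (h ▸ hq)) h
  have h45 : 45 ≤ (Prod.snd '' S).ncard := by
    rw [hinjS.ncard_image]
    exact ((T.ncard_common_three' hF hω he hed hez).trans (Set.ncard_le_ncard hcover (Set.toFinite _))).trans
      (Set.ncard_image_le (Set.toFinite _))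
  have huniv : Prod.snd '' S = Set.univ := Set.eq_of_subset_of_ncard_le (Set.subset_univ _)
    (by rw [Set.ncard_univ, Nat.card_fin]; exact h45) (Set.toFinite _)
  have hex : ∀ j, ∃ l, Commute e (T.tr hF (pt l j)) := fun j => by
    obtain ⟨⟨l, k⟩, hl, rfl⟩ := (huniv ▸ Set.mem_univ j : j ∈ Prod.snd '' S)
    exact ⟨l, hl⟩
  choose f hf using hex
  exact ⟨f, fun l j => ⟨fun h => hone j l (f j) h (hf j), fun h => h ▸ hf j⟩⟩

/-- The patterns of such a function on the lines. -/
theorem fun_six {e : G} (he : IsConj d e) (hed : ¬ Commute e d) (hez : Commute e (T.tr hF (bu 0)))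
    {f : Fin 45 → Fin 4} (hf : ∀ j, Commute e (T.tr hF (vec4 ω (f j) (Data.pts45 j)))) {κ : Fin 3}
    (hκ : ∀ n < 1024, ((Data.six n).map (T.trp hF ω)).prod = 1 → n ∈ Data.patt κ) (L : Fin 27) :
    encode (fun i => mul4 (Data.img L i).2 (f (Data.img L i).1)) ∈ Data.patt κ := by
  classical
  have h₀ : IsPt (bu (F := F) 0) := T.bu_pt hF hω
  let μ : Fin 27 → Fin 5 → Fin 4 := fun L i => mul4 (Data.img L i).2 (f (Data.img L i).1)
  set pt : Fin 4 → Fin 45 → V := fun l j => vec4 ω l (Data.pts45 j) with hpt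
  have hptp : ∀ l j, IsPt (pt l j) := fun l j => vec4_pt hF hω l j
  refine hκ _ (encode_spec _).1 ?_
  -- the six of the line, moved to the standard plane
  set g : Cfsg.SU 6 F 2 := ((Data.words L).map fun u => tv hF (vec4 ω 0 (Data.pts45 u))).prod with hg
  obtain ⟨c, hc⟩ := T.K.surj (π g)
  have hgb : suMat g *ᵥ bu 0 = bu 0 := by
    have h := act_word hF hω 1 (fun _ => 0) (Data.words L)
    have hb : bu (F := F) 0 = vec4 ω 1 (fun _ => 0) := by
      funext i; fin_cases i <;> simp [bu, emb, vec4, enc]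
    rw [hb, hg, h]
    congr 1
    generalize Data.words L = w
    induction w with
    | nil => rfl
    | cons u w ih =>
      rw [show Data.act (u :: w) (fun _ => 0) = Data.tv4 (Data.pts45 u) (Data.act w (fun _ => 0)) from rfl, ih]
      funext k
      exact (by decide +kernel : ∀ u k, Data.tv4 (Data.pts45 u) (fun _ => 0) k = 0) u k
  set w : Fin 5 → V := fun i => vec4 ω (μ L i) (Data.q4 i) with hw
  have hwg : ∀ i, suMat g *ᵥ w i = enc ω (Data.img L i).2 • pt (f (Data.img L i).1) (Data.img L i).1 := fun i => by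
    rw [hg, hw, act_word hF hω, show pt (f (Data.img L i).1) (Data.img L i).1 = vec4 ω _ _ from rfl,
      ← vec4_smul hF hω, show Data.act (Data.words L) (Data.q4 i) =
        fun k => mul4 (Data.img L i).2 (Data.pts45 (Data.img L i).1 k) from funext (Data.act_spec L i)]
  have hne : ∀ i, enc ω (Data.img L i).2 ≠ 0 := fun i h0 => (Data.img_ne L i).1 (enc_injective hω h0)
  have hvec : ∀ i, w i = emb (fun k => enc ω (![μ L i, (Data.q2 i).1, (Data.q2 i).2] k)) := fun i => by
    funext k; fin_cases k <;> simp [w, vec4, emb, Data.q4]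
  have hsix := T.six_one hF hω h₀ (v := fun i => pt (f (Data.img L i).1) (Data.img L i).1)
    (fun i => hptp _ _) (fun i => hh_vec4_bu hF hω _ _) (fun i a => vec4_ne_bu hF hω _ _ a)
    (fun i k => by rw [hh_vec4 hF hω, Data.img_perp]; rfl)
    (fun i k hik a e' => hik ((Data.img_ne L i).2 k (vec4_prop hF hω e'))) he hed hez (fun i => hf _)
  have hwp : ∀ i, IsPt (w i) := fun i => by
    rw [hvec i]
    refine isPt_emb fun h0 => ?_
    have h1 := congrFun h0 1
    have h2 := congrFun h0 2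
    simp at h1 h2
    have := enc_injective hω (h1.trans (show (0 : F) = enc ω 0 from rfl))
    have := enc_injective hω (h2.trans (show (0 : F) = enc ω 0 from rfl))
    revert this
    fin_cases i <;> simp_all [Data.q2]
  have hconj : (c : G) * T.tr hF (bu 0) * (c : G)⁻¹ = T.tr hF (bu 0) := by
    rw [T.tr_conj hF hω hc h₀, hgb]
  have hprod : (c : G) * (List.ofFn fun i => T.tr hF (w i)).prod * (c : G)⁻¹ =
      (List.ofFn fun i => T.tr hF (pt (f (Data.img L i).1) (Data.img L i).1)).prod :=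
    T.conj_prod hF hω _ fun i => by rw [T.tr_conj hF hω hc (hwp i), hwg, T.tr_smul hF hω (hptp _ _) (hne i)]
  have hfin : T.tr hF (bu 0) * (List.ofFn fun i => T.tr hF (w i)).prod = 1 := by
    refine (mul_left_cancel (a := (c : G)) (mul_right_cancel (b := (c : G)⁻¹) ?_))
    rw [← conj_mul, hconj, hprod, mul_one, mul_inv_cancel]
    exact hsix
  rw [Data.six, List.map_cons, List.prod_cons, List.map_ofFn]
  convert hfin using 3
  · rw [TC.trp, (vec_zero (ω := ω) hω).1]; rfl
  · refine List.ofFn_inj.2 (funext fun i => ?_)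
    rw [Function.comp, (encode_spec _).2, hvec i]
    obtain ⟨hne', hk⟩ := Data.sidx_spec (μ L i) i
    rw [vec_eq hω (i := (Data.sidx (μ L i) i).1) (a := (Data.sidx (μ L i) i).2) (fun k => (hk k).symm), map_smul,
      T.tr_smul hF hω (isPt_emb (vec_ne hF hω _)) fun h0 => hne' (enc_injective hω h0)]
    rfl

/-- The assignments of the pattern of a function agree with it. -/
theorem assigns_fun (f : Fin 45 → Fin 4) (L : Fin 27) :
    ∀ p ∈ Data.assigns L (encode fun i => mul4 (Data.img L i).2 (f (Data.img L i).1)), p.2 = f p.1 := by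
  intro p hp
  rw [Data.assigns, List.mem_ofFn] at hp
  obtain ⟨i, rfl⟩ := hp
  rw [(encode_spec _).2]
  exact inv4_cancel _ _ (Data.img_ne L i).1

/-- The key lemma, normalised. -/
theorem key_normal {e : G} (he : IsConj d e) (hed : ¬ Commute e d) (hez : Commute e (T.tr hF (bu 0))) :
    ∃ v : V, IsPt v ∧ hh v (bu 0) = 0 ∧ hh v (dd0 ω) = 0 ∧ Commute e (T.tr hF v) := by
  obtain ⟨f, hf⟩ := T.exists_fun hF hω he hed hez
  obtain ⟨κ, hκ⟩ := T.class_unique hF hω
  by_contra hno
  push Not at hno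
  have hf' : ∀ j, Commute e (T.tr hF (vec4 ω (f j) (Data.pts45 j))) := fun j => (hf _ j).2 rfl
  have hf0 : ∀ j, f j ≠ 0 := fun j h0 => hno _ (vec4_pt hF hω (f j) j) (hh_vec4_bu hF hω _ _)
    (by rw [hh_vec4_dd0 hF hω, h0]; rfl) (hf' j)
  exact check_sound hf0 _ (T.fun_six hF hω he hed hez hf' hκ) (T.assigns_fun hF hω f)
    6 (Data.tree κ) [] (Data.tree_ok κ) (by simp)

end TC

end CfsgLib.TC22
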