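import Cfsg.Agent.SixPlane.Orbit

/-!
Products of commuting transvections of the six dimensional unitary space over four elements: the short relations.
-/

set_option autoImplicit false
set_option linter.unusedSectionVars false
set_option linter.style.haveILetI false

namespace CfsgLib.TC22

open Matrix CfsgLib.Unitary CfsgLib.ThreeT CfsgLib.ThreeT.SixTwo

variable {F : Type} [Field F] [CharP F 2] [Finite F] (hF : Nat.card F = 2 ^ 2)

local notation "V" => Fin 6 → F
local notation "hh" => Cfsg.hermForm 6 F 2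
local notation "π" => QuotientGroup.mk' (Subgroup.center (Cfsg.SU 6 F 2))

include hF

theorem hh_sum_right {ι : Type*} (s : Finset ι) (x : V) (v : ι → V) :
    hh x (∑ i ∈ s, v i) = ∑ i ∈ s, hh x (v i) := by
  classical
  induction s using Finset.induction with
  | empty => simp [hh_zero_right hF]
  | insert a s ha ih => rw [Finset.sum_insert ha, Finset.sum_insert ha, hh_add_right hF, ih]

/-- A linear relation among the functionals gives one among the vectors. -/
theorem herm_indep {n : ℕ} (c : Fin n → F) (v : Fin n → V) (h : ∀ x, ∑ i, c i * hh x (v i) = 0) :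
    ∑ i, c i ^ 2 • v i = 0 := by
  refine uForm_nondeg hF 6 _ fun x => ?_
  show hh x (∑ i, c i ^ 2 • v i) = 0
  rw [hh_sum_right hF]
  simp only [herm_smul_right hF, SixPlane.quad hF]
  exact h x

/-- The action of a product of commuting transvections. -/
theorem prod_apply {n : ℕ} (v : Fin n → V) (ho : ∀ i j, hh (v i) (v j) = 0) (x : V) :
    suMat ((List.ofFn fun i => tv hF (v i)).prod) *ᵥ x = x + ∑ i, hh x (v i) • v i := by
  have h := tv_list_apply hF (List.ofFn v) (fun p hp => by obtain ⟨i, rfl⟩ := List.mem_ofFn.1 hp; exact ho i i)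
    (List.pairwise_ofFn.2 fun i j _ => ho i j) x
  rwa [List.map_ofFn, List.map_ofFn, List.sum_ofFn] at h

theorem sum_zero_of_prod {n : ℕ} {v : Fin n → V} (ho : ∀ i j, hh (v i) (v j) = 0)
    (h1 : (List.ofFn fun i => tv hF (v i)).prod = 1) (x : V) : ∑ i, hh x (v i) • v i = 0 := by
  have h := prod_apply hF v ho x
  rw [h1, suMat_one, Matrix.one_mulVec] at h
  exact left_eq_add.1 h

theorem prod_one_of_sum {n : ℕ} {v : Fin n → V} (ho : ∀ i j, hh (v i) (v j) = 0)
    (h : ∀ x, ∑ i, hh x (v i) • v i = 0) : (List.ofFn fun i => tv hF (v i)).prod = 1 :=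
  su_ext fun x => by rw [prod_apply hF v ho, h x, add_zero, suMat_one, Matrix.one_mulVec]

/-- A transvection is not the product of two commuting transvections. -/
theorem single_ne_two {p q r : V} (hp : IsPt p) (hq : IsPt q) (hr : IsPt r) (hqr : hh q r = 0) :
    tv hF p ≠ tv hF q * tv hF r := by
  intro e
  have key : ∀ x, hh x p • p = hh x r • r + hh x q • q := fun x => by
    have h := congrArg (fun g => suMat g *ᵥ x) e
    simp only [tv_apply hF hp.2, tv_mul_apply hF hq.2 hr.2, (hh_comm hF).1 hqr, mul_zero, add_zero,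
      add_assoc, add_right_inj] at h
    exact h
  by_cases hdep : ∃ a : F, r = a • q
  · obtain ⟨a, rfl⟩ := hdep
    have ha : a ≠ 0 := fun h => hr.1 (by rw [h, zero_smul])
    rw [tv_smul hF hq.2 ha, tv_sq hF hq.2] at e
    exact tv_ne_one hF hp e
  push Not at hdep
  obtain ⟨x₀, hx₀⟩ : ∃ x, hh x p ≠ 0 := by
    by_contra hc; push Not at hc; exact hp.1 (uForm_nondeg hF 6 p hc)
  set a := (hh x₀ p)⁻¹ * hh x₀ q with ha
  set b := (hh x₀ p)⁻¹ * hh x₀ r with hb
  have hpe : p = a • q + b • r := by
    rw [ha, hb, ← smul_smul, ← smul_smul, ← smul_add, add_comm, ← key, smul_smul, inv_mul_cancel₀ hx₀, one_smul]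
  have co : ∀ x, hh x p * a = hh x q ∧ hh x p * b = hh x r := fun x => by
    have h1 : (hh x p * a - hh x q) • q + (hh x p * b - hh x r) • r = 0 := by
      have h2 := key x
      nth_rw 2 [hpe] at h2
      rw [smul_add, smul_smul, smul_smul] at h2
      rw [sub_smul, sub_smul]
      linear_combination (norm := module) h2
    have hb0 : hh x p * b - hh x r = 0 := by
      by_contra hne
      refine hdep ((hh x p * b - hh x r)⁻¹ * -(hh x p * a - hh x q)) ?_
      rw [← smul_smul, neg_smul, ← eq_neg_of_add_eq_zero_right h1, smul_smul, inv_mul_cancel₀ hne, one_smul]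
    rw [hb0, zero_smul, add_zero, smul_eq_zero] at h1
    exact ⟨sub_eq_zero.1 (h1.resolve_right hq.1), sub_eq_zero.1 hb0⟩
  have ha0 : a ≠ 0 := fun h => hq.1 (uForm_nondeg hF 6 q fun x => by
    show hh x q = 0
    rw [← (co x).1, h, mul_zero])
  have hb0 : b ≠ 0 := fun h => hr.1 (uForm_nondeg hF 6 r fun x => by
    show hh x r = 0
    rw [← (co x).2, h, mul_zero])
  have hz : ∀ x, ∑ i, (![b, a] : Fin 2 → F) i * hh x ((![q, r] : Fin 2 → V) i) = 0 := fun x => by
    simp only [Fin.sum_univ_two, Matrix.cons_val_zero, Matrix.cons_val_one]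
    rw [← (co x).1, ← (co x).2]
    linear_combination (a * b * hh x p) * CharTwo.two_eq_zero (R := F)
  have h := herm_indep hF _ _ hz
  simp only [Fin.sum_univ_two, Matrix.cons_val_zero, Matrix.cons_val_one] at h
  refine hdep ((a ^ 2)⁻¹ * -b ^ 2) ?_
  rw [← smul_smul, neg_smul, ← eq_neg_of_add_eq_zero_right h, smul_smul, inv_mul_cancel₀ (pow_ne_zero _ ha0),
    one_smul]

/-- Two decompositions into commuting pairs: all four centres are orthogonal. -/
theorem pair_perp {p q r s : V} (hp : IsPt p) (hq : IsPt q) (hr : IsPt r) (hs : IsPt s) (hpq : hh p q = 0)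
    (hrs : hh r s = 0) (hne : ∀ a : F, q ≠ a • p) (e : tv hF p * tv hF q = tv hF r * tv hF s) :
    hh r p = 0 ∧ hh r q = 0 := by
  have h := congrArg (fun g => suMat g *ᵥ r) e
  simp only [tv_mul_apply hF hp.2 hq.2, tv_mul_apply hF hr.2 hs.2, (hh_comm hF).1 hpq,
    hr.2, hrs, mul_zero, add_zero, zero_smul, zero_mul, add_assoc, add_eq_left] at h
  have h2 : hh r p = 0 := by
    by_contra hrp
    by_cases hrq : hh r q = 0
    · rw [hrq, zero_smul, zero_add, smul_eq_zero] at h
      exact h.elim hrp hp.1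
    · refine hne ((hh r q)⁻¹ * -hh r p) ?_
      rw [← smul_smul, neg_smul, ← eq_neg_of_add_eq_zero_left h, smul_smul, inv_mul_cancel₀ hrq, one_smul]
  rw [h2, zero_smul, add_zero, smul_eq_zero] at h
  exact ⟨h2, h.resolve_right hq.1⟩

/-- Modulo a subspace, a form of rank two does not vanish. -/
theorem mem_of_two (L : Submodule F V) {u v : V} (hu : u ≠ 0) (huv : ∀ a : F, v ≠ a • u)
    (h : ∀ x, hh x u • u + hh x v • v ∈ L) : u ∈ L ∧ v ∈ L := by
  obtain ⟨x, hxu, hxv⟩ : ∃ x, hh x u = 0 ∧ hh x v ≠ 0 := by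
    by_contra hc; push Not at hc
    obtain ⟨y, hy⟩ : ∃ y, hh y u ≠ 0 := by
      by_contra h0; push Not at h0; exact hu (uForm_nondeg hF 6 u h0)
    have hz : ∀ x, ∑ i, (![hh y v, hh y u] : Fin 2 → F) i * hh x ((![u, v] : Fin 2 → V) i) = 0 := fun x => by
      have h0 : hh (hh y u • x + hh x u • y) u = 0 := by
        rw [herm_add_left, herm_smul_left, herm_smul_left]
        linear_combination (hh y u * hh x u) * CharTwo.two_eq_zero (R := F)
      have h1 := hc _ h0
      rw [herm_add_left, herm_smul_left, herm_smul_left] at h1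
      simp only [Fin.sum_univ_two, Matrix.cons_val_zero, Matrix.cons_val_one]
      linear_combination h1
    have h2 := herm_indep hF _ _ hz
    simp only [Fin.sum_univ_two, Matrix.cons_val_zero, Matrix.cons_val_one] at h2
    refine huv ((hh y u ^ 2)⁻¹ * -hh y v ^ 2) ?_
    rw [← smul_smul, neg_smul, ← eq_neg_of_add_eq_zero_right h2, smul_smul, inv_mul_cancel₀ (pow_ne_zero _ hy),
      one_smul]
  have hv : v ∈ L := by
    have := h x
    rw [hxu, zero_smul, zero_add] at this
    exact (L.smul_mem_iff hxv).1 this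
  obtain ⟨y, hy⟩ : ∃ y, hh y u ≠ 0 := by
    by_contra h0; push Not at h0; exact hu (uForm_nondeg hF 6 u h0)
  exact ⟨(L.smul_mem_iff hy).1 ((L.add_mem_iff_left (L.smul_mem _ hv)).1 (h y)), hv⟩

/-- No four distinct commuting transvections multiply to one. -/
theorem four_ne {v : Fin 4 → V} (hv : ∀ i, IsPt (v i)) (ho : ∀ i j, hh (v i) (v j) = 0)
    (hd : ∀ i j, i ≠ j → ∀ a : F, v i ≠ a • v j) : (List.ofFn fun i => tv hF (v i)).prod ≠ 1 := by
  intro h1
  set L := Submodule.span F ({v 2, v 3} : Set V)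
  have h2 : v 2 ∈ L := Submodule.subset_span (by simp)
  have h3 : v 3 ∈ L := Submodule.subset_span (by simp)
  have key := sum_zero_of_prod hF ho h1
  obtain ⟨m0, m1⟩ := mem_of_two hF L (hv 0).1 (hd 1 0 (by decide)) fun x => by
    have := key x
    rw [Fin.sum_univ_four, add_assoc, add_assoc, ← add_assoc (hh x (v 0) • v 0)] at this
    rw [eq_neg_of_add_eq_zero_left this]
    exact L.neg_mem (L.add_mem (L.smul_mem _ h2) (L.smul_mem _ h3))
  obtain ⟨a, b, hab⟩ := Submodule.mem_span_pair.1 m0
  obtain ⟨c, e, hce⟩ := Submodule.mem_span_pair.1 m1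
  have hb : b ≠ 0 := fun h => hd 0 2 (by decide) a (by rw [← hab, h, zero_smul, add_zero])
  have he : e ≠ 0 := fun h => hd 1 2 (by decide) c (by rw [← hce, h, zero_smul, add_zero])
  have nb : b * b ^ 2 = 1 := by rw [← pow_succ']; exact SixTwo.pow_three hF hb
  have ne' : e * e ^ 2 = 1 := by rw [← pow_succ']; exact SixTwo.pow_three hF he
  have hz : ∀ x, ∑ i, (![a ^ 2 * b + c ^ 2 * e, 1] : Fin 2 → F) i * hh x ((![v 2, v 3] : Fin 2 → V) i) = 0 := by
    intro x
    have e2 : (2 : F) = 0 := CharTwo.two_eq_zero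
    have h := key x
    rw [Fin.sum_univ_four, ← hab, ← hce, hh_add_right hF, hh_add_right hF, herm_smul_right hF, herm_smul_right hF,
      herm_smul_right hF, herm_smul_right hF] at h
    set A := hh x (v 2)
    set B := hh x (v 3)
    have h' : ((a ^ 2 * A + b ^ 2 * B) * a + (c ^ 2 * A + e ^ 2 * B) * c + A) • v 2 +
        ((a ^ 2 * A + b ^ 2 * B) * b + (c ^ 2 * A + e ^ 2 * B) * e + B) • v 3 = 0 := by
      linear_combination (norm := module) h
    simp only [Fin.sum_univ_two, Matrix.cons_val_zero, Matrix.cons_val_one]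
    by_contra hne
    refine hd 3 2 (by decide)
      ((((a ^ 2 * A + b ^ 2 * B) * b + (c ^ 2 * A + e ^ 2 * B) * e + B))⁻¹ *
        -((a ^ 2 * A + b ^ 2 * B) * a + (c ^ 2 * A + e ^ 2 * B) * c + A)) ?_
    have hne' : (a ^ 2 * A + b ^ 2 * B) * b + (c ^ 2 * A + e ^ 2 * B) * e + B ≠ 0 := fun h0 => hne (by
      linear_combination h0 - B * nb - B * ne' - B * e2)
    rw [← smul_smul, neg_smul, ← eq_neg_of_add_eq_zero_right h', smul_smul, inv_mul_cancel₀ hne', one_smul]
  have h := herm_indep hF _ _ hz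
  simp only [Fin.sum_univ_two, Matrix.cons_val_zero, Matrix.cons_val_one, one_pow, one_smul] at h
  exact hd 3 2 (by decide) (-(a ^ 2 * b + c ^ 2 * e) ^ 2) (by rw [neg_smul, ← eq_neg_of_add_eq_zero_right h])

/-- The configuration excluding two members of one line. -/
theorem five_absurd {e : V} {v : Fin 5 → V} (hv : ∀ i, IsPt (v i)) (ho : ∀ i j, hh (v i) (v j) = 0)
    (hd : ∀ i j, i ≠ j → ∀ a : F, v i ≠ a • v j) (h1 : (List.ofFn fun i => tv hF (v i)).prod = 1)
    (he0 : hh e (v 0) ≠ 0) (he1 : hh e (v 1) = 0) (he2 : hh e (v 2) = 0) : False := by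
  set L := Submodule.span F ({v 3, v 4} : Set V)
  have h3 : v 3 ∈ L := Submodule.subset_span (by simp)
  have h4 : v 4 ∈ L := Submodule.subset_span (by simp)
  have key := sum_zero_of_prod hF ho h1
  simp only [Fin.sum_univ_five] at key
  have m0 : v 0 ∈ L := by
    have := key e
    rw [he1, he2, zero_smul, zero_smul, add_zero, add_zero, add_assoc] at this
    refine (L.smul_mem_iff he0).1 ?_
    rw [eq_neg_of_add_eq_zero_left this]
    exact L.neg_mem (L.add_mem (L.smul_mem _ h3) (L.smul_mem _ h4))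
  obtain ⟨m1, m2⟩ := mem_of_two hF L (hv 1).1 (hd 2 1 (by decide)) fun x => by
    have hl : hh x (v 0) • v 0 + (hh x (v 3) • v 3 + hh x (v 4) • v 4) ∈ L :=
      L.add_mem (L.smul_mem _ m0) (L.add_mem (L.smul_mem _ h3) (L.smul_mem _ h4))
    have hk := key x
    have : hh x (v 1) • v 1 + hh x (v 2) • v 2 =
        -(hh x (v 0) • v 0 + (hh x (v 3) • v 3 + hh x (v 4) • v 4)) := by
      linear_combination (norm := module) hk
    rw [this]; exact L.neg_mem hl
  -- `v 1` and `v 2` span `L`, which is then orthogonal to `e`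
  obtain ⟨a, b, hab⟩ := Submodule.mem_span_pair.1 m1
  obtain ⟨c, f, hcf⟩ := Submodule.mem_span_pair.1 m2
  obtain ⟨r, s, hrs⟩ := Submodule.mem_span_pair.1 m0
  have q1 : a ^ 2 * hh e (v 3) + b ^ 2 * hh e (v 4) = 0 := by
    rw [← he1, ← hab, hh_add_right hF, herm_smul_right hF, herm_smul_right hF]
  have q2 : c ^ 2 * hh e (v 3) + f ^ 2 * hh e (v 4) = 0 := by
    rw [← he2, ← hcf, hh_add_right hF, herm_smul_right hF, herm_smul_right hF]
  have hdet : a * f - b * c ≠ 0 := by
    intro h
    by_cases hb : b = 0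
    · exact hd 1 3 (by decide) a (by rw [← hab, hb, zero_smul, add_zero])
    · refine hd 2 1 (by decide) (f * b⁻¹) ?_
      rw [← hab, ← hcf]
      match_scalars <;> field_simp
      linear_combination -h
  have hd2 : (a * f - b * c) ^ 2 = a ^ 2 * f ^ 2 - b ^ 2 * c ^ 2 := by
    linear_combination (b ^ 2 * c ^ 2 - a * b * c * f) * CharTwo.two_eq_zero (R := F)
  have z3 : hh e (v 3) = 0 := by
    refine (mul_eq_zero.1 ?_).resolve_left (pow_ne_zero 2 hdet)
    rw [hd2]; linear_combination f ^ 2 * q1 - b ^ 2 * q2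
  have z4 : hh e (v 4) = 0 := by
    refine (mul_eq_zero.1 ?_).resolve_left (pow_ne_zero 2 hdet)
    rw [hd2]; linear_combination a ^ 2 * q2 - c ^ 2 * q1
  exact he0 (by rw [← hrs, hh_add_right hF, herm_smul_right hF, herm_smul_right hF, z3, z4, mul_zero, mul_zero,
    add_zero])

/-- A totally isotropic plane is its own orthogonal space. -/
theorem plane_perp (r : Fin 3 → V) (hr : LinearIndependent F r) (ho : ∀ i j, hh (r i) (r j) = 0) {x : V}
    (hx : ∀ i, hh x (r i) = 0) : x ∈ Submodule.span F (Set.range r) := by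
  obtain ⟨g, l, hl, hg⟩ := SixPlane.exists_move hF r hr ho
  set y := suMat g⁻¹ *ᵥ x with hy
  have hgy : suMat g *ᵥ y = x := by
    have := su_inv_mulVec g⁻¹ x
    rwa [inv_inv] at this
  have hco : SixPlane.co y = 0 := funext fun i => by
    show SixPlane.co y i = 0
    have h := su_preserves g y (SixPlane.emb (Pi.single i 1))
    rw [hgy, hg i, herm_smul_right hF, hx i, mul_zero, SixPlane.hh_emb, SixPlane.sf_single_right] at h
    exact h.symm
  rw [← hgy, SixPlane.eq_emb_of_co hco, SixPlane.emb_expand, Matrix.mulVec_add, Matrix.mulVec_add,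
    Matrix.mulVec_smul, Matrix.mulVec_smul, Matrix.mulVec_smul]
  have hm : ∀ i, suMat g *ᵥ SixPlane.bu i ∈ Submodule.span F (Set.range r) := fun i => by
    rw [SixPlane.bu, hg i]; exact Submodule.smul_mem _ _ (Submodule.subset_span ⟨i, rfl⟩)
  exact add_mem (add_mem (Submodule.smul_mem _ _ (hm 0)) (Submodule.smul_mem _ _ (hm 1)))
    (Submodule.smul_mem _ _ (hm 2))

/-- The five transvections of a line multiply to one. -/
theorem line_five {p q : V} (hp : hh p p = 0) (hq : hh q q = 0) (hpq : hh p q = 0) {v : Fin 5 → V}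
    (hv : ∀ i, IsPt (v i)) (hm : ∀ i, ∃ a b : F, v i = a • p + b • q)
    (hd : ∀ i j, i ≠ j → ∀ a : F, v i ≠ a • v j) : (List.ofFn fun i => tv hF (v i)).prod = 1 := by
  classical
  haveI := Fintype.ofFinite F
  choose a b hab using hm
  have ho : ∀ i j, hh (v i) (v j) = 0 := fun i j => by rw [hab i, hab j]; exact line_iso hF hp hq hpq _ _ _ _
  -- the five canonical points of the line
  let κ : Option F → V := fun o => o.elim q fun t => p + t • q
  have hcl : ∀ i, ∃ o, ∃ c : F, c ≠ 0 ∧ v i = c • κ o := fun i => by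
    by_cases ha : a i = 0
    · exact ⟨none, b i, fun h => (hv i).1 (by rw [hab i, ha, h]; simp), by rw [hab i, ha]; simp [κ]⟩
    · exact ⟨some ((a i)⁻¹ * b i), a i, ha, by
        rw [hab i]; simp [κ, smul_smul, ← mul_assoc, mul_inv_cancel₀ ha]⟩
  choose o c hc hoc using hcl
  have hinj : Function.Injective o := fun i j e => by
    by_contra hne
    refine hd i j hne (c i * (c j)⁻¹) ?_
    rw [hoc i, hoc j, e, smul_smul, mul_assoc, inv_mul_cancel₀ (hc j), mul_one]
  have hbij : Function.Bijective o := by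
    rw [Fintype.bijective_iff_injective_and_card]
    refine ⟨hinj, ?_⟩
    rw [Fintype.card_fin, Fintype.card_option, ← Nat.card_eq_fintype_card, hF]
    norm_num
  refine prod_one_of_sum hF ho fun x => ?_
  have hterm : ∀ i, hh x (v i) • v i = hh x (κ (o i)) • κ (o i) := fun i => by
    rw [hoc i, herm_smul_right hF, smul_smul]
    congr 1
    linear_combination hh x (κ (o i)) * SixTwo.pow_three hF (hc i)
  simp only [hterm]
  rw [hbij.sum_comp (fun o => hh x (κ o) • κ o), Fintype.sum_option]
  simp only [κ, Option.elim_none, Option.elim_some, hh_add_right hF, herm_smul_right hF]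
  obtain ⟨ω, hω0, hω1, hω⟩ := exists_omega hF
  have hu : (Finset.univ : Finset F) = {0, 1, ω, ω + 1} := by
    refine (Finset.eq_of_subset_of_card_le (Finset.subset_univ _) ?_).symm
    have e2 : (2 : F) = 0 := CharTwo.two_eq_zero
    have h1 : ω + 1 ≠ 0 := fun h => hω1 (by linear_combination h - e2)
    have h2 : ω + 1 ≠ 1 := fun h => hω0 (by linear_combination h)
    have h3 : ω + 1 ≠ ω := fun h => one_ne_zero (α := F) (by linear_combination h)
    rw [Finset.card_univ, ← Nat.card_eq_fintype_card, hF, Finset.card_insert_of_notMem (by simp [hω0.symm, h1.symm]),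
      Finset.card_insert_of_notMem (by simp [hω1.symm, h2.symm]), Finset.card_insert_of_notMem (by simp [h3.symm]),
      Finset.card_singleton]
    norm_num
  have e2 : (2 : F) = 0 := CharTwo.two_eq_zero
  have n1 : (0 : F) ∉ ({1, ω, ω + 1} : Finset F) := by
    simp [hω0.symm]; exact fun h => hω1 (by linear_combination -h - e2)
  have n2 : (1 : F) ∉ ({ω, ω + 1} : Finset F) := by
    simp [hω1.symm]; exact hω0
  have n3 : (ω : F) ∉ ({ω + 1} : Finset F) := by simp
  rw [hu, Finset.sum_insert n1, Finset.sum_insert n2, Finset.sum_insert n3, Finset.sum_singleton]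
  set A := hh x p
  set B := hh x q
  have hω3 : ω ^ 3 = 1 := SixTwo.pow_three hF hω0
  match_scalars <;> grind

end CfsgLib.TC22
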