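import Cfsg.Agent.TC22.Component

/-!
Products of the members over five collinear transvections, and what they imply for the common neighbours of two
members that do not commute.
-/

set_option autoImplicit false
set_option linter.unusedSectionVars false
set_option linter.style.haveILetI false

namespace CfsgLib.TC22

open Matrix CfsgLib.Unitary CfsgLib.ThreeT CfsgLib.ThreeT.SixTwo CfsgLib.SixPlane

variable {F : Type} [Field F] [CharP F 2] [Finite F] (hF : Nat.card F = 2 ^ 2) {ω : F}
  (hω : ω ^ 2 = ω + 1) {G : Type*} [Group G] [Finite G] {d : G} (T : TC F d)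

local notation "V" => Fin 6 → F
local notation "hh" => Cfsg.hermForm 6 F 2
local notation "π" => QuotientGroup.mk' (Subgroup.center (Cfsg.SU 6 F 2))

include hF

/-- Products of commuting transvections are involutions. -/
theorem prod_sq {n : ℕ} (v : Fin n → V) (ho : ∀ i j, hh (v i) (v j) = 0) :
    (List.ofFn fun i => tv hF (v i)).prod * (List.ofFn fun i => tv hF (v i)).prod = 1 := by
  refine su_ext fun x => ?_
  rw [suMat_mul, ← Matrix.mulVec_mulVec, suMat_one, Matrix.one_mulVec, prod_apply hF v ho x, Matrix.mulVec_add,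
    prod_apply hF v ho x, prod_apply hF v ho (∑ i, hh x (v i) • v i)]
  have h0 : ∀ j, hh (∑ i, hh x (v i) • v i) (v j) = 0 := fun j => by
    rw [(hh_comm hF)]
    rw [hh_sum_right hF]
    exact Finset.sum_eq_zero fun i _ => by rw [herm_smul_right hF, ho, mul_zero]
  simp only [h0, zero_smul, Finset.sum_const_zero, add_zero]
  funext i
  simp only [Pi.add_apply]
  rw [add_assoc, CharTwo.add_self_eq_zero, add_zero]

namespace TC

include hω T

theorem phi_prod {n : ℕ} {v : Fin n → V} (hv : ∀ i, IsPt (v i)) :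
    T.K.φ (List.ofFn fun i => T.K.kk hF (T.base₀ hF) (v i)).prod = π (List.ofFn fun i => tv hF (v i)).prod := by
  rw [map_list_prod, map_list_prod, List.map_ofFn, List.map_ofFn]
  congr 1
  exact List.ofFn_inj.2 (funext fun i => T.phi_tr hF hω (hv i))

theorem tr_prod {n : ℕ} (v : Fin n → V) :
    ((List.ofFn fun i => T.K.kk hF (T.base₀ hF) (v i)).prod : ↥(Subgroup.centralizer ({d} : Set G))) =
      ((List.ofFn fun i => T.tr hF (v i)).prod : G) := by
  rw [Subgroup.val_list_prod, List.map_ofFn]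
  rfl

theorem conj_prod {n : ℕ} (g : G) {u w : Fin n → G} (h : ∀ i, g * u i * g⁻¹ = w i) :
    g * (List.ofFn u).prod * g⁻¹ = (List.ofFn w).prod := by
  have := map_list_prod (MulAut.conj g).toMonoidHom (List.ofFn u)
  rw [List.map_ofFn] at this
  refine this.trans ?_
  congr 1
  exact List.ofFn_inj.2 (funext h)

/-- A member commuting with `d` and different from it lies over a transvection. -/
theorem exists_tr_ne {x : G} (hx : IsConj d x) (hxd : Commute x d) (hne : x ≠ d) :
    ∃ v : V, IsPt v ∧ x = T.tr hF v :=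
  (T.exists_tr hF hω hx hxd).resolve_left hne

theorem not_prop {u v : V} (hv : IsPt v) (hu : u ≠ 0) (h : T.tr hF u ≠ T.tr hF v) : ∀ a : F, u ≠ a • v :=
  fun a e => h (by rw [e, T.tr_smul hF hω hv fun h0 => hu (by rw [e, h0, zero_smul])])

theorem tr_ne_of {u v : V} (hu : IsPt u) (hv : IsPt v) (h : ∀ a : F, u ≠ a • v) : T.tr hF u ≠ T.tr hF v :=
  fun e => (T.tr_eq_smul hF hω hu hv e).elim h

/-- The members over five collinear transvections multiply to `d`. -/
theorem line_prod {v : Fin 5 → V} (hv : ∀ i, IsPt (v i)) (ho : ∀ i j, hh (v i) (v j) = 0)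
    (hd : ∀ i j, i ≠ j → ∀ a : F, v i ≠ a • v j) (h1 : (List.ofFn fun i => tv hF (v i)).prod = 1) :
    (List.ofFn fun i => T.tr hF (v i)).prod = d := by
  have hφ := T.phi_prod hF hω hv
  rw [h1, map_one] at hφ
  rcases (T.K.ker_iff _).1 hφ with h | h
  swap
  · rw [← T.tr_prod hF hω, h, T.hz]
  exfalso
  have hP : (List.ofFn fun i => T.tr hF (v i)).prod = 1 := by rw [← T.tr_prod hF hω, h]; rfl
  obtain ⟨g, hg⟩ := T.exists_conj hF hω (T.isConj_tr hF hω (hv 0))
  have hs : ∀ i : Fin 4, ∃ s : V, IsPt s ∧ g * T.tr hF (v i.succ) * g⁻¹ = T.tr hF s := fun i => by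
    refine T.exists_tr_ne hF hω (T.conj_mem hF hω g (T.isConj_tr hF hω (hv _))) ?_ fun e => ?_
    · nth_rw 2 [← hg]
      exact (Commute.conj_iff g).2 ((T.tr_commute_iff hF hω (hv _) (hv _)).2 (ho _ _))
    · exact T.tr_ne_of hF hω (hv _) (hv 0) (hd _ _ (Fin.succ_ne_zero i))
        (mul_left_cancel (mul_right_cancel (e.trans hg.symm)))
  choose s hspt hse using hs
  have hso : ∀ i j, hh (s i) (s j) = 0 := fun i j => by
    refine (T.tr_commute_iff hF hω (hspt i) (hspt j)).1 ?_
    rw [← hse, ← hse]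
    exact (Commute.conj_iff g).2 ((T.tr_commute_iff hF hω (hv _) (hv _)).2 (ho _ _))
  have hsd : ∀ i j, i ≠ j → ∀ a : F, s i ≠ a • s j := fun i j hij => T.not_prop hF hω (hspt j) (hspt i).1 fun e => by
    rw [← hse, ← hse] at e
    exact T.tr_ne_of hF hω (hv _) (hv _) (hd _ _ (fun e => hij (Fin.succ_injective _ e)))
      (mul_left_cancel (mul_right_cancel e))
  refine four_ne hF hspt hso hsd ?_
  refine pi_inj hF (prod_sq hF s hso) (one_mul 1) ?_
  rw [← T.phi_prod hF hω hspt, map_one]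
  have h4 : (List.ofFn fun i => T.tr hF (s i)).prod = d := by
    rw [← T.conj_prod hF hω g hse]
    rw [List.ofFn_succ, List.prod_cons] at hP
    rw [eq_inv_of_mul_eq_one_right hP, T.inv_of_conj hF hω (T.isConj_tr hF hω (hv 0))]
    exact hg
  rw [show (List.ofFn fun i => T.K.kk hF (T.base₀ hF) (s i)).prod = T.K.z from
    Subtype.ext ((T.tr_prod hF hω s).trans (h4.trans T.hz.symm)), T.K.phi_z]

/-- A line through the common neighbour `tr (v 0)` of `d` and `e` has at most one further common neighbour. -/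
theorem five_excl {v : Fin 5 → V} (hv : ∀ i, IsPt (v i)) (ho : ∀ i j, hh (v i) (v j) = 0)
    (hd : ∀ i j, i ≠ j → ∀ a : F, v i ≠ a • v j) (h1 : (List.ofFn fun i => tv hF (v i)).prod = 1)
    {e : G} (he : IsConj d e) (hed : ¬ Commute e d) (h0 : Commute e (T.tr hF (v 0)))
    (he1 : Commute e (T.tr hF (v 1))) (he2 : Commute e (T.tr hF (v 2))) : False := by
  obtain ⟨g, hg⟩ := T.exists_conj hF hω (T.isConj_tr hF hω (hv 0))
  have hdc : ∀ i, Commute d (T.tr hF (v i)) := fun i => (T.tr_cent hF _).symm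
  have hto : ∀ {x : G}, IsConj d x → Commute x (T.tr hF (v 0)) → x ≠ T.tr hF (v 0) →
      ∃ s : V, IsPt s ∧ g * x * g⁻¹ = T.tr hF s := fun {x} hx hc hne => by
    refine T.exists_tr_ne hF hω (T.conj_mem hF hω g hx) ?_ fun e => hne (mul_left_cancel (mul_right_cancel (e.trans hg.symm)))
    have h := (Commute.conj_iff g).2 hc
    rwa [hg] at h
  obtain ⟨a, ha, ea⟩ := hto (IsConj.refl d) (hdc 0) (Ne.symm (T.tr_ne hF hω (hv 0)))
  obtain ⟨b, hb, eb⟩ := hto he h0 fun e' => hed (e' ▸ T.tr_cent hF _)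
  choose s hspt hse using fun i : Fin 4 => hto (T.isConj_tr hF hω (hv i.succ))
    ((T.tr_commute_iff hF hω (hv _) (hv _)).2 (ho _ _)) (T.tr_ne_of hF hω (hv _) (hv 0) (hd _ _ (Fin.succ_ne_zero i)))
  set w : Fin 5 → V := Fin.cons a s with hw
  set x : Fin 5 → G := Fin.cons d (fun i => T.tr hF (v i.succ)) with hx
  have hwpt : ∀ i, IsPt (w i) := Fin.cases (by simpa [w] using ha) (fun i => by simpa [w] using hspt i)
  have hwx : ∀ i, g * x i * g⁻¹ = T.tr hF (w i) :=
    Fin.cases (by simpa [w, x] using ea) (fun i => by simpa [w, x] using hse i)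
  have hxc : ∀ i j, Commute (x i) (x j) := fun i j => by
    refine Fin.cases ?_ (fun i => ?_) i <;> refine Fin.cases ?_ (fun j => ?_) j
    · exact Commute.refl _
    · simpa [x] using hdc j.succ
    · simpa [x] using (hdc i.succ).symm
    · simpa [x] using (T.tr_commute_iff hF hω (hv _) (hv _)).2 (ho _ _)
  have hwo : ∀ i j, hh (w i) (w j) = 0 := fun i j => by
    refine (T.tr_commute_iff hF hω (hwpt i) (hwpt j)).1 ?_
    rw [← hwx, ← hwx]
    exact (Commute.conj_iff g).2 (hxc i j)
  have hxd : ∀ i j, i ≠ j → x i ≠ x j := fun i j => by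
    refine Fin.cases ?_ (fun i => ?_) i <;> refine Fin.cases ?_ (fun j => ?_) j
    · exact fun h => absurd rfl h
    · intro _; simpa [x] using (T.tr_ne hF hω (hv j.succ)).symm
    · intro _; simpa [x] using T.tr_ne hF hω (hv i.succ)
    · intro h; simpa [x] using T.tr_ne_of hF hω (hv _) (hv _) (hd _ _ h)
  have hwd : ∀ i j, i ≠ j → ∀ c : F, w i ≠ c • w j := fun i j hij => T.not_prop hF hω (hwpt j) (hwpt i).1 fun e' => by
    rw [← hwx, ← hwx] at e'
    exact hxd i j hij (mul_left_cancel (mul_right_cancel e'))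
  have hprod : (List.ofFn fun i => T.tr hF (w i)).prod = d := by
    rw [← T.conj_prod hF hω g hwx, List.ofFn_succ, List.prod_cons]
    have h5 := T.line_prod hF hω hv ho hd h1
    rw [List.ofFn_succ, List.prod_cons] at h5
    simp only [x, Fin.cons_zero, Fin.cons_succ]
    set r := (List.ofFn fun i : Fin 4 => T.tr hF (v i.succ)).prod
    have hr : r = T.tr hF (v 0) * d :=
      calc r = T.tr hF (v 0) * (T.tr hF (v 0) * r) := by
            rw [← mul_assoc, T.sq_of_conj (T.isConj_tr hF hω (hv 0)), one_mul]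
        _ = T.tr hF (v 0) * d := congrArg _ h5
    rw [hr, ← mul_assoc d, (hdc 0).eq, mul_assoc (T.tr hF (v 0)), T.dd, mul_one]
    exact hg
  have h1' : (List.ofFn fun i => tv hF (w i)).prod = 1 := by
    refine pi_inj hF (prod_sq hF w hwo) (one_mul 1) ?_
    rw [← T.phi_prod hF hω hwpt, map_one, show (List.ofFn fun i => T.K.kk hF (T.base₀ hF) (w i)).prod = T.K.z from
      Subtype.ext ((T.tr_prod hF hω w).trans (hprod.trans T.hz.symm)), T.K.phi_z]
  have hbw : ∀ i, hh b (w i) = 0 ↔ Commute e (x i) := fun i => by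
    rw [← T.tr_commute_iff hF hω hb (hwpt i), ← eb, ← hwx, Commute.conj_iff]
  exact five_absurd hF hwpt hwo hwd h1' (fun h => hed (by simpa [x] using (hbw 0).1 h))
    ((hbw 1).2 (show Commute e (T.tr hF (v 1)) from he1)) ((hbw 2).2 (show Commute e (T.tr hF (v 2)) from he2))

/-- Five common neighbours of `d`, `e` and `tr v₀` that commute pairwise give six members multiplying to one. -/
theorem six_one {v₀ : V} (h₀ : IsPt v₀) {v : Fin 5 → V} (hv : ∀ i, IsPt (v i)) (hv₀ : ∀ i, hh (v i) v₀ = 0)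
    (hd₀ : ∀ i, ∀ a : F, v i ≠ a • v₀) (ho : ∀ i j, hh (v i) (v j) = 0)
    (hd : ∀ i j, i ≠ j → ∀ a : F, v i ≠ a • v j) {e : G} (he : IsConj d e) (hed : ¬ Commute e d)
    (hez : Commute e (T.tr hF v₀)) (hev : ∀ i, Commute e (T.tr hF (v i))) :
    T.tr hF v₀ * (List.ofFn fun i => T.tr hF (v i)).prod = 1 := by
  obtain ⟨g, hg⟩ := T.exists_conj hF hω (T.isConj_tr hF hω h₀)
  have hdz : Commute d (T.tr hF v₀) := (T.tr_cent hF _).symm
  have hto : ∀ {x : G}, IsConj d x → Commute x (T.tr hF v₀) → x ≠ T.tr hF v₀ →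
      ∃ s : V, IsPt s ∧ g * x * g⁻¹ = T.tr hF s := fun {x} hx hc hne => by
    refine T.exists_tr_ne hF hω (T.conj_mem hF hω g hx) ?_ fun e => hne (mul_left_cancel (mul_right_cancel (e.trans hg.symm)))
    have h := (Commute.conj_iff g).2 hc
    rwa [hg] at h
  obtain ⟨a, ha, ea⟩ := hto (IsConj.refl d) hdz (Ne.symm (T.tr_ne hF hω h₀))
  obtain ⟨b, hb, eb⟩ := hto he hez fun e' => hed (e' ▸ T.tr_cent hF _)
  choose s hspt hse using fun i : Fin 5 => hto (T.isConj_tr hF hω (hv i))
    ((T.tr_commute_iff hF hω (hv i) h₀).2 (hv₀ i)) (T.tr_ne_of hF hω (hv i) h₀ (hd₀ i))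
  have hso : ∀ i j, hh (s i) (s j) = 0 := fun i j => by
    refine (T.tr_commute_iff hF hω (hspt i) (hspt j)).1 ?_
    rw [← hse, ← hse]
    exact (Commute.conj_iff g).2 ((T.tr_commute_iff hF hω (hv _) (hv _)).2 (ho _ _))
  have hsd : ∀ i j, i ≠ j → ∀ c : F, s i ≠ c • s j := fun i j hij => T.not_prop hF hω (hspt j) (hspt i).1 fun e' => by
    rw [← hse, ← hse] at e'
    exact T.tr_ne_of hF hω (hv _) (hv _) (hd _ _ hij) (mul_left_cancel (mul_right_cancel e'))
  have hsa : ∀ i, hh a (s i) = 0 ∧ hh b (s i) = 0 := fun i => by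
    rw [← T.tr_commute_iff hF hω ha (hspt i), ← T.tr_commute_iff hF hω hb (hspt i), ← ea, ← eb, ← hse]
    exact ⟨(Commute.conj_iff g).2 (T.tr_cent hF _).symm, (Commute.conj_iff g).2 (hev i)⟩
  have hab : hh a b ≠ 0 := fun h => hed (by
    rw [← T.tr_commute_iff hF hω ha hb, ← ea, ← eb, Commute.conj_iff] at h
    exact h.symm)
  have hm : ∀ i, ∃ p q : F, s i = p • s 0 + q • s 1 := by
    by_contra hc; push Not at hc
    obtain ⟨i, hi⟩ := hc
    set r : Fin 3 → V := ![s i, s 0, s 1]
    have hr : LinearIndependent F r := by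
      have h2 : LinearIndependent F (![s 0, s 1] : Fin 2 → V) :=
        indep_pair (hspt 0).1 fun c e' => hsd 1 0 (by decide) c e'.symm
      refine h2.finCons fun hmem => ?_
      rw [Matrix.range_cons, Matrix.range_cons, Matrix.range_empty, Set.union_empty, Set.union_singleton] at hmem
      obtain ⟨p, q, hpq⟩ := Submodule.mem_span_pair.1 hmem
      exact hi q p (by rw [← hpq]; exact add_comm _ _)
    have hro : ∀ i j, hh (r i) (r j) = 0 := fun i j => by fin_cases i <;> fin_cases j <;> simp [r, hso]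
    have hax := plane_perp hF r hr hro (x := a) (fun j => by fin_cases j <;> simp [r, (hsa _).1])
    refine hab ((show ∀ x ∈ Submodule.span F (Set.range r), hh x b = 0 from fun x hx => ?_) a hax)
    clear hab hax
    induction hx using Submodule.span_induction with
    | mem x hx => obtain ⟨j, rfl⟩ := hx; fin_cases j <;> simp [r, (hh_comm hF).1 (hsa _).2]
    | zero => exact hh_zero_left hF b
    | add x y _ _ hx hy => rw [herm_add_left, hx, hy, add_zero]
    | smul c x _ hx => rw [herm_smul_left, hx, mul_zero]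
  have h1 := line_five hF (hspt 0).2 (hspt 1).2 (hso 0 1) hspt hm hsd
  have h := T.line_prod hF hω hspt hso hsd h1
  rw [← T.conj_prod hF hω g hse] at h
  rw [mul_left_cancel (mul_right_cancel (h.trans hg.symm)), T.sq_of_conj (T.isConj_tr hF hω h₀)]

end TC

end CfsgLib.TC22
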