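import Cfsg.Agent.TC22.Linear

/-!
An involution whose centraliser is a perfect double cover of `PSU₆(2)`, not weakly closed there: the members of its
class in the centraliser are the involution itself and one lift of every transvection.
-/

set_option autoImplicit false
set_option linter.unusedSectionVars false
set_option linter.style.haveILetI false

namespace CfsgLib.TC22

open scoped commutatorElement
open Matrix CfsgLib.Unitary CfsgLib.ThreeT CfsgLib.ThreeT.SixTwo

/-- The hypotheses on the involution. -/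
structure TC (F : Type) [Field F] {G : Type*} [Group G] (d : G) where
  /-- The centraliser as a double cover. -/
  K : SixPlane.Cov F ↥(Subgroup.centralizer ({d} : Set G))
  hz : (K.z : G) = d
  nwc : ∃ g : G, g * d * g⁻¹ ∈ Subgroup.centralizer ({d} : Set G) ∧ g * d * g⁻¹ ≠ d

variable {F : Type} [Field F] [CharP F 2] [Finite F] (hF : Nat.card F = 2 ^ 2) {ω : F}
  (hω : ω ^ 2 = ω + 1) {G : Type*} [Group G] [Finite G] {d : G} (T : TC F d)

local notation "V" => Fin 6 → F
local notation "hh" => Cfsg.hermForm 6 F 2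
local notation "π" => QuotientGroup.mk' (Subgroup.center (Cfsg.SU 6 F 2))

namespace TC

open Classical in
/-- The lift of the base transvection in the class of `d`. -/
noncomputable def base₀ : ↥(Subgroup.centralizer ({d} : Set G)) :=
  if h : ∃ x, x ∈ T.K.dConj ∧ T.K.φ x = π (tv hF (SixPlane.bu (F := F) 0)) then h.choose else 1

/-- The member of the class of `d` over a transvection. -/
noncomputable def tr (v : V) : G := (T.K.kk hF (T.base₀ hF) v : G)

include T in
theorem dd : d * d = 1 := by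
  rw [← T.hz]; exact congrArg Subtype.val T.K.z_sq

include T in
theorem ne_one : d ≠ 1 := fun e => T.K.z_ne (Subtype.ext (T.hz.trans e))

include T in
theorem sq_of_conj {x : G} (hx : IsConj d x) : x * x = 1 := by
  obtain ⟨g, rfl⟩ := isConj_iff.1 hx
  rw [conj_mul, T.dd, mul_one, mul_inv_cancel]

include T in
theorem conj_ne_one {x : G} (hx : IsConj d x) : x ≠ 1 := by
  obtain ⟨g, rfl⟩ := isConj_iff.1 hx
  intro e
  exact T.ne_one (by have := congrArg (fun y => g⁻¹ * y * g) e; simpa [mul_assoc] using this)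

theorem mem_cent {x : G} : x ∈ Subgroup.centralizer ({d} : Set G) ↔ Commute x d :=
  Subgroup.mem_centralizer_singleton_iff

include hF hω

/-- The sizes of the fibres. -/
theorem fibres : ∀ k : Fin 3, {x | x ∈ T.K.dConj ∧ T.K.φ x = π (SixPlane.cel hF k (fun i => Pi.single i 1))}.ncard =
    if k = 0 then 1 else 0 := by
  have h := T.K.card_dConj hF hω T.hz
  rw [T.K.ncard_dConj hF hω T.hz T.nwc] at h
  set f : Fin 3 → ℕ := fun k =>
    {x | x ∈ T.K.dConj ∧ T.K.φ x = π (SixPlane.cel hF k (fun i => Pi.single i 1))}.ncard with hf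
  have h' : 22 = 1 + 21 * f 0 + 210 * f 1 + 280 * f 2 := h
  intro k
  show f k = _
  fin_cases k
  all_goals simp only [Fin.zero_eta, Fin.mk_one, Fin.reduceFinMk, Fin.isValue, one_ne_zero, if_false,
    Fin.reduceEq, if_true]
  all_goals omega

theorem base₀_spec : T.base₀ hF ∈ T.K.dConj ∧
    T.K.φ (T.base₀ hF) = π (tv hF (SixPlane.bu (F := F) 0)) := by
  have h := T.fibres hF hω 0
  simp only [if_pos] at h
  obtain ⟨x, hx⟩ := Set.nonempty_of_ncard_ne_zero (h.trans_ne one_ne_zero)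
  have h' : ∃ x, x ∈ T.K.dConj ∧ T.K.φ x = π (tv hF (SixPlane.bu (F := F) 0)) := ⟨x, hx⟩
  rw [base₀, dif_pos h']
  exact h'.choose_spec

theorem tr_spec {v : V} (hv : IsPt v) : T.K.IsKK hF (T.base₀ hF) v (T.K.kk hF (T.base₀ hF) v) :=
  T.K.kk_spec hF (T.base₀_spec hF hω).2 hv

theorem phi_tr {v : V} (hv : IsPt v) : T.K.φ (T.K.kk hF (T.base₀ hF) v) = π (tv hF v) :=
  (T.tr_spec hF hω hv).image

theorem isConj_tr {v : V} (hv : IsPt v) : IsConj d (T.tr hF v) := by
  obtain ⟨c, hc⟩ := (T.tr_spec hF hω hv).conj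
  refine (T.base₀_spec hF hω).1.2.trans (isConj_iff.2 ⟨(c : G), ?_⟩)
  rw [tr, ← hc]; rfl

omit hω in
theorem tr_cent (v : V) : Commute (T.tr hF v) d := mem_cent.1 (T.K.kk hF (T.base₀ hF) v).2

theorem tr_ne {v : V} (hv : IsPt v) : T.tr hF v ≠ d := fun e => by
  have h := T.phi_tr hF hω hv
  rw [show T.K.kk hF (T.base₀ hF) v = T.K.z from Subtype.ext (e.trans T.hz.symm), T.K.phi_z] at h
  exact pi_tv_ne_one hF hv h.symm

/-- Conjugation by the centraliser. -/
theorem tr_conj {g : Cfsg.SU 6 F 2} {c : ↥(Subgroup.centralizer ({d} : Set G))} (hc : T.K.φ c = π g) {v : V}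
    (hv : IsPt v) : (c : G) * T.tr hF v * (c : G)⁻¹ = T.tr hF (suMat g *ᵥ v) :=
  congrArg Subtype.val (T.K.kk_conj hF hω (T.base₀_spec hF hω).2 hc hv)

theorem tr_smul {v : V} (hv : IsPt v) {a : F} (ha : a ≠ 0) : T.tr hF (a • v) = T.tr hF v :=
  congrArg Subtype.val (T.K.kk_smul hF hω (T.base₀_spec hF hω).2 hv ha)

theorem tr_eq_smul {u v : V} (hu : IsPt u) (hv : IsPt v) (e : T.tr hF u = T.tr hF v) : ∃ a : F, u = a • v := by
  refine tv_eq_smul hF hu hv (pi_inj hF (tv_sq hF hu.2) (tv_sq hF hv.2) ?_)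
  rw [← T.phi_tr hF hω hu, ← T.phi_tr hF hω hv, show T.K.kk hF (T.base₀ hF) u = _ from Subtype.ext e]

/-- The members commuting with `d`. -/
theorem exists_tr {x : G} (hx : IsConj d x) (hxd : Commute x d) :
    x = d ∨ ∃ v : V, IsPt v ∧ x = T.tr hF v := by
  have hk₀ := (T.base₀_spec hF hω).2
  set x' : ↥(Subgroup.centralizer ({d} : Set G)) := ⟨x, mem_cent.2 hxd⟩
  obtain ⟨c, hc⟩ := T.K.invol_into_base hF hω (x := x') (Subtype.ext (T.sq_of_conj hx))
  have hy : c * x' * c⁻¹ ∈ T.K.dConj := ⟨hc, hx.trans (isConj_iff.2 ⟨(c : G), rfl⟩)⟩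
  obtain ⟨q, hq, eq⟩ := hc
  by_cases h1 : q = 1
  · left
    rw [h1, map_one] at eq
    rcases (T.K.ker_iff _).1 eq.symm with e | e
    · exact absurd (congrArg Subtype.val (conj_eq_one_iff.1 e)) (T.conj_ne_one hx)
    · have : x' = T.K.z := by rw [← T.K.conj_z c⁻¹, ← e]; group
      exact (congrArg Subtype.val this).trans T.hz
  right
  obtain ⟨k, t, ht, rfl⟩ := SixPlane.exists_class hF hω hq h1
  have hcount := T.K.fibre_const hF hω T.hz ht
  rw [T.fibres hF hω k] at hcount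
  have hk : k = 0 := by
    by_contra hk
    rw [if_neg hk, Set.ncard_eq_zero] at hcount
    exact Set.eq_empty_iff_forall_notMem.1 hcount _ ⟨hy, eq.symm⟩
  subst hk
  rw [if_pos rfl, Set.ncard_eq_one] at hcount
  obtain ⟨a, ha⟩ := hcount
  have ht0 : SixPlane.tri ω t 0 ≠ 0 := (SixPlane.tri_indep hF hω ht).ne_zero 0
  set w : V := SixPlane.emb (SixPlane.tri ω t 0)
  have hw : IsPt w := SixPlane.isPt_emb ht0
  have hww : T.K.kk hF (T.base₀ hF) w ∈ T.K.dConj :=
    ⟨⟨tv hF w, (SixPlane.isTr_tv hF _).mem, (T.phi_tr hF hω hw).symm⟩, T.isConj_tr hF hω hw⟩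
  have e : c * x' * c⁻¹ = T.K.kk hF (T.base₀ hF) w := by
    have h1 : c * x' * c⁻¹ ∈ ({a} : Set _) := ha ▸ ⟨hy, eq.symm⟩
    have h2 : T.K.kk hF (T.base₀ hF) w ∈ ({a} : Set _) := ha ▸ ⟨hww, T.phi_tr hF hω hw⟩
    exact h1.trans h2.symm
  obtain ⟨g, hg⟩ := QuotientGroup.mk'_surjective _ (T.K.φ c)
  refine ⟨suMat g⁻¹ *ᵥ w, ⟨su_mulVec_ne_zero _ hw.1, by rw [su_preserves]; exact hw.2⟩, ?_⟩
  rw [← T.tr_conj hF hω (g := g⁻¹) (c := c⁻¹) (by rw [map_inv, map_inv, hg]) hw]
  show x = (c⁻¹ : ↥(Subgroup.centralizer ({d} : Set G))).1 * _ * _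
  rw [tr, ← Subgroup.coe_inv, ← Subgroup.coe_mul, ← Subgroup.coe_mul, ← e]
  simp [x', mul_assoc]

/-- Members commute exactly when their centres are orthogonal. -/
theorem tr_commute_iff {u v : V} (hu : IsPt u) (hv : IsPt v) :
    Commute (T.tr hF u) (T.tr hF v) ↔ hh u v = 0 := by
  constructor
  · intro h
    refine (comm_pi hF hu hv).1 ?_
    have h' : Commute (T.K.kk hF (T.base₀ hF) u) (T.K.kk hF (T.base₀ hF) v) := Subtype.ext h
    rw [← T.phi_tr hF hω hu, ← T.phi_tr hF hω hv]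
    exact h'.map T.K.φ
  · intro h
    exact congrArg Subtype.val
      (lift_commute hF T.K.φ T.K.surj T.K.ker_le_center hu.2 hv.2 h (T.phi_tr hF hω hu) (T.phi_tr hF hω hv)).eq

theorem pt_moved (g : Cfsg.SU 6 F 2) {v : V} (hv : IsPt v) : IsPt (suMat g *ᵥ v) :=
  ⟨su_mulVec_ne_zero g hv.1, by rw [su_preserves]; exact hv.2⟩

/-- Conjugation of members by members. -/
theorem tr_conj_tr {u v : V} (hu : IsPt u) (hv : IsPt v) :
    T.tr hF u * T.tr hF v * T.tr hF u = T.tr hF (v + hh v u • u) := by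
  have h := T.tr_conj hF hω (T.phi_tr hF hω hu) hv
  rw [tv_apply hF hu.2, show ((T.K.kk hF (T.base₀ hF) u : ↥(Subgroup.centralizer ({d} : Set G))) : G) = T.tr hF u
    from rfl, inv_eq_of_mul_eq_one_right (T.sq_of_conj (T.isConj_tr hF hω hu))] at h
  exact h

theorem tr_cube {u v : V} (hu : IsPt u) (hv : IsPt v) (h : hh u v ≠ 0) :
    (T.tr hF u * T.tr hF v) ^ 3 = 1 := by
  have hvu : hh v u ≠ 0 := fun e => h ((hh_comm hF).1 e)
  have e : T.tr hF (v + hh v u • u) = T.tr hF (u + hh u v • v) := by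
    have hw : IsPt (u + hh u v • v) := by rw [← tv_apply hF hv.2]; exact pt_moved hF hω _ hu
    rw [← T.tr_smul hF hω hw hvu]
    congr 1
    have hs : hh u v = hh v u ^ 2 := herm_swap hF v u
    rw [hs, smul_add, smul_smul, ← pow_succ', SixTwo.pow_three hF hvu, one_smul, add_comm]
  rw [← T.tr_conj_tr hF hω hu hv, ← T.tr_conj_tr hF hω hv hu] at e
  have hb := T.sq_of_conj (T.isConj_tr hF hω hv)
  have ha := T.sq_of_conj (T.isConj_tr hF hω hu)
  generalize T.tr hF u = a at e ha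
  generalize T.tr hF v = b at e hb
  calc (a * b) ^ 3 = (a * b * a) * (b * a * b) := by simp only [pow_succ, pow_zero, one_mul, mul_assoc]
    _ = (b * a * b) * (b * a * b) := by rw [e]
    _ = b * a * (b * b) * a * b := by group
    _ = 1 := by rw [hb, mul_one, mul_assoc b a a, ha, mul_one, hb]

/-- The members generate the centraliser. -/
theorem closure_tr :
    Subgroup.closure {x : G | ∃ v : V, IsPt v ∧ x = T.tr hF v} = Subgroup.centralizer ({d} : Set G) := by
  refine le_antisymm ((Subgroup.closure_le _).2 ?_) ?_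
  · rintro _ ⟨v, -, rfl⟩; exact mem_cent.2 (T.tr_cent hF v)
  set C := Subgroup.centralizer ({d} : Set G)
  set H : Subgroup ↥C := (Subgroup.closure {x : G | ∃ v : V, IsPt v ∧ x = T.tr hF v}).subgroupOf C
  have hmap : H.map T.K.φ = ⊤ := by
    haveI := Fintype.ofFinite F
    have hs : IsSimpleGroup (Cfsg.PSU 6 F 2) := Unitary.isSimpleGroup_PSU hF (by norm_num) (by omega)
    haveI hn : (H.map T.K.φ).Normal := by
      refine ⟨fun n hn k => ?_⟩
      obtain ⟨c, rfl⟩ := T.K.surj k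
      obtain ⟨m, hm, rfl⟩ := hn
      refine ⟨c * m * c⁻¹, ?_, by simp⟩
      show (c : G) * m * (c : G)⁻¹ ∈ Subgroup.closure {x : G | ∃ v : V, IsPt v ∧ x = T.tr hF v}
      have hm' : (m : G) ∈ Subgroup.closure {x : G | ∃ v : V, IsPt v ∧ x = T.tr hF v} := hm
      generalize (m : G) = y at hm'
      induction hm' using Subgroup.closure_induction with
      | mem y hy =>
        obtain ⟨v, hv, rfl⟩ := hy
        obtain ⟨g, hg⟩ := QuotientGroup.mk'_surjective _ (T.K.φ c)
        exact Subgroup.subset_closure ⟨_, pt_moved hF hω g hv, T.tr_conj hF hω hg.symm hv⟩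
      | one => simp
      | mul a b _ _ ha hb =>
        rw [← conj_mul]; exact mul_mem ha hb
      | inv a _ ha =>
        rw [← conj_inv]; exact inv_mem ha
    refine (hn.eq_bot_or_eq_top).resolve_left fun e => ?_
    have hv : IsPt (SixPlane.bu (F := F) 0) :=
      SixPlane.isPt_emb fun e => one_ne_zero (α := F) (by simpa using congrFun e 0)
    refine pi_tv_ne_one hF hv ?_
    rw [← T.phi_tr hF hω hv]
    have : T.K.φ (T.K.kk hF (T.base₀ hF) (SixPlane.bu 0)) ∈ H.map T.K.φ :=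
      Subgroup.mem_map.2 ⟨_, show T.tr hF (SixPlane.bu 0) ∈ Subgroup.closure {x : G | ∃ v : V, IsPt v ∧ x = T.tr hF v} from
        Subgroup.subset_closure ⟨_, hv, rfl⟩, rfl⟩
    rwa [e, Subgroup.mem_bot] at this
  have hcom : commutator ↥C ≤ H := by
    rw [commutator_def, Subgroup.commutator_le]
    intro a _ b _
    obtain ⟨a', ha', ea⟩ : T.K.φ a ∈ H.map T.K.φ := hmap ▸ Subgroup.mem_top _
    obtain ⟨b', hb', eb⟩ : T.K.φ b ∈ H.map T.K.φ := hmap ▸ Subgroup.mem_top _
    have ca : a' * a⁻¹ ∈ Subgroup.center ↥C := T.K.ker_le_center (by simp [MonoidHom.mem_ker, ea])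
    have cb : b' * b⁻¹ ∈ Subgroup.center ↥C := T.K.ker_le_center (by simp [MonoidHom.mem_ker, eb])
    have e : ⁅a', b'⁆ = ⁅a, b⁆ := by
      obtain ⟨p, rfl⟩ : ∃ p, a' = p * a := ⟨a' * a⁻¹, by group⟩
      obtain ⟨q, rfl⟩ : ∃ q, b' = q * b := ⟨b' * b⁻¹, by group⟩
      rw [mul_inv_cancel_right] at ca cb
      simp only [commutatorElement_def, _root_.mul_inv_rev]
      have hp := Subgroup.mem_center_iff.1 ca
      have hq := Subgroup.mem_center_iff.1 cb
      calc p * a * (q * b) * (a⁻¹ * p⁻¹) * (b⁻¹ * q⁻¹) = p * (a * q) * b * (a⁻¹ * p⁻¹) * (b⁻¹ * q⁻¹) := by group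
        _ = (p * q) * (a * b * a⁻¹) * p⁻¹ * b⁻¹ * q⁻¹ := by rw [hq a]; group
        _ = (p * q) * ((a * b * a⁻¹) * p⁻¹) * b⁻¹ * q⁻¹ := by group
        _ = (p * q * p⁻¹) * (a * b * a⁻¹ * b⁻¹) * q⁻¹ := by
            rw [Subgroup.mem_center_iff.1 (inv_mem ca) (a * b * a⁻¹)]; group
        _ = q * (a * b * a⁻¹ * b⁻¹) * q⁻¹ := by rw [hq p, mul_inv_cancel_right]
        _ = a * b * a⁻¹ * b⁻¹ := by rw [← hq, mul_inv_cancel_right]
    rw [← e]
    exact H.mul_mem (H.mul_mem (H.mul_mem ha' hb') (H.inv_mem ha')) (H.inv_mem hb')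
  intro x hx
  exact hcom (T.K.perfect ▸ Subgroup.mem_top (⟨x, hx⟩ : ↥C))

end TC

end CfsgLib.TC22
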