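import Cfsg.Agent.TC22.TriData
import Mathlib.Data.ZMod.Basic

/-!
The checks on the tables for the common neighbours.
-/

set_option autoImplicit false

namespace CfsgLib.TC22.Data

open CfsgLib.SixPlane

theorem codes_cover : ∀ n < 1024, h6 (wvec n) (wvec n) = 0 →
    ∀ κ, (mask ((goods κ).map (fun e => e.1) ++ (bads κ).map (fun e => e.1))).testBit n = true := by decide +kernel

theorem ptvc_spec : ∀ κ j k, ptvc κ j k = ptv κ j k := by decide +kernel

theorem goods_spec : ∀ κ, ∀ e ∈ goods κ, e.2.2 ≠ 0 ∧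
    ∀ k, wvec e.1 k = mul4 e.2.2 (pts126 κ e.2.1 k) := by decide +kernel

theorem yIdx_spec : ∀ κ j, (yIdx κ j).2 ≠ 0 ∧ ∀ k, ptv κ j k = mul4 (yIdx κ j).2 (pts126 κ (yIdx κ j).1 k) := by
  decide +kernel

theorem pts126_kinds : ∀ κ i, i = busIdx κ ∨ i ∈ List.ofFn (fun j => (yIdx κ j).1) ∨
    i ∈ (goods κ).map (fun e => e.2.1) := by decide +kernel

theorem perp_count : ∀ j : Fin 45,
    (List.finRange 45).countP (fun k => decide (k ≠ j) && h4 (pts45 k) (pts45 j) == 0) = 12 := by decide +kernel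

theorem pts126_first : ∀ κ i, ∃ k, pts126 κ i k = 1 ∧ ∀ l, l < k → pts126 κ i l = 0 := by decide +kernel

end CfsgLib.TC22.Data
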