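import Cfsg.Agent.TC22.TriData
import Mathlib.Data.ZMod.Basic

/-!
The checks on the tables for the common neighbours.
-/

set_option autoImplicit false

namespace CfsgLib.TC22.Data

open CfsgLib.SixPlane

theorem bads_spec : ∀ κ, ∀ e ∈ bads κ, ∀ k, act6 κ e.2 (wvec e.1) k = wvec (rootCode κ) k := by decide +kernel

theorem base_zero : ∀ n < 256, ∀ i : Fin 4,
    h4 (pts45 (base4 i)) (fun k => add4
      (add4 (mul4 ⟨coef.getD n 0 % 4, Nat.mod_lt _ (by omega)⟩ (qbasis 0 k))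
        (mul4 ⟨coef.getD n 0 / 4 % 4, Nat.mod_lt _ (by omega)⟩ (qbasis 1 k)))
      (add4 (mul4 ⟨coef.getD n 0 / 16 % 4, Nat.mod_lt _ (by omega)⟩ (qbasis 2 k))
        (mul4 ⟨coef.getD n 0 / 64 % 4, Nat.mod_lt _ (by omega)⟩ (qbasis 3 k)))) =
      ⟨n / 4 ^ i.val % 4, Nat.mod_lt _ (by omega)⟩ := by decide +kernel

theorem qbasis_iso : ∀ i, h4 (qbasis i) (qbasis i) = 0 := by decide

theorem tree2_ok : ∀ κ, check2 κ 17 (tree2 κ) (List.ofFn fun i => (base4 i, 0)) = true := by decide +kernel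

theorem busIdx_spec : ∀ κ k, pts126 κ (busIdx κ) k = ![1, 1, 0, 0, 0, 0] k := by decide +kernel

end CfsgLib.TC22.Data
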