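import Cfsg.Agent.TC22.Three
import Cfsg.Agent.TC22.TriCheckOrbit
import Cfsg.Agent.TC22.TriCheckCover

/-!
Normal forms for the common neighbours of two members that do not commute and a neighbour of both.
-/

set_option autoImplicit false
set_option linter.unusedSectionVars false
set_option linter.style.haveILetI false

namespace CfsgLib.TC22

open Matrix CfsgLib.Unitary CfsgLib.ThreeT CfsgLib.ThreeT.SixTwo CfsgLib.SixPlane

theorem extend0_some {f : Fin 45 → Fin 4} :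
    ∀ (l s : List (Fin 45 × Fin 4)), (∀ p ∈ l, p.2 = f p.1) → (∀ p ∈ s, p.2 = f p.1) →
      ∃ s', Data.extend0 l s = some s' ∧ ∀ p ∈ s', p.2 = f p.1
  | [], s, _, hs => ⟨s, rfl, hs⟩
  | (j, v) :: r, s, hl, hs => by
    obtain rfl : v = f j := hl _ List.mem_cons_self
    simp only [Data.extend0]
    cases h : Data.look s j with
    | none =>
      dsimp only
      exact extend0_some r _ (fun p hp => hl p (List.mem_cons_of_mem _ hp)) (List.forall_mem_cons.2 ⟨rfl, hs⟩)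
    | some x =>
      obtain rfl : x = f j := hs _ (look_mem h)
      dsimp only
      rw [if_pos rfl]
      exact extend0_some r s (fun p hp => hl p (List.mem_cons_of_mem _ hp)) hs

theorem check2_sound {κ : Fin 3} {f : Fin 45 → Fin 4} (N : Fin 27 → ℕ) (hN : ∀ L, N L ∈ Data.patt κ)
    (hA : ∀ L, ∀ p ∈ Data.assigns L (N L), p.2 = f p.1) :
    ∀ (k : ℕ) (t : Data.Tree2) (s : List (Fin 45 × Fin 4)), Data.check2 κ k t s = true →
      (∀ p ∈ s, p.2 = f p.1) → ∀ j, f j = Data.sol κ j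
  | 0, t, s, h, _ => by simp [Data.check2] at h
  | k + 1, .done, s, h, hs => fun j => by
    simp only [Data.check2, List.all_eq_true, beq_iff_eq] at h
    exact (hs _ (look_mem (h j (List.mem_finRange j)))).symm
  | k + 1, .node L kids, s, h, hs => by
    simp only [Data.check2, Bool.and_eq_true, beq_iff_eq, List.all_eq_true] at h
    obtain ⟨s', he, hs'⟩ := extend0_some _ s (hA L) hs
    have hm : s' ∈ (Data.patt κ).filterMap fun n => Data.extend0 (Data.assigns L n) s :=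
      List.mem_filterMap.2 ⟨_, hN L, he⟩
    obtain ⟨i, hi, e⟩ := List.getElem_of_mem hm
    have hi' : i < (List.ofFn kids).length := h.1 ▸ hi
    exact check2_sound N hN hA k ((List.ofFn kids)[i]) s' (h.2 (s', (List.ofFn kids)[i]) (List.mem_iff_getElem.2
      ⟨i, by rw [List.length_zip]; exact lt_min hi hi', by simp [e]⟩)) hs'

variable {F : Type} [Field F] [CharP F 2] [Finite F] (hF : Nat.card F = 2 ^ 2) {ω : F}
  (hω : ω ^ 2 = ω + 1) {G : Type*} [Group G] [Finite G] {d : G} (T : TC F d)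

local notation "V" => Fin 6 → F
local notation "hh" => Cfsg.hermForm 6 F 2
local notation "π" => QuotientGroup.mk' (Subgroup.center (Cfsg.SU 6 F 2))

include hF hω

theorem h4_add (x u v : Fin 4 → Fin 4) :
    Data.h4 x (fun k => add4 (u k) (v k)) = add4 (Data.h4 x u) (Data.h4 x v) := by
  apply enc_injective hω
  simp only [enc_add hω, enc_h4 hF hω]
  linear_combination (enc ω (x 0) * enc ω (u 0) * enc ω (v 0) + enc ω (x 1) * enc ω (u 1) * enc ω (v 1) +
    enc ω (x 2) * enc ω (u 2) * enc ω (v 2) + enc ω (x 3) * enc ω (u 3) * enc ω (v 3)) *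
      CharTwo.two_eq_zero (R := F)

/-- Translation along the line functions. -/
theorem exists_translate1 (q : Fin 4 → Fin 4) (hq : Data.h4 q q = 0) :
    ∃ g : Cfsg.SU 6 F 2, suMat g *ᵥ bu 0 = bu 0 ∧
      ∀ l x, suMat g *ᵥ vec4 ω l x = vec4 ω (add4 l (Data.h4 x q)) x := by
  set w : V := vec4 ω 0 q
  have hww : hh w w = 0 := by rw [hh_vec4 hF hω, hq]; rfl
  have hwb : hh w (bu 0) = 0 := hh_vec4_bu hF hω 0 q
  have hbw : hh (bu 0) w = 0 := (hh_comm hF).1 hwb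
  refine ⟨el hF (bu 0) w, ?_, fun l x => ?_⟩
  · rw [el_apply hF (hh_bu _ _) hww hbw, hbw, hh_bu]; simp
  · rw [el_apply hF (hh_bu _ _) hww hbw, hh_vec4_bu hF hω, hh_vec4 hF hω, zero_smul, add_zero]
    funext i
    fin_cases i <;> simp [vec4, bu, emb, enc_add hω]

theorem exists_translate (v : Fin 4 → Fin 4) :
    ∃ g : Cfsg.SU 6 F 2, suMat g *ᵥ bu 0 = bu 0 ∧ ∃ u : Fin 4 → Fin 4,
      (∀ l x, suMat g *ᵥ vec4 ω l x = vec4 ω (add4 l (Data.h4 x u)) x) ∧
      ∀ i, Data.h4 (Data.pts45 (Data.base4 i)) u = v i := by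
  set n := (v 0).val + 4 * (v 1).val + 16 * (v 2).val + 64 * (v 3).val with hn
  have h0 := (v 0).isLt; have h1 := (v 1).isLt; have h2 := (v 2).isLt; have h3 := (v 3).isLt
  have hv : ∀ i : Fin 4, (⟨n / 4 ^ i.val % 4, Nat.mod_lt _ (by omega)⟩ : Fin 4) = v i := fun i => Fin.ext (by
    fin_cases i <;> simp <;> omega)
  have hb := Data.base_zero n (by omega)
  set c : Fin 4 → Fin 4 := ![⟨Data.coef.getD n 0 % 4, Nat.mod_lt _ (by omega)⟩,
    ⟨Data.coef.getD n 0 / 4 % 4, Nat.mod_lt _ (by omega)⟩, ⟨Data.coef.getD n 0 / 16 % 4, Nat.mod_lt _ (by omega)⟩,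
    ⟨Data.coef.getD n 0 / 64 % 4, Nat.mod_lt _ (by omega)⟩] with hc
  have hq : ∀ i, Data.h4 (fun k => mul4 (c i) (Data.qbasis i k)) (fun k => mul4 (c i) (Data.qbasis i k)) = 0 :=
    fun i => by
      apply enc_injective hω
      have := congrArg (enc ω) (Data.qbasis_iso i)
      simp only [enc_h4 hF hω, enc_mul hω] at this ⊢
      rw [show enc ω (0 : Fin 4) = 0 from rfl] at this ⊢
      linear_combination (enc ω (c i) ^ 3) * this
  choose g hg0 hg using fun i => exists_translate1 hF hω _ (hq i)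
  refine ⟨g 0 * g 1 * (g 2 * g 3), ?_, fun k => add4 (add4 (mul4 (c 0) (Data.qbasis 0 k)) (mul4 (c 1) (Data.qbasis 1 k)))
      (add4 (mul4 (c 2) (Data.qbasis 2 k)) (mul4 (c 3) (Data.qbasis 3 k))), fun l x => ?_, fun i => ?_⟩
  · simp only [suMat_mul, ← Matrix.mulVec_mulVec, hg0]
  · simp only [suMat_mul, ← Matrix.mulVec_mulVec, hg]
    congr 1
    rw [h4_add hF hω x (fun k => add4 (mul4 (c 0) (Data.qbasis 0 k)) (mul4 (c 1) (Data.qbasis 1 k))),
      h4_add hF hω, h4_add hF hω]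
    exact (by decide : ∀ l p q r s : Fin 4,
      add4 (add4 (add4 (add4 l s) r) q) p = add4 l (add4 (add4 p q) (add4 r s))) _ _ _ _ _
  · rw [← hv i]
    exact hb i

namespace TC

include T

/-- A normal form for the pair: the second member commutes with the lifts over the graph of a table. -/
theorem exists_normal {e : G} (he : IsConj d e) (hed : ¬ Commute e d) :
    ∃ κ : Fin 3, ∃ c : G, Commute c d ∧ IsConj d (c⁻¹ * e * c) ∧ ¬ Commute (c⁻¹ * e * c) d ∧
      Commute (c⁻¹ * e * c) (T.tr hF (bu 0)) ∧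
      ∀ l j, Commute (c⁻¹ * e * c) (T.tr hF (vec4 ω l (Data.pts45 j))) ↔ l = Data.sol κ j := by
  obtain ⟨κ, hκ⟩ := T.class_unique hF hω
  obtain ⟨y, hy, hdy, hye⟩ := T.far_common hF hω (IsConj.refl d) he
  obtain ⟨u, hu, rfl⟩ := T.exists_tr_ne hF hω hy hdy.symm fun h => hed (h ▸ hye).symm
  obtain ⟨c₁, hc₁, e₁⟩ := T.tr_trans hF hω (T.bu_pt hF hω) hu
  have hc₁d := mem_cent.1 hc₁
  have move : ∀ (c : G), Commute c d → ∀ (x : G), IsConj d x → ¬ Commute x d →
      IsConj d (c⁻¹ * x * c) ∧ ¬ Commute (c⁻¹ * x * c) d := fun c hc x hx hxd =>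
    ⟨by simpa using T.conj_mem hF hω c⁻¹ hx, fun h => hxd (by
      have := (Commute.conj_iff c).2 h
      rwa [hc.eq, mul_inv_cancel_right, show c * (c⁻¹ * x * c) * c⁻¹ = x by group] at this)⟩
  have hconj : ∀ (c x p : G), Commute (c⁻¹ * x * c) p ↔ Commute x (c * p * c⁻¹) := fun c x p => by
    rw [← Commute.conj_iff c, show c * (c⁻¹ * x * c) * c⁻¹ = x by group]
  obtain ⟨he₁, hed₁⟩ := move c₁ hc₁d e he hed
  have hez₁ : Commute (c₁⁻¹ * e * c₁) (T.tr hF (bu 0)) := by rw [hconj, e₁]; exact hye.symm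
  obtain ⟨f, hf⟩ := T.exists_fun hF hω he₁ hed₁ hez₁
  obtain ⟨g, hg0, u', hg, hgv⟩ := exists_translate hF hω fun i => f (Data.base4 i)
  obtain ⟨c₂, hc₂⟩ := T.K.surj (π g)
  have hc₂d : Commute (c₂ : G) d := mem_cent.1 c₂.2
  obtain ⟨he₂, hed₂⟩ := move (c₂ : G) hc₂d _ he₁ hed₁
  have hez₂ : Commute ((c₂ : G)⁻¹ * (c₁⁻¹ * e * c₁) * (c₂ : G)) (T.tr hF (bu 0)) := by
    rw [hconj, T.tr_conj hF hω hc₂ (T.bu_pt hF hω), hg0]; exact hez₁
  set f' : Fin 45 → Fin 4 := fun j => add4 (f j) (Data.h4 (Data.pts45 j) u') with hf'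
  have hiff : ∀ l j, Commute ((c₂ : G)⁻¹ * (c₁⁻¹ * e * c₁) * (c₂ : G)) (T.tr hF (vec4 ω l (Data.pts45 j))) ↔
      l = f' j := fun l j => by
    rw [hconj, T.tr_conj hF hω hc₂ (vec4_pt hF hω l j), hg, hf, hf']
    exact (by decide : ∀ a b c : Fin 4, add4 a c = b ↔ a = add4 b c) _ _ _
  have hsol : ∀ j, f' j = Data.sol κ j :=
    check2_sound _ (T.fun_six hF hω he₂ hed₂ hez₂ (fun j => (hiff _ j).2 rfl) hκ) (T.assigns_fun hF hω f')
      17 (Data.tree2 κ) _ (Data.tree2_ok κ) fun p hp => by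
        obtain ⟨i, rfl⟩ := List.mem_ofFn.1 hp
        show (0 : Fin 4) = add4 (f _) (Data.h4 _ u')
        rw [hgv]
        exact (by decide : ∀ a : Fin 4, 0 = add4 a a) _
  refine ⟨κ, c₁ * (c₂ : G), hc₁d.mul_left hc₂d, ?_⟩
  rw [show (c₁ * (c₂ : G))⁻¹ * e * (c₁ * (c₂ : G)) = (c₂ : G)⁻¹ * (c₁⁻¹ * e * c₁) * (c₂ : G) by group]
  exact ⟨he₂, hed₂, hez₂, fun l j => by rw [hiff, hsol]⟩

/-- Members commuting with `d`, with a far member and with a common neighbour: exactly forty-five more. -/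
theorem ncard_nbrs {e : G} (he : IsConj d e) (hed : ¬ Commute e d) {u : V} (hu : IsPt u)
    (heu : Commute e (T.tr hF u)) :
    {x : G | IsConj d x ∧ Commute x d ∧ Commute x e ∧ Commute x (T.tr hF u) ∧ x ≠ T.tr hF u}.ncard = 45 := by
  classical
  set z := T.tr hF u
  obtain ⟨g, hg⟩ := T.exists_conj hF hω (T.isConj_tr hF hω hu)
  have hto : ∀ {x : G}, IsConj d x → Commute x z → x ≠ z → ∃ s : V, IsPt s ∧ g * x * g⁻¹ = T.tr hF s :=
    fun {x} hx hc hne => by
    refine T.exists_tr_ne hF hω (T.conj_mem hF hω g hx) ?_ fun e => hne (mul_left_cancel (mul_right_cancel (e.trans hg.symm)))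
    have h := (Commute.conj_iff g).2 hc
    rwa [hg] at h
  obtain ⟨a, ha, ea⟩ := hto (IsConj.refl d) (T.tr_cent hF _).symm (Ne.symm (T.tr_ne hF hω hu))
  obtain ⟨b, hb, eb⟩ := hto he heu fun e' => hed (e' ▸ T.tr_cent hF _)
  have hab : hh a b ≠ 0 := fun h => hed (by
    rw [← T.tr_commute_iff hF hω ha hb, ← ea, ← eb, Commute.conj_iff] at h
    exact h.symm)
  rw [← SixTwo.ncard_common hF ⟨a, ha, rfl⟩ ⟨b, hb, rfl⟩ (fun h => hab ((comm_pi hF ha hb).1 h))]
  have key : ∀ x : G, ∀ hx : IsConj d x ∧ Commute x d ∧ Commute x e ∧ Commute x z ∧ x ≠ z,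
      ∃ r, IsPt r ∧ g * x * g⁻¹ = T.tr hF r ∧ hh r a = 0 ∧ hh r b = 0 := fun x ⟨hx, hxd, hxe, hxz, hne⟩ => by
    obtain ⟨r, hr, er⟩ := hto hx hxz hne
    refine ⟨r, hr, er, ?_, ?_⟩
    · rw [← T.tr_commute_iff hF hω hr ha, ← er, ← ea]; exact (Commute.conj_iff g).2 hxd
    · rw [← T.tr_commute_iff hF hω hr hb, ← er, ← eb]; exact (Commute.conj_iff g).2 hxe
  choose r hr her hra hrb using key
  refine Set.ncard_congr (fun x hx => π (tv hF (r x hx))) (fun x hx => ?_) (fun x y hx hy h => ?_) fun P hP => ?_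
  · exact ⟨⟨_, hr x hx, rfl⟩, (comm_pi hF (hr x hx) ha).2 (hra x hx), (comm_pi hF (hr x hx) hb).2 (hrb x hx)⟩
  · obtain ⟨c, hc⟩ := tv_eq_smul hF (hr x hx) (hr y hy)
      (pi_inj hF (tv_sq hF (hr x hx).2) (tv_sq hF (hr y hy).2) h)
    have e1 : T.tr hF (r x hx) = T.tr hF (r y hy) := by
      rw [hc, T.tr_smul hF hω (hr y hy) fun h0 => (hr x hx).1 (by rw [hc, h0, zero_smul])]
    rw [← her x hx, ← her y hy] at e1
    exact mul_left_cancel (mul_right_cancel e1)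
  · obtain ⟨⟨s, hs, rfl⟩, hsa, hsb⟩ := hP
    have e0 : g * (g⁻¹ * T.tr hF s * g) * g⁻¹ = T.tr hF s := by group
    have hx : IsConj d (g⁻¹ * T.tr hF s * g) ∧ Commute (g⁻¹ * T.tr hF s * g) d ∧ Commute (g⁻¹ * T.tr hF s * g) e ∧
        Commute (g⁻¹ * T.tr hF s * g) z ∧ g⁻¹ * T.tr hF s * g ≠ z := by
      refine ⟨by simpa using T.conj_mem hF hω g⁻¹ (T.isConj_tr hF hω hs), ?_, ?_, ?_, fun h => ?_⟩
      · exact (Commute.conj_iff g).1 (by rw [e0, ea]; exact (T.tr_commute_iff hF hω hs ha).2 ((comm_pi hF hs ha).1 hsa))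
      · exact (Commute.conj_iff g).1 (by rw [e0, eb]; exact (T.tr_commute_iff hF hω hs hb).2 ((comm_pi hF hs hb).1 hsb))
      · refine (Commute.conj_iff g).1 ?_
        rw [e0]
        exact hg.symm ▸ T.tr_cent hF _
      · exact T.tr_ne hF hω hs (by rw [← e0, h, hg])
    refine ⟨_, hx, ?_⟩
    have e1 : T.tr hF (r _ hx) = T.tr hF s := (her _ hx).symm.trans e0
    obtain ⟨c, hc⟩ := T.tr_eq_smul hF hω (hr _ hx) hs e1
    rw [hc, tv_smul hF hs.2 fun h0 => (hr _ hx).1 (by rw [hc, h0, zero_smul])]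

end TC

end CfsgLib.TC22
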