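import Cfsg.Agent.TC22.Sylow
import Cfsg.Agent.ZStar.Final
import Cfsg.Agent.Signalizer.Basic

/-!
Two commuting members are determined by their product, the centraliser of the product fixes the pair, and the product
of two members that do not commute has odd order.
-/

set_option autoImplicit false
set_option linter.unusedSectionVars false
set_option linter.style.haveILetI false

namespace CfsgLib.TC22

open Matrix CfsgLib.Unitary CfsgLib.ThreeT CfsgLib.ThreeT.SixTwo CfsgLib.SixPlane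

variable {F : Type} [Field F] [CharP F 2] [Finite F] (hF : Nat.card F = 2 ^ 2) {ω : F}
  (hω : ω ^ 2 = ω + 1) {G : Type*} [Group G] [Finite G] {d : G} (T : TC F d)

local notation "V" => Fin 6 → F
local notation "hh" => Cfsg.hermForm 6 F 2
local notation "π" => QuotientGroup.mk' (Subgroup.center (Cfsg.SU 6 F 2))

namespace TC

include hF hω T

theorem inv_of_conj {x : G} (hx : IsConj d x) : x⁻¹ = x := inv_eq_of_mul_eq_one_right (T.sq_of_conj hx)

theorem exists_conj {x : G} (hx : IsConj d x) : ∃ g : G, g * x * g⁻¹ = d := by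
  obtain ⟨g, rfl⟩ := isConj_iff.1 hx
  exact ⟨g⁻¹, by group⟩

theorem conj_mem (g : G) {x : G} (hx : IsConj d x) : IsConj d (g * x * g⁻¹) :=
  hx.trans (isConj_iff.2 ⟨g, rfl⟩)

theorem ne_mul_tr {v : V} (hv : IsPt v) {r s : G} (hr : IsConj d r) (hs : IsConj d s) (hrd : Commute r d)
    (hsd : Commute s d) (hrs : Commute r s) (e : d * T.tr hF v = r * s) :
    (r = d ∧ s = T.tr hF v) ∨ (r = T.tr hF v ∧ s = d) := by
  rcases T.exists_tr hF hω hr hrd with rfl | ⟨a, ha, rfl⟩
  · exact Or.inl ⟨rfl, (mul_left_cancel e).symm⟩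
  rcases T.exists_tr hF hω hs hsd with rfl | ⟨b, hb, rfl⟩
  · exact Or.inr ⟨(mul_left_cancel (e.trans hrd.eq)).symm, rfl⟩
  exfalso
  have h0 := (T.tr_commute_iff hF hω ha hb).1 hrs
  have e' : T.K.φ (T.K.z * T.K.kk hF (T.base₀ hF) v) =
      T.K.φ (T.K.kk hF (T.base₀ hF) a * T.K.kk hF (T.base₀ hF) b) := congrArg T.K.φ (Subtype.ext (by
        rw [Subgroup.coe_mul, Subgroup.coe_mul, T.hz]; exact e))
  rw [map_mul, map_mul, T.K.phi_z, one_mul, T.phi_tr hF hω hv, T.phi_tr hF hω ha, T.phi_tr hF hω hb,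
    ← map_mul] at e'
  refine single_ne_two hF hv ha hb h0 (pi_inj hF (tv_sq hF hv.2) ?_ e')
  have hc : Commute (tv hF a) (tv hF b) := (tv_comm_iff hF ha hb).2 h0
  rw [hc.symm.mul_mul_mul_comm, tv_sq hF ha.2, tv_sq hF hb.2, one_mul]

/-- Two pairs inside a commuting set with the same product coincide. -/
theorem pair_unique {p q r s : G} (hp : IsConj d p) (hq : IsConj d q) (hr : IsConj d r) (hs : IsConj d s)
    (hpq : Commute p q) (hpr : Commute r p) (hps : Commute s p) (hrs : Commute r s) (hne : p ≠ q)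
    (e : p * q = r * s) : (r = p ∧ s = q) ∨ (r = q ∧ s = p) := by
  obtain ⟨g, rfl⟩ := isConj_iff.1 hp
  have hinj : ∀ {a b : G}, g⁻¹ * a * g = g⁻¹ * b * g → a = b := fun h => by simpa using h
  have hcd : ∀ {x : G}, Commute x (g * d * g⁻¹) → Commute (g⁻¹ * x * g) d := fun h => by
    have := (Commute.conj_iff g⁻¹).2 h
    rwa [inv_inv, show g⁻¹ * (g * d * g⁻¹) * g = d by group] at this
  have hcc : ∀ {x : G}, IsConj d x → IsConj d (g⁻¹ * x * g) := fun h => by
    simpa using T.conj_mem hF hω g⁻¹ h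
  rcases T.exists_tr hF hω (hcc hq) (hcd hpq.symm) with h | ⟨v, hv, h⟩
  · exact absurd (hinj (h.trans (by group))).symm hne
  have e' : d * T.tr hF v = (g⁻¹ * r * g) * (g⁻¹ * s * g) := by
    rw [← h, show g⁻¹ * r * g * (g⁻¹ * s * g) = g⁻¹ * (r * s) * g by group, ← e]; group
  rcases T.ne_mul_tr hF hω hv (hcc hr) (hcc hs) (hcd hpr) (hcd hps)
    (by simpa using (Commute.conj_iff g⁻¹).2 hrs) e' with ⟨h1, h2⟩ | ⟨h1, h2⟩
  · exact Or.inl ⟨hinj (h1.trans (by group)), hinj (h2.trans h.symm)⟩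
  · exact Or.inr ⟨hinj (h1.trans h.symm), hinj (h2.trans (by group))⟩

/-- The product of two commuting members is no member. -/
theorem prod_not_mem {x y : G} (hx : IsConj d x) (hy : IsConj d y) (hxy : Commute x y) :
    ¬ IsConj d (x * y) := by
  intro hp
  obtain ⟨g, hg⟩ := T.exists_conj hF hω hx
  have hy' : Commute (g * y * g⁻¹) d := hg ▸ (Commute.conj_iff g).2 hxy.symm
  have hp' : Commute (g * (x * y) * g⁻¹) d := hg ▸ (Commute.conj_iff g).2 ((Commute.refl x).mul_left hxy.symm)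
  have e : g * (x * y) * g⁻¹ = d * (g * y * g⁻¹) := by rw [← conj_mul, hg]
  rcases T.exists_tr hF hω (T.conj_mem hF hω g hy) hy' with h | ⟨b, hb, h⟩
  · have : IsConj d (g * (x * y) * g⁻¹) := T.conj_mem hF hω g hp
    rw [e, h, T.dd] at this
    exact T.conj_ne_one this rfl
  rcases T.exists_tr hF hω (T.conj_mem hF hω g hp) hp' with h' | ⟨a, ha, h'⟩
  · rw [e, h, mul_eq_left] at h'
    exact T.conj_ne_one (T.isConj_tr hF hω hb) h'
  · rw [e, h] at h'
    have e' : T.K.φ (T.K.z * T.K.kk hF (T.base₀ hF) b) = T.K.φ (T.K.kk hF (T.base₀ hF) a) :=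
      congrArg T.K.φ (Subtype.ext (by rw [Subgroup.coe_mul, T.hz]; exact h'))
    rw [map_mul, T.K.phi_z, one_mul, T.phi_tr hF hω hb, T.phi_tr hF hω ha] at e'
    obtain ⟨c, hc⟩ := tv_eq_smul hF hb ha (pi_inj hF (tv_sq hF hb.2) (tv_sq hF ha.2) e')
    have hc0 : c ≠ 0 := fun h0 => hb.1 (by rw [hc, h0, zero_smul])
    rw [hc, T.tr_smul hF hω ha hc0] at h'
    exact T.ne_one (mul_eq_right.1 h')

/-- Every subgroup of index at most two of the elementary subgroup contains a member. -/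
theorem hyperplane_meets {B : Subgroup G} (hB : B.relIndex T.K.baseG ≤ 2) : ∃ b ∈ T.om, b ∈ B := by
  by_contra hno; push Not at hno
  have h2 : (B.subgroupOf T.K.baseG).index = 2 := by
    have h0 : B.relIndex T.K.baseG ≠ 0 := Subgroup.index_ne_zero_of_finite
    have h1 : B.relIndex T.K.baseG ≠ 1 := fun h =>
      hno d (T.d_mem_om hF hω) (Subgroup.relIndex_eq_one.1 h (T.z_mem_baseG hF hω))
    show B.relIndex T.K.baseG = 2
    omega
  have hm : ∀ {x y : G}, x ∈ T.K.baseG → y ∈ T.K.baseG → (x * y ∈ B ↔ (x ∈ B ↔ y ∈ B)) := fun hx hy =>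
    Subgroup.mul_mem_iff_of_index_two (a := (⟨_, hx⟩ : ↥T.K.baseG)) (b := ⟨_, hy⟩) h2
  set H : Subgroup ↥(Subgroup.centralizer ({d} : Set G)) := B.subgroupOf _ ⊓ T.K.base with hH
  refine T.K.no_split hF hω (H := H) inf_le_right
    (fun h => hno d (T.d_mem_om hF hω) (T.hz ▸ h.1)) ?_ ?_
  · have hmap : H.map (Subgroup.centralizer ({d} : Set G)).subtype = B ⊓ T.K.baseG := by
      rw [hH, Subgroup.map_inf _ _ _ Subtype.val_injective, Subgroup.subgroupOf_map_subtype, inf_assoc]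
      show B ⊓ (Subgroup.centralizer ({d} : Set G) ⊓ T.K.baseG) = B ⊓ T.K.baseG
      rw [inf_eq_right.2 (T.baseG_le_cent hF hω)]
    have h := Subgroup.card_mul_index (B.subgroupOf T.K.baseG)
    rw [h2, ← Subgroup.card_map_of_injective (f := T.K.baseG.subtype) Subtype.val_injective,
      Subgroup.subgroupOf_map_subtype, ← hmap, Subgroup.card_map_of_injective Subtype.val_injective,
      Cov.baseG, Subgroup.card_map_of_injective Subtype.val_injective, T.K.card_base hF hω] at h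
    omega
  · intro m hms x hx
    refine ⟨?_, T.K.base_conj hF hx.2 hms⟩
    have hn := T.stab_le_N hF hω hms
    have key : ∀ y ∈ T.K.baseG, (y ∈ B ↔ (m : G) * y * (m : G)⁻¹ ∈ B) := by
      intro y hy
      rw [← T.base_eq_closure hF hω] at hy
      have hc : ∀ a ∈ Subgroup.closure T.om, a ∈ T.K.baseG ∧ (m : G) * a * (m : G)⁻¹ ∈ T.K.baseG :=
        fun a ha => by
          rw [T.base_eq_closure hF hω] at ha
          exact ⟨ha, (Subgroup.mem_normalizer_iff.1 hn a).1 ha⟩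
      induction hy using Subgroup.closure_induction with
      | mem a ha => exact iff_of_false (hno a ha) (hno _ (T.om_conj hn ha))
      | one => simp
      | mul a b ha hb iha ihb =>
        rw [← conj_mul, hm (hc a ha).1 (hc b hb).1, hm (hc a ha).2 (hc b hb).2]
        exact iff_congr iha ihb
      | inv a _ iha => rw [← conj_inv, inv_mem_iff, inv_mem_iff]; exact iha
    exact (key (x : G) ⟨x, hx.2, rfl⟩).1 hx.1

/-- The basic case of the pair lemma. -/
theorem pair_fixed_base {g : G} (hg : g * (d * T.tr hF (bu 0)) * g⁻¹ = d * T.tr hF (bu 0)) :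
    g * d * g⁻¹ = d ∨ g * d * g⁻¹ = T.tr hF (bu 0) := by
  classical
  haveI : Fact (Nat.Prime 2) := ⟨Nat.prime_two⟩
  set a₀ := T.tr hF (bu 0) with ha₀
  set u := d * a₀ with hu
  have hpt : IsPt (bu (F := F) 0) := isPt_emb fun e => one_ne_zero (α := F) (by simpa using congrFun e 0)
  have ha : IsConj d a₀ := T.isConj_tr hF hω hpt
  have hda : Commute d a₀ := (T.tr_cent hF _).symm
  have haom : a₀ ∈ T.om :=
    T.tr_emb_mem hF hω (a := Pi.single 0 1) fun e => one_ne_zero (α := F) (by simpa using congrFun e 0)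
  have hane : d ≠ a₀ := (T.tr_ne hF hω hpt).symm
  have huA : u ∈ T.K.baseG := mul_mem (T.z_mem_baseG hF hω) haom.1
  have huu : u * u = 1 := by rw [hu, hda.symm.mul_mul_mul_comm, T.dd, T.sq_of_conj ha, mul_one]
  have hu1 : u ≠ 1 := fun e => hane (by rw [eq_inv_of_mul_eq_one_left e, T.inv_of_conj hF hω ha])
  have hud : Commute d u := (Commute.refl d).mul_right hda
  have hua : u * d = a₀ := by rw [← hud.eq, hu, ← mul_assoc, T.dd, one_mul]
  have hzu : ∀ {x : G}, x ∈ Subgroup.zpowers u → x = 1 ∨ x = u := fun {x} hx => by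
    obtain ⟨n, rfl⟩ := Subgroup.mem_zpowers_iff.1 hx
    rcases Int.even_or_odd n with ⟨j, rfl⟩ | ⟨j, rfl⟩
    · left; rw [_root_.zpow_add, ← (Commute.refl u).mul_zpow, huu, _root_.one_zpow]
    · right; rw [_root_.zpow_add_one, two_mul, _root_.zpow_add, ← (Commute.refl u).mul_zpow, huu, _root_.one_zpow, one_mul]
  set Cu := Subgroup.centralizer ({u} : Set G)
  have hmem : ∀ {x : G}, x ∈ Cu ↔ Commute x u := Subgroup.mem_centralizer_singleton_iff
  set Z : Subgroup ↥Cu := (Subgroup.zpowers u).subgroupOf Cu with hZ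
  haveI : Z.Normal := ⟨fun z hz x => by
    have hz' : (z : G) ∈ Subgroup.zpowers u := hz
    show (x : G) * z * (x : G)⁻¹ ∈ Subgroup.zpowers u
    rcases hzu hz' with h | h
    · rw [h]; simp
    · rw [h, (hmem.1 x.2).eq, mul_inv_cancel_right]; exact Subgroup.mem_zpowers u⟩
  set mk := QuotientGroup.mk' Z
  have hker : ∀ {x y : ↥Cu}, mk x = mk y → (y : G) = x ∨ (y : G) = (x : G) * u := fun {x y} h => by
    have h' : (x : G)⁻¹ * y ∈ Subgroup.zpowers u := (QuotientGroup.eq (s := Z)).1 h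
    rcases hzu h' with h | h
    · exact Or.inl (inv_mul_eq_one.1 h).symm
    · exact Or.inr (eq_mul_of_inv_mul_eq h)
  set d' : ↥Cu := ⟨d, hmem.2 hud⟩
  set g' : ↥Cu := ⟨g, hmem.2 (mul_inv_eq_iff_eq_mul.1 hg)⟩
  -- the conclusion says that the image of `g` centralises the image of `d`
  suffices hgoal : Commute (mk g') (mk d') by
    have h : mk d' = mk (g' * d' * g'⁻¹) := by
      rw [map_mul, map_mul, map_inv, hgoal.eq, mul_inv_cancel_right]
    rcases hker h with h | h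
    · exact Or.inl h
    · exact Or.inr (h.trans (hud.eq.trans hua))
  have hd1 : mk d' ≠ 1 := fun h => by
    rcases hker (x := 1) (y := d') (h.symm.trans rfl) with h | h
    · exact T.ne_one h
    · rw [OneMemClass.coe_one, one_mul] at h
      exact hane (by rw [← hua, ← h, T.dd] at ha; exact absurd rfl (T.conj_ne_one ha))
  have hd2 : orderOf (mk d') = 2 := orderOf_eq_prime (by
    rw [← map_pow, show d' ^ 2 = 1 from Subtype.ext (by simp [pow_two, d', T.dd]), map_one]) hd1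
  have hkerp : IsPGroup 2 ↥mk.ker := by
    intro x
    refine ⟨1, Subtype.ext (Subtype.ext ?_)⟩
    have hx : (x.1 : G) ∈ Subgroup.zpowers u := (QuotientGroup.eq_one_iff (N := Z) x.1).1 x.2
    rcases hzu hx with h | h <;> simp [pow_two, h, huu]
  -- the image of `d` is isolated
  obtain ⟨P, hP⟩ := IsPGroup.exists_le_sylow (show IsPGroup 2 ↥(Subgroup.zpowers (mk d')) from
    IsPGroup.of_card (n := 1) (by rw [Nat.card_zpowers, hd2, pow_one]))
  have hiso : ∀ q, q * mk d' * q⁻¹ ∈ P → q * mk d' * q⁻¹ = mk d' := by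
    intro q hq
    obtain ⟨x, rfl⟩ := QuotientGroup.mk'_surjective Z q
    rw [← map_inv, ← map_mul, ← map_mul] at hq ⊢
    set P' : Subgroup G := ((P : Subgroup (↥Cu ⧸ Z)).comap mk).map Cu.subtype
    have hP' : IsPGroup 2 ↥P' := (P.isPGroup'.comap_of_ker_isPGroup mk hkerp).map _
    have m1 : d ∈ P' := ⟨d', hP (Subgroup.mem_zpowers _), rfl⟩
    have m2 : (x : G) * d * (x : G)⁻¹ ∈ P' := ⟨x * d' * x⁻¹, hq, rfl⟩
    have m3 : u ∈ P' := ⟨⟨u, hmem.2 (Commute.refl u)⟩, by
      show mk _ ∈ (P : Subgroup _)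
      rw [show mk ⟨u, hmem.2 (Commute.refl u)⟩ = 1 from (QuotientGroup.eq_one_iff _).2 (Subgroup.mem_zpowers u)]
      exact one_mem _, rfl⟩
    have hxu : (x : G) * u * (x : G)⁻¹ = u := mul_inv_eq_iff_eq_mul.2 (hmem.1 x.2).eq
    have e : d * a₀ = (x : G) * d * (x : G)⁻¹ * ((x : G) * a₀ * (x : G)⁻¹) := by rw [conj_mul, ← hu, hxu]
    have cd := T.conj_mem hF hω (x : G) (IsConj.refl d)
    have ca := T.conj_mem hF hω (x : G) ha
    have m4 : (x : G) * a₀ * (x : G)⁻¹ ∈ P' := by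
      rw [show (x : G) * a₀ * (x : G)⁻¹ = ((x : G) * d * (x : G)⁻¹)⁻¹ * u from eq_inv_mul_of_mul_eq e.symm]
      exact mul_mem (inv_mem m2) m3
    rcases T.pair_unique hF hω (IsConj.refl d) ha cd ca hda (T.two_group_commute hF hω hP' m2 m1 cd (IsConj.refl d))
      (T.two_group_commute hF hω hP' m4 m1 ca (IsConj.refl d)) ((Commute.conj_iff _).2 hda) hane e with
      ⟨h, -⟩ | ⟨h, -⟩
    · rw [show x * d' * x⁻¹ = d' from Subtype.ext h]
    · have : mk (x * d' * x⁻¹) = mk ⟨u, hmem.2 (Commute.refl u)⟩ * mk d' := by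
        rw [← map_mul]
        exact congrArg mk (Subtype.ext (h.trans hua.symm))
      rw [this, show mk ⟨u, hmem.2 (Commute.refl u)⟩ = 1 from (QuotientGroup.eq_one_iff _).2 (Subgroup.mem_zpowers u),
        one_mul]
  obtain ⟨O, hO, hodd, hcen⟩ := ZStar.zstar_of_sylow P hd2 hiso
  suffices hle : O ≤ Subgroup.centralizer ({mk d'} : Set (↥Cu ⧸ Z)) by
    have h := hle (hcen (mk g'))
    have h' := Subgroup.mem_centralizer_singleton_iff.1 h
    set D := mk d'
    set X := mk g'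
    have hDD : D * D = 1 := by rw [← pow_two, ← hd2, pow_orderOf_eq_one]
    have hDi : D⁻¹ = D := inv_eq_of_mul_eq_one_right hDD
    rw [hDi] at h'
    -- `[D, X]` commutes with `D`, and has odd order
    have hk : (D * X * D * X⁻¹) ^ 2 = 1 := by
      rw [pow_two]
      calc D * X * D * X⁻¹ * (D * X * D * X⁻¹) = (D * X * D * X⁻¹) * D * (X * D * X⁻¹) := by group
        _ = D * (D * X * D * X⁻¹) * (X * D * X⁻¹) := by rw [h']
        _ = (D * D) * X * (D * D) * X⁻¹ := by group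
        _ = 1 := by rw [hDD, one_mul, mul_one, mul_inv_cancel]
    have hko : D * X * D * X⁻¹ ∈ O := by
      have := hcen X
      rwa [hDi] at this
    have h1 : D * X * D * X⁻¹ = 1 := by
      have hdvd := orderOf_dvd_natCard (⟨_, hko⟩ : ↥O)
      rw [Subgroup.orderOf_mk] at hdvd
      have := Nat.eq_one_of_dvd_coprimes (Nat.Coprime.symm (Nat.coprime_two_right.2 hodd))
        (orderOf_dvd_of_pow_eq_one hk) hdvd
      exact orderOf_eq_one_iff.1 this
    show X * D = D * X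
    calc X * D = D * (D * X * D * X⁻¹) * X := by
          rw [← mul_assoc D (D * X * D), ← mul_assoc D (D * X) D, ← mul_assoc D D X, hDD]; group
      _ = D * X := by rw [h1, mul_one]
  -- generation by centralisers of hyperplanes of the image of the elementary subgroup
  set A' : Subgroup (↥Cu ⧸ Z) := (T.K.baseG.subgroupOf Cu).map mk
  have hAle : T.K.baseG ≤ Cu := fun a ha => hmem.2 (T.base_comm hF hω ha huA)
  have hAsq : ∀ a ∈ T.K.baseG, a * a = 1 := by
    rintro _ ⟨a, ha, rfl⟩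
    exact congrArg Subtype.val ((T.K.base_elementary hF hω).2 a ha)
  have hA' : Cfsg.IsElementaryAbelian 2 A' := by
    refine ⟨⟨⟨?_⟩⟩, ?_⟩
    · rintro ⟨_, a, ha, rfl⟩ ⟨_, b, hb, rfl⟩
      exact Subtype.ext (show mk a * mk b = mk b * mk a by
        rw [← map_mul, ← map_mul]; exact congrArg mk (Subtype.ext (T.base_comm hF hω ha hb).eq))
    · rintro _ ⟨a, ha, rfl⟩
      rw [← map_pow, show a ^ 2 = 1 from Subtype.ext (by
        rw [pow_two, Subgroup.coe_mul, hAsq _ (Subgroup.mem_subgroupOf.1 ha), OneMemClass.coe_one]), map_one]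
  refine Signalizer.le_of_forall_hyperplane hA' ?_ (Nat.Prime.coprime_iff_not_dvd Nat.prime_two |>.1
    (Nat.coprime_two_left.2 hodd)) fun B hB hidx => ?_
  · rw [Subgroup.normalizer_eq_top_iff.2 hO]; exact le_top
  set B₀ : Subgroup G := (B.comap mk).map Cu.subtype
  have hidx' : B₀.relIndex T.K.baseG ≤ 2 := by
    rw [show T.K.baseG = (T.K.baseG.subgroupOf Cu).map Cu.subtype by
      rw [Subgroup.subgroupOf_map_subtype, inf_eq_left.2 hAle],
      Subgroup.relIndex_map_map_of_injective _ _ Subtype.val_injective, Subgroup.relIndex_comap]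
    exact hidx
  obtain ⟨b, hb, b', hb', rfl⟩ := T.hyperplane_meets hF hω hidx'
  intro q hq
  obtain ⟨x, rfl⟩ := QuotientGroup.mk'_surjective Z q
  have hxb : mk x * mk b' = mk b' * mk x := (Subgroup.mem_centralizer_iff.1 hq.2 _ hb').symm
  have hxu : (x : G) * u * (x : G)⁻¹ = u := mul_inv_eq_iff_eq_mul.2 (hmem.1 x.2).eq
  have cd := T.conj_mem hF hω (x : G) (IsConj.refl d)
  have ca := T.conj_mem hF hω (x : G) ha
  have finish : ((x : G) * d * (x : G)⁻¹ = d ∨ (x : G) * d * (x : G)⁻¹ = a₀) →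
      mk x ∈ Subgroup.centralizer ({mk d'} : Set (↥Cu ⧸ Z)) := fun h => by
    refine Subgroup.mem_centralizer_singleton_iff.2 (mul_inv_eq_iff_eq_mul.1 ?_)
    rw [← map_inv, ← map_mul, ← map_mul]
    rcases h with h | h
    · rw [show x * d' * x⁻¹ = d' from Subtype.ext h]
    · have : mk (x * d' * x⁻¹) = mk ⟨u, hmem.2 (Commute.refl u)⟩ * mk d' := by
        rw [← map_mul]
        exact congrArg mk (Subtype.ext (h.trans hua.symm))
      rw [this, show mk ⟨u, hmem.2 (Commute.refl u)⟩ = 1 from (QuotientGroup.eq_one_iff _).2 (Subgroup.mem_zpowers u),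
        one_mul]
  refine finish ?_
  have hbb : Cu.subtype b' = (b' : G) := rfl
  rw [hbb] at hb
  set b : G := (b' : G)
  have e : d * a₀ = (x : G) * d * (x : G)⁻¹ * ((x : G) * a₀ * (x : G)⁻¹) := by rw [conj_mul, ← hu, hxu]
  -- `x` centralises the member `b`, or moves it within the pair
  rcases hker (x := b') (y := x * b' * x⁻¹)
    (by rw [map_mul, map_mul, map_inv, hxb, mul_inv_cancel_right]) with h | h
  swap
  · change (x : G) * b * (x : G)⁻¹ = b * u at h
    have hc := T.conj_mem hF hω (x : G) hb.2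
    rw [h] at hc
    have e2 : d * a₀ = b * (b * u) := by rw [← mul_assoc, hAsq _ hb.1, one_mul]
    rcases T.pair_unique hF hω (IsConj.refl d) ha hb.2 hc hda (T.base_comm hF hω hb.1 (T.z_mem_baseG hF hω))
      (T.base_comm hF hω (mul_mem hb.1 huA) (T.z_mem_baseG hF hω)) (T.base_comm hF hω hb.1 (mul_mem hb.1 huA))
      hane e2 with ⟨hbd, hbu⟩ | ⟨hbd, hbu⟩
    · exact Or.inr (by rw [← hbd, h, hbu])
    · right
      have : (x : G) * a₀ * (x : G)⁻¹ = d := by rw [← hbd, h, hbu]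
      rw [this] at e
      exact mul_right_cancel (e.symm.trans hda.eq)
  change (x : G) * b * (x : G)⁻¹ = b at h
  by_cases hbd : b = d
  · exact Or.inl (hbd ▸ h)
  by_cases hba : b = a₀
  · left
    rw [hba] at h
    rw [h] at e
    exact (mul_right_cancel e).symm
  -- move `b` to `d`
  obtain ⟨n, hn, en⟩ := T.trans_N hF hω hb
  have hcen : ∀ {y : G}, Commute y b → Commute (n⁻¹ * y * n) d := fun {y} hy => by
    have h := (Commute.conj_iff n⁻¹).2 hy
    rwa [inv_inv, ← en, show n⁻¹ * (n * d * n⁻¹) * n = d by group] at h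
  have hback : ∀ {y z : G}, n⁻¹ * y * n = z → y = n * z * n⁻¹ := fun h => by rw [← h]; group
  have hpt' : ∀ {y : G}, y ∈ T.om → y ≠ b → ∃ a : Fin 3 → F, a ≠ 0 ∧ n⁻¹ * y * n = T.tr hF (emb a) := by
    intro y hy hyb
    have := T.om_conj (inv_mem hn) hy
    rw [inv_inv] at this
    exact (T.mem_om hF hω this).resolve_left fun e0 => hyb ((hback e0).trans en)
  obtain ⟨v, hv, ev⟩ := hpt' (T.d_mem_om hF hω) (Ne.symm hbd)
  obtain ⟨w, hw, ew⟩ := hpt' haom (Ne.symm hba)
  have hvw : ∀ c : F, emb w ≠ c • emb v := fun c ec => hane (by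
    have hc : c ≠ 0 := fun h0 => hw (emb_injective (by rw [ec, h0, zero_smul, map_zero]))
    rw [hback ev, hback ew, ec, T.tr_smul hF hω (isPt_emb hv) hc])
  set y : G := n⁻¹ * (x : G) * n
  have hy : Commute y d := hcen (mul_inv_eq_iff_eq_mul.1 h)
  obtain ⟨k, hk⟩ := QuotientGroup.mk'_surjective _ (T.K.φ ⟨y, mem_cent.2 hy⟩)
  have hmv : ∀ {p : V}, IsPt p → y * T.tr hF p * y⁻¹ = T.tr hF (suMat k *ᵥ p) := fun hp =>
    T.tr_conj hF hω (c := ⟨y, mem_cent.2 hy⟩) hk.symm hp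
  have hv' := pt_moved hF hω k (isPt_emb hv)
  have hw' := pt_moved hF hω k (isPt_emb hw)
  have e3 : T.tr hF (emb v) * T.tr hF (emb w) = T.tr hF (suMat k *ᵥ emb v) * T.tr hF (suMat k *ᵥ emb w) := by
    rw [← hmv (isPt_emb hv), ← hmv (isPt_emb hw), ← ev, ← ew]
    calc n⁻¹ * d * n * (n⁻¹ * a₀ * n) = n⁻¹ * u * n := by rw [hu]; group
      _ = n⁻¹ * ((x : G) * u * (x : G)⁻¹) * n := by rw [hxu]
      _ = _ := by rw [hu]; simp only [y]; group
  have e4 : tv hF (emb v) * tv hF (emb w) = tv hF (suMat k *ᵥ emb v) * tv hF (suMat k *ᵥ emb w) := by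
    have h1 := congrArg T.K.φ (show T.K.kk hF (T.base₀ hF) (emb v) * T.K.kk hF (T.base₀ hF) (emb w) =
      T.K.kk hF (T.base₀ hF) (suMat k *ᵥ emb v) * T.K.kk hF (T.base₀ hF) (suMat k *ᵥ emb w) from Subtype.ext e3)
    rw [map_mul, map_mul, T.phi_tr hF hω (isPt_emb hv), T.phi_tr hF hω (isPt_emb hw), T.phi_tr hF hω hv',
      T.phi_tr hF hω hw', ← map_mul, ← map_mul] at h1
    refine pi_inj hF ?_ ?_ h1
    · rw [((tv_comm_iff hF (isPt_emb hv) (isPt_emb hw)).2 (hh_emb_emb _ _)).symm.mul_mul_mul_comm,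
        tv_sq hF (isPt_emb hv).2, tv_sq hF (isPt_emb hw).2, one_mul]
    · have h0 : hh (suMat k *ᵥ emb v) (suMat k *ᵥ emb w) = 0 := by rw [su_preserves, hh_emb_emb]
      rw [((tv_comm_iff hF hv' hw').2 h0).symm.mul_mul_mul_comm, tv_sq hF hv'.2, tv_sq hF hw'.2, one_mul]
  have h0 : hh (suMat k *ᵥ emb v) (suMat k *ᵥ emb w) = 0 := by rw [su_preserves, hh_emb_emb]
  obtain ⟨pv, -⟩ := pair_perp hF (isPt_emb hv) (isPt_emb hw) hv' hw' (hh_emb_emb _ _) h0 hvw e4
  obtain ⟨pw, -⟩ := pair_perp hF (isPt_emb hv) (isPt_emb hw) hw' hv' (hh_emb_emb _ _) ((hh_comm hF).1 h0) hvw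
    (e4.trans ((tv_comm_iff hF hv' hw').2 h0).eq)
  have hcomm : ∀ {p : V}, IsPt p → hh p (emb v) = 0 → Commute (n * T.tr hF p * n⁻¹) d := fun hp h => by
    have := (Commute.conj_iff n).2 ((T.tr_commute_iff hF hω hp (isPt_emb hv)).2 h)
    rwa [← ev, show n * (n⁻¹ * d * n) * n⁻¹ = d by group] at this
  have em : ∀ {p : G} {z : V}, n⁻¹ * p * n = T.tr hF z → IsPt z →
      (x : G) * p * (x : G)⁻¹ = n * T.tr hF (suMat k *ᵥ z) * n⁻¹ := fun {p z} hp hz => by
    rw [← hmv hz, ← hp]; simp only [y]; group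
  rcases T.pair_unique hF hω (IsConj.refl d) ha cd ca hda (em ev (isPt_emb hv) ▸ hcomm hv' pv)
    (em ew (isPt_emb hw) ▸ hcomm hw' pw) ((Commute.conj_iff _).2 hda) hane e with ⟨h, -⟩ | ⟨h, -⟩
  · exact Or.inl h
  · exact Or.inr h

/-- The centraliser of the product of two commuting members fixes the pair. -/
theorem pair_fixed {x y g : G} (hx : IsConj d x) (hy : IsConj d y) (hxy : Commute x y) (hne : x ≠ y)
    (hg : Commute g (x * y)) : g * x * g⁻¹ = x ∨ g * x * g⁻¹ = y := by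
  obtain ⟨h, hh'⟩ := T.exists_conj hF hω hx
  have hc : Commute (h * y * h⁻¹) d := hh' ▸ (Commute.conj_iff h).2 hxy.symm
  rcases T.exists_tr hF hω (T.conj_mem hF hω h hy) hc with h0 | ⟨v, hv, h0⟩
  · exact absurd (mul_left_cancel (mul_right_cancel (hh'.trans h0.symm))) hne
  obtain ⟨c₁, e₁⟩ := (T.tr_spec hF hω hv).conj
  have hpt : IsPt (bu (F := F) 0) := isPt_emb fun e => one_ne_zero (α := F) (by simpa using congrFun e 0)
  obtain ⟨c₀, e₀⟩ := (T.tr_spec hF hω hpt).conj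
  set k : G := ((c₀ * c₁⁻¹ : ↥(Subgroup.centralizer ({d} : Set G))) : G) * h with hk
  have k1 : k * x * k⁻¹ = d := by
    rw [hk, show ((c₀ * c₁⁻¹ : ↥(Subgroup.centralizer ({d} : Set G))) : G) * h * x * (((c₀ * c₁⁻¹ : ↥(Subgroup.centralizer ({d} : Set G))) : G) * h)⁻¹ =
      ((c₀ * c₁⁻¹ : ↥(Subgroup.centralizer ({d} : Set G))) : G) * (h * x * h⁻¹) * ((c₀ * c₁⁻¹ : ↥(Subgroup.centralizer ({d} : Set G))) : G)⁻¹ by group, hh',
      (mem_cent.1 (c₀ * c₁⁻¹).2).eq, mul_inv_cancel_right]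
  have k2 : k * y * k⁻¹ = T.tr hF (bu 0) := by
    rw [hk, show ((c₀ * c₁⁻¹ : ↥(Subgroup.centralizer ({d} : Set G))) : G) * h * y * (((c₀ * c₁⁻¹ : ↥(Subgroup.centralizer ({d} : Set G))) : G) * h)⁻¹ =
      ((c₀ * c₁⁻¹ : ↥(Subgroup.centralizer ({d} : Set G))) : G) * (h * y * h⁻¹) * ((c₀ * c₁⁻¹ : ↥(Subgroup.centralizer ({d} : Set G))) : G)⁻¹ by group, h0, tr, tr, ← e₀, ← e₁]
    simp only [Subgroup.coe_mul, Subgroup.coe_inv]
    group
  have k3 : k * (x * y) * k⁻¹ = d * T.tr hF (bu 0) := by rw [← conj_mul, k1, k2]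
  have k4 : k * (g * x * g⁻¹) * k⁻¹ = k * g * k⁻¹ * d * (k * g * k⁻¹)⁻¹ := by
    rw [show k * (g * x * g⁻¹) * k⁻¹ = k * g * k⁻¹ * (k * x * k⁻¹) * (k * g * k⁻¹)⁻¹ by group, k1]
  have hh3 : k * g * k⁻¹ * (d * T.tr hF (bu 0)) = d * T.tr hF (bu 0) * (k * g * k⁻¹) :=
    k3 ▸ ((Commute.conj_iff k).2 hg).eq
  rcases T.pair_fixed_base hF hω (g := k * g * k⁻¹) (mul_inv_eq_iff_eq_mul.2 hh3) with h' | h'
  · exact Or.inl (mul_left_cancel (mul_right_cancel (k4.trans (h'.trans k1.symm))))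
  · exact Or.inr (mul_left_cancel (mul_right_cancel (k4.trans (h'.trans k2.symm))))

theorem refl_conj {x y : G} (hx : IsConj d x) (hy : IsConj d y) (k : ℕ) :
    IsConj d (x * (x * y) ^ k) := by
  induction k using Nat.twoStepInduction with
  | zero => simpa using hx
  | one => rw [pow_one, ← mul_assoc, T.sq_of_conj hx, one_mul]; exact hy
  | more k ih _ =>
    have hxi := T.inv_of_conj hF hω hx
    have hyi := T.inv_of_conj hF hω hy
    have : x * (x * y) ^ (k + 2) = (x * y)⁻¹ * (x * (x * y) ^ k) * (x * y)⁻¹⁻¹ := by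
      rw [_root_.mul_inv_rev, _root_.mul_inv_rev, inv_inv, inv_inv, hxi, hyi, pow_add, pow_two]
      have hc : (x * y) ^ k * (x * y) = (x * y) * (x * y) ^ k := (pow_mul_comm' _ _)
      calc x * ((x * y) ^ k * (x * y * (x * y))) = x * ((x * y) ^ k * (x * y)) * (x * y) := by group
        _ = x * ((x * y) * (x * y) ^ k) * (x * y) := by rw [hc]
        _ = x * x * y * (x * y) ^ k * (x * y) := by simp only [mul_assoc]
        _ = _ := by
          rw [T.sq_of_conj hx, one_mul, show y * x * (x * (x * y) ^ k) = y * (x * x) * (x * y) ^ k by group,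
            T.sq_of_conj hx, mul_one]
    rw [this]
    exact T.conj_mem hF hω _ ih

/-- Members that do not commute have product of odd order. -/
theorem order_cases {x y : G} (hx : IsConj d x) (hy : IsConj d y) (hxy : ¬ Commute x y) :
    Odd (orderOf (x * y)) := by
  haveI : Fact (Nat.Prime 2) := ⟨Nat.prime_two⟩
  by_contra hodd
  obtain ⟨m, hm⟩ := Nat.not_odd_iff_even.1 hodd
  have hxi := T.inv_of_conj hF hω hx
  have hyi := T.inv_of_conj hF hω hy
  have hpos : 0 < orderOf (x * y) := orderOf_pos _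
  set u := (x * y) ^ m with hu
  have hu1 : u ≠ 1 := pow_ne_one_of_lt_orderOf (by omega) (by omega)
  have huu : u * u = 1 := by rw [hu, ← pow_add, ← hm, pow_orderOf_eq_one]
  have hyx : y * x = (x * y)⁻¹ := by rw [_root_.mul_inv_rev, hxi, hyi]
  have hinv : x * u * x⁻¹ = u := by
    rw [hu, ← conj_pow, show x * (x * y) * x⁻¹ = (x * y)⁻¹ by
      rw [← mul_assoc, T.sq_of_conj hx, one_mul, hxi, hyx], inv_pow, ← hu, inv_eq_of_mul_eq_one_right huu]
  have hinvy : y * u * y⁻¹ = u := by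
    rw [hu, ← conj_pow, show y * (x * y) * y⁻¹ = (x * y)⁻¹ by
      rw [← hyx]; group, inv_pow, ← hu, inv_eq_of_mul_eq_one_right huu]
  have hy' := T.refl_conj hF hω hx hy m
  rw [← hu] at hy'
  have hxu : Commute x u := mul_inv_eq_iff_eq_mul.1 hinv
  have e : x * (x * u) = u := by rw [← mul_assoc, T.sq_of_conj hx, one_mul]
  have hne : x ≠ x * u := fun h => hu1 (mul_eq_left.1 h.symm)
  rcases T.pair_fixed hF hω hx hy' ((Commute.refl x).mul_right hxu) hne (g := y)
    (by rw [e]; exact mul_inv_eq_iff_eq_mul.1 hinvy) with h | h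
  · exact hxy (Commute.symm (mul_inv_eq_iff_eq_mul.1 h))
  -- the order is four
  have h4 : (x * y) ^ 4 = 1 := by
    have h2 : (x * y) ^ 2 = u := by
      rw [pow_two, show x * y * (x * y) = x * (y * x * y⁻¹) by rw [hyi]; group, h, e]
    rw [show (4 : ℕ) = 2 + 2 from rfl, pow_add, h2, huu]
  refine hxy (T.two_group_commute hF hω (P := Subgroup.zpowers (x * y) ⊔ Subgroup.zpowers x) ?_
    (Subgroup.mem_sup_right (Subgroup.mem_zpowers x)) ?_ hx hy)
  · refine IsPGroup.to_sup_of_normal_left' ?_ ?_ ?_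
    · intro ⟨z, hz⟩
      obtain ⟨i, rfl⟩ := Subgroup.mem_zpowers_iff.1 hz
      exact ⟨2, Subtype.ext (show ((x * y) ^ i) ^ (2 ^ 2) = 1 by
        rw [← zpow_natCast, zpow_comm, zpow_natCast, show (2 ^ 2 : ℕ) = 4 from rfl, h4, _root_.one_zpow])⟩
    · intro ⟨z, hz⟩
      obtain ⟨i, rfl⟩ := Subgroup.mem_zpowers_iff.1 hz
      exact ⟨1, Subtype.ext (show (x ^ i) ^ (2 ^ 1) = 1 by
        rw [← zpow_natCast, zpow_comm, zpow_natCast, pow_one, pow_two, T.sq_of_conj hx, _root_.one_zpow])⟩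
    · rw [Subgroup.zpowers_le]
      refine Subgroup.mem_normalizer_fintype fun z hz => ?_
      obtain ⟨i, rfl⟩ := Subgroup.mem_zpowers_iff.1 hz
      show x * (x * y) ^ i * x⁻¹ ∈ Subgroup.zpowers (x * y)
      rw [← conj_zpow, show x * (x * y) * x⁻¹ = (x * y)⁻¹ by
        rw [← mul_assoc, T.sq_of_conj hx, one_mul, hxi, hyx]]
      exact zpow_mem (inv_mem (Subgroup.mem_zpowers _)) _
  · have h1 : x * (x * y) ∈ Subgroup.zpowers (x * y) ⊔ Subgroup.zpowers x :=
      mul_mem (Subgroup.mem_sup_right (Subgroup.mem_zpowers x)) (Subgroup.mem_sup_left (Subgroup.mem_zpowers _))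
    rwa [← mul_assoc, T.sq_of_conj hx, one_mul] at h1

end TC

end CfsgLib.TC22
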