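import Cfsg.Agent.TC22.TriData

/-!
The checks on the reflection side.
-/

set_option autoImplicit false

namespace CfsgLib.TC22.Data

open CfsgLib.SixPlane

/-- The chain form of norm one. -/
def chain (x : Fin 6 → ZMod 3) : ZMod 3 :=
  x 0 * x 0 + x 1 * x 1 + x 2 * x 2 + x 3 * x 3 + x 4 * x 4 + x 5 * x 5 +
    (x 0 * x 1 + x 1 * x 2 + x 2 * x 3 + x 3 * x 4 + x 4 * x 5)

/-- The vector of a number in base three. -/
def vec3 (n : ℕ) : Fin 6 → ZMod 3 := fun k => Fin.ofNat 3 (n / 3 ^ k.val)

/-- The number of a vector in base three. -/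
def code3 (x : Fin 6 → ZMod 3) : ℕ :=
  ZMod.val (x 0) + 3 * ZMod.val (x 1) + 9 * ZMod.val (x 2) + 27 * ZMod.val (x 3) + 81 * ZMod.val (x 4) +
    243 * ZMod.val (x 5)

theorem rvec_norm : ∀ i, chain (rvec i) = 1 := by decide +kernel

theorem rvec_code : ∀ i, code3 (rvec i) = rvecList.getD i.val 0 := by decide +kernel

theorem rvec_list : rvecList.Nodup ∧ rvecList.length = 126 := by decide +kernel

theorem rvec_neg : ∀ i, (mask rvecList).testBit (code3 (fun k => -rvec i k)) = false := by decide +kernel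

theorem rvec_cover : ∀ n < 729, chain (vec3 n) = 1 →
    (mask rvecList).testBit n = true ∨ (mask rvecList).testBit (code3 fun k => -vec3 n k) = true := by decide +kernel

theorem rvec_act : ∀ a i,
    (∀ k, rvec i k + -(chain (fun k => rvec i k + rvec (gen7 a) k) - chain (rvec i) - chain (rvec (gen7 a))) *
      rvec (gen7 a) k = rvec (act7 a i) k) ∨
    (∀ k, rvec i k + -(chain (fun k => rvec i k + rvec (gen7 a) k) - chain (rvec i) - chain (rvec (gen7 a))) *
      rvec (gen7 a) k = -rvec (act7 a i) k) := by decide +kernel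

end CfsgLib.TC22.Data
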