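import Cfsg.Agent.TC22.TriCheckPoints
import Cfsg.Agent.TC22.TriCheckCover
import Cfsg.Agent.TC22.TriCheckRefl
import Cfsg.Agent.Spor3T.TriRefl

/-!
A group generated by one hundred and twenty-six elements permuted as in the table, modulo its centre; the reflection
group of the chain form is an instance.
-/

set_option autoImplicit false
set_option linter.unusedSectionVars false
set_option linter.style.haveILetI false

namespace CfsgLib.TC22

open CfsgLib.Quad CfsgLib.ReflThree

/-- The permutation group of the table. -/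
def tablePerms : Subgroup (Equiv.Perm (Fin 126)) :=
  Subgroup.closure {σ : Equiv.Perm (Fin 126) | ∃ a, ⇑σ = Data.act7 a}

theorem gen7_castLE (i : Fin 126) (h : i.val < 7) : Data.gen7 ⟨i.val, h⟩ = i := Fin.ext rfl

theorem quot_iso {H : Type*} [Group H] (t : Fin 126 → H) (hinj : Function.Injective t)
    (hgen : Subgroup.closure (Set.range t) = ⊤)
    (hact : ∀ a k, t (Data.gen7 a) * t k * (t (Data.gen7 a))⁻¹ = t (Data.act7 a k)) :
    Nonempty (H ⧸ Subgroup.center H ≃* tablePerms) := by
  classical
  set M := Subgroup.closure (Set.range fun a => t (Data.gen7 a)) with hMdef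
  have hM : M = ⊤ := by
    rw [eq_top_iff, ← hgen, Subgroup.closure_le]
    rintro _ ⟨i, rfl⟩
    suffices key : ∀ n, ∀ i : Fin 126, i.val = n → t i ∈ M from key _ i rfl
    intro n
    induction n using Nat.strong_induction_on with
    | _ n ih =>
      intro i hi
      by_cases h7 : i.val < 7
      · rw [← gen7_castLE i h7]
        exact Subgroup.subset_closure ⟨_, rfl⟩
      · obtain ⟨hlt, he⟩ := (Data.parent_spec i).resolve_left h7
        rw [← he, ← hact]
        exact mul_mem (mul_mem (Subgroup.subset_closure ⟨_, rfl⟩) (ih _ (hi ▸ hlt) _ rfl))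
          (inv_mem (Subgroup.subset_closure ⟨_, rfl⟩))
  have hbij : ∀ a, Function.Bijective (Data.act7 a) := fun a => Finite.injective_iff_bijective.1 fun k l h => by
    have e := hact a k
    rw [h, ← hact a l] at e
    exact hinj (mul_left_cancel (mul_right_cancel e))
  have hperm : ∀ g : H, ∃ σ : Equiv.Perm (Fin 126), ∀ k, g * t k * g⁻¹ = t (σ k) := by
    intro g
    have hg : g ∈ M := hM ▸ Subgroup.mem_top g
    induction hg using Subgroup.closure_induction with
    | mem x hx =>
      obtain ⟨a, rfl⟩ := hx
      exact ⟨Equiv.ofBijective _ (hbij a), hact a⟩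
    | one => exact ⟨1, fun k => by simp⟩
    | mul x y _ _ hx hy =>
      obtain ⟨σ, hσ⟩ := hx
      obtain ⟨τ, hτ⟩ := hy
      refine ⟨σ * τ, fun k => ?_⟩
      rw [Equiv.Perm.mul_apply, ← hσ, ← hτ]
      group
    | inv x _ hx =>
      obtain ⟨σ, hσ⟩ := hx
      refine ⟨σ⁻¹, fun k => ?_⟩
      have h := hσ (σ⁻¹ k)
      rw [show σ (σ⁻¹ k) = k from σ.apply_symm_apply k] at h
      rw [← h]
      group
  choose σ hσ using hperm
  let φ : H →* Equiv.Perm (Fin 126) := MonoidHom.mk' σ fun x y => Equiv.ext fun k => hinj (by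
    rw [Equiv.Perm.mul_apply, ← hσ, ← hσ, ← hσ]
    group)
  have hker : φ.ker = Subgroup.center H := by
    ext g
    rw [MonoidHom.mem_ker, Subgroup.mem_center_iff]
    constructor
    · intro h y
      have h0 : ∀ k, Commute (t k) g := fun k => by
        have e := hσ g k
        rw [show σ g = 1 from h, Equiv.Perm.one_apply, mul_inv_eq_iff_eq_mul] at e
        exact e.symm
      have hy : y ∈ Subgroup.closure (Set.range t) := hgen ▸ Subgroup.mem_top y
      induction hy using Subgroup.closure_induction with
      | mem x hx => obtain ⟨k, rfl⟩ := hx; exact h0 k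
      | one => simp
      | mul a b _ _ ha hb => exact Commute.mul_left ha hb
      | inv a _ ha => exact Commute.inv_left ha
    · intro h
      refine Equiv.ext fun k => hinj ?_
      show t (σ g k) = t k
      rw [← hσ, ← h (t k), mul_inv_cancel_right]
  have hS : (fun a => φ (t (Data.gen7 a))) = fun a => Equiv.ofBijective _ (hbij a) := funext fun a =>
    Equiv.ext fun k => hinj (by
      show t (σ _ k) = t (Data.act7 a k)
      rw [← hσ, hact])
  have hrange : φ.range = tablePerms := by
    rw [MonoidHom.range_eq_map, ← hM, hMdef, MonoidHom.map_closure, ← Set.range_comp, tablePerms]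
    congr 1
    show Set.range (fun a => φ (t (Data.gen7 a))) = _
    rw [hS]
    ext σ
    exact ⟨fun ⟨a, ha⟩ => ⟨a, ha ▸ rfl⟩, fun ⟨a, ha⟩ => ⟨a, Equiv.ext fun k => (congrFun ha k).symm⟩⟩
  exact ⟨((QuotientGroup.quotientMulEquivOfEq hker.symm).trans (QuotientGroup.quotientKerEquivRange φ)).trans
    (MulEquiv.subgroupCongr hrange)⟩

namespace Data

theorem testBit_of_mem {l : List ℕ} {n : ℕ} (h : n ∈ l) : (mask l).testBit n = true := by
  induction l with
  | nil => simp at h
  | cons a l ih =>
    simp only [mask, List.foldr_cons, Nat.testBit_or, Bool.or_eq_true]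
    rcases List.mem_cons.1 h with rfl | h
    · left; rw [Nat.one_shiftLeft, Nat.testBit_two_pow_self]
    · exact Or.inr (ih h)

theorem mem_of_testBit {l : List ℕ} {n : ℕ} (h : (mask l).testBit n = true) : n ∈ l := by
  induction l with
  | nil => simp [mask] at h
  | cons a l ih =>
    simp only [mask, List.foldr_cons, Nat.testBit_or, Bool.or_eq_true] at h
    rcases h with h | h
    · rw [Nat.one_shiftLeft, Nat.testBit_two_pow] at h
      exact List.mem_cons.2 (Or.inl (of_decide_eq_true h).symm)
    · exact List.mem_cons_of_mem _ (ih h)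

theorem code3_spec : ∀ x : Fin 6 → ZMod 3, code3 x < 729 ∧ ∀ k, vec3 (code3 x) k = x k := by decide +kernel

end Data

open CfsgLib.ThreeT.Prod in
/-- The reflection group of the chain form, modulo its centre. -/
theorem refl_iso :
    Nonempty (↥(Cfsg.reflectionSubgroup (⇑(chainForm 1)) 1) ⧸
      Subgroup.center ↥(Cfsg.reflectionSubgroup (⇑(chainForm 1)) 1) ≃* tablePerms) := by
  classical
  set Q := chainForm 1
  have hval : ∀ x, Q x = Data.chain x := fun x => by
    rw [show Q x = chainVal 1 x from congrFun (chainForm_coe 1) x, chainVal, one_mul, Data.chain]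
  have hn : ∀ i, Q (Data.rvec i) = 1 := fun i => by rw [hval, Data.rvec_norm]
  set s : Fin 126 → ↥(Cfsg.reflectionSubgroup (⇑Q) 1) := fun i => reflR Q 1 (Data.rvec i) (hn i) with hs
  obtain ⟨hnd, hlen⟩ := Data.rvec_list
  have hgetD : ∀ i : Fin 126, Data.rvecList.getD i.val 0 = Data.rvecList[i.val]'(lt_of_lt_of_eq i.2 hlen.symm) := fun i =>
    List.getD_eq_getElem _ _ _
  have hlt126 : ∀ i : Fin 126, i.val < Data.rvecList.length := fun i => lt_of_lt_of_eq i.2 hlen.symm
  have hinj : Function.Injective s := fun i j h => by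
    have h' : refl Q (Data.rvec i) = refl Q (Data.rvec j) :=
      (isoGroupEquiv Q).symm.injective (congrArg Subtype.val h)
    rcases eq_or_neg_of_refl_eq (by rw [hn]; exact one_ne_zero) h' with e | e
    · have hc := congrArg Data.code3 e
      rw [Data.rvec_code, Data.rvec_code, hgetD, hgetD, hnd.getElem_inj_iff] at hc
      exact (Fin.ext hc).symm
    · have hc : Data.code3 (Data.rvec j) = Data.code3 fun k => -Data.rvec i k := congrArg Data.code3 e
      rw [Data.rvec_code, hgetD] at hc
      have := Data.testBit_of_mem (hc ▸ List.getElem_mem (hlt126 j))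
      rw [Data.rvec_neg] at this
      exact absurd this (by simp)
  have hgen : Subgroup.closure (Set.range s) = ⊤ := by
    refine Eq.trans ?_ (Subgroup.closure_closure_coe_preimage (k := Cfsg.reflectionsOfNorm (⇑Q) 1))
    congr 1
    ext r
    constructor
    · rintro ⟨i, rfl⟩
      exact (mem_norm_iff 1 _).mpr ⟨Data.rvec i, hn i, MulEquiv.apply_symm_apply _ _⟩
    · intro hr
      obtain ⟨v, hv, rfl⟩ := rclass_eq_reflR r hr
      obtain ⟨hlt, hk⟩ := Data.code3_spec v
      have hvec : Data.vec3 (Data.code3 v) = v := funext hk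
      have key : ∀ n, (Data.mask Data.rvecList).testBit n = true → ∃ i, Data.rvec i = Data.vec3 n := fun n h => by
        obtain ⟨i, hi, rfl⟩ := List.getElem_of_mem (Data.mem_of_testBit h)
        exact ⟨⟨i, lt_of_lt_of_eq hi hlen⟩, funext fun k => by
          rw [Data.rvec, Data.vec3, List.getD_eq_getElem _ _ hi]⟩
      rcases Data.rvec_cover _ hlt (by rw [hvec, ← hval, hv]) with h | h
      · obtain ⟨i, hi⟩ := key _ h
        exact ⟨i, Subtype.ext (congrArg (fun w => (isoGroupEquiv Q).symm (refl Q w)) (hi.trans hvec))⟩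
      · obtain ⟨i, hi⟩ := key _ h
        rw [hvec, funext (Data.code3_spec _).2] at hi
        refine ⟨i, Subtype.ext (congrArg (isoGroupEquiv Q).symm ?_)⟩
        rw [hi, show (fun k => -v k) = (-1 : ZMod 3) • v from funext fun k => by simp,
          refl_smul (by decide)]
  refine quot_iso s hinj hgen fun a i => Subtype.ext ((isoGroupEquiv Q).injective ?_)
  show isoGroupEquiv Q ((isoGroupEquiv Q).symm (refl Q _) * (isoGroupEquiv Q).symm (refl Q _) *
    ((isoGroupEquiv Q).symm (refl Q _))⁻¹) = isoGroupEquiv Q ((isoGroupEquiv Q).symm (refl Q _))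
  rw [map_mul, map_mul, map_inv, MulEquiv.apply_symm_apply, MulEquiv.apply_symm_apply, MulEquiv.apply_symm_apply,
    refl_conj, refl_apply', hn]
  have hpol : QuadraticMap.polar Q (Data.rvec i) (Data.rvec (Data.gen7 a)) =
      Data.chain (fun k => Data.rvec i k + Data.rvec (Data.gen7 a) k) - Data.chain (Data.rvec i) -
        Data.chain (Data.rvec (Data.gen7 a)) := by
    rw [QuadraticMap.polar, hval, hval, hval]; rfl
  rw [hpol, neg_mul, one_mul]
  rcases Data.rvec_act a i with h | h
  · congr 1
    exact funext h
  · rw [← refl_smul (Q := Q) (t := (-1 : ZMod 3)) (by decide) (Data.rvec (Data.act7 a i))]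
    congr 1
    exact funext fun k => by simpa using h k

end CfsgLib.TC22
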