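import Cfsg.Agent.TC22.Local
import Mathlib.GroupTheory.Perm.Cycle.Type
import Mathlib.GroupTheory.Nilpotent
import Mathlib.GroupTheory.Sylow

/-!
The normaliser of the subgroup `A₀` acts by even permutations on the twenty-two members in it, so `A₀` is weakly
closed in a Sylow subgroup and the members of a two-group commute.
-/

set_option autoImplicit false
set_option linter.unusedSectionVars false
set_option linter.style.haveILetI false

namespace CfsgLib.TC22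

open Matrix CfsgLib.Unitary CfsgLib.ThreeT CfsgLib.ThreeT.SixTwo CfsgLib.SixPlane

variable {F : Type} [Field F] [CharP F 2] [Finite F] (hF : Nat.card F = 2 ^ 2) {ω : F}
  (hω : ω ^ 2 = ω + 1) {G : Type*} [Group G] [Finite G] {d : G} (T : TC F d)

local notation "V" => Fin 6 → F
local notation "hh" => Cfsg.hermForm 6 F 2
local notation "π" => QuotientGroup.mk' (Subgroup.center (Cfsg.SU 6 F 2))

/-- A third dual vector. -/
def dd0 (ω : F) : Fin 6 → F := ![ω, ω ^ 2, 0, 0, 0, 0]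

namespace TC

/-- The normaliser of the elementary subgroup. -/
def N : Subgroup G := Subgroup.normalizer (T.K.baseG : Set G)

/-- The members of the class in the elementary subgroup. -/
def om : Set G := {x | x ∈ T.K.baseG ∧ IsConj d x}

include T in
theorem om_conj {n x : G} (hn : n ∈ T.N) (hx : x ∈ T.om) : n * x * n⁻¹ ∈ T.om :=
  ⟨(Subgroup.mem_normalizer_iff.1 hn x).1 hx.1, hx.2.trans (isConj_iff.2 ⟨n, rfl⟩)⟩

/-- The action on the twenty-two members. -/
def perm : ↥T.N →* Equiv.Perm ↥T.om where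
  toFun n :=
    { toFun := fun x => ⟨(n : G) * x * (n : G)⁻¹, T.om_conj n.2 x.2⟩
      invFun := fun x => ⟨(n : G)⁻¹ * x * ((n : G)⁻¹)⁻¹, T.om_conj (inv_mem n.2) x.2⟩
      left_inv := fun x => Subtype.ext (show (n : G)⁻¹ * ((n : G) * x * (n : G)⁻¹) * ((n : G)⁻¹)⁻¹ = x by group)
      right_inv := fun x => Subtype.ext (show (n : G) * ((n : G)⁻¹ * x * ((n : G)⁻¹)⁻¹) * (n : G)⁻¹ = x by group) }
  map_one' := Equiv.ext fun x => Subtype.ext (show ((1 : ↥T.N) : G) * x * ((1 : ↥T.N) : G)⁻¹ = x by simp)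
  map_mul' m n := Equiv.ext fun x => Subtype.ext
    (show ((m * n : ↥T.N) : G) * x * ((m * n : ↥T.N) : G)⁻¹ = (m : G) * ((n : G) * x * (n : G)⁻¹) * (m : G)⁻¹ by
      simp [mul_assoc])

open Classical in
/-- The sign of the action. -/
noncomputable def sgn : ↥T.N →* ℤˣ :=
  letI := Fintype.ofFinite ↥T.om
  Equiv.Perm.sign.comp T.perm

include hF hω

theorem z_mem_baseG : d ∈ T.K.baseG := ⟨T.K.z, T.K.z_mem_base hF, T.hz⟩

theorem d_mem_om : d ∈ T.om := ⟨T.z_mem_baseG hF hω, IsConj.refl d⟩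

theorem tr_emb_mem_base (a : Fin 3 → F) : T.K.kk hF (T.base₀ hF) (emb a) ∈ T.K.base := by
  refine ⟨tv hF (emb a), (isTr_tv hF a).mem, ?_⟩
  by_cases ha : a = 0
  · subst ha
    rw [map_zero, T.K.kk_zero_image hF, show tv hF (0 : V) = 1 from su_ext fun x => by
      rw [tv_apply hF (hh_zero_right hF _)]; simp [suMat_one], map_one]
  · exact (T.phi_tr hF hω (isPt_emb ha)).symm

theorem tr_emb_mem {a : Fin 3 → F} (ha : a ≠ 0) : T.tr hF (emb a) ∈ T.om :=
  ⟨⟨_, T.tr_emb_mem_base hF hω a, rfl⟩, T.isConj_tr hF hω (isPt_emb ha)⟩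

theorem base_comm {x y : G} (hx : x ∈ T.K.baseG) (hy : y ∈ T.K.baseG) : Commute x y := by
  obtain ⟨x', hx', rfl⟩ := hx
  obtain ⟨y', hy', rfl⟩ := hy
  exact congrArg Subtype.val ((T.K.base_elementary hF hω).1 x' hx' y' hy')

theorem baseG_le_cent : T.K.baseG ≤ Subgroup.centralizer ({d} : Set G) := Subgroup.map_subtype_le _

theorem mem_om {x : G} (hx : x ∈ T.om) : x = d ∨ ∃ a : Fin 3 → F, a ≠ 0 ∧ x = T.tr hF (emb a) := by
  obtain ⟨⟨x', hx', rfl⟩, hc⟩ := hx
  rcases T.exists_tr hF hω hc (T.base_comm hF hω ⟨x', hx', rfl⟩ (T.z_mem_baseG hF hω)) with h | ⟨v, hv, e⟩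
  · exact Or.inl h
  right
  change (x' : G) = T.tr hF v at e
  obtain ⟨q, hq, eq⟩ := hx'
  rw [Subtype.ext e, T.phi_tr hF hω hv] at eq
  have hq' : q * q = 1 := by
    obtain ⟨Φ, hΦ⟩ := exists_isTr hF hq
    refine IsTr.eq (hΦ.mul hΦ) ?_
    rw [show Φ + Φ = 0 from Matrix.ext fun i j => CharTwo.add_self_eq_zero _]
    exact IsTr.one
  have hqe := pi_inj hF hq' (tv_sq hF hv.2) eq
  -- the centre lies in the plane
  have hco : co v = 0 := by
    by_contra hco
    obtain ⟨a, ha⟩ : ∃ a, sf (co v) a ≠ 0 := by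
      by_contra h; push Not at h
      exact hco (sf_ext fun a => by rw [h a]; simp [sf])
    have h := hq a
    rw [hqe, tv_apply hF hv.2, add_eq_left, smul_eq_zero] at h
    refine ha ?_
    rw [← hh_emb]
    exact (hh_comm hF).1 (h.resolve_right hv.1)
  refine ⟨inco v, fun h => hv.1 ?_, ?_⟩
  · rw [eq_emb_of_co hco, h, map_zero]
  · rw [← eq_emb_of_co hco]; exact e

theorem base_eq_closure : Subgroup.closure T.om = T.K.baseG := by
  refine le_antisymm ((Subgroup.closure_le _).2 fun x hx => hx.1) ?_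
  rintro _ ⟨x, hx, rfl⟩
  refine T.K.base_le_closure hF hω (Y := (Subgroup.closure T.om).subgroupOf _) ?_ (fun a => ?_) hx
  · show (T.K.z : G) ∈ Subgroup.closure T.om
    rw [T.hz]; exact Subgroup.subset_closure (T.d_mem_om hF hω)
  · by_cases ha : a = 0
    · refine ⟨1, one_mem _, ?_⟩
      rw [map_one, ha, map_zero, show tv hF (0 : V) = 1 from su_ext fun x => by
        rw [tv_apply hF (hh_zero_right hF _)]; simp [suMat_one], map_one]
    · exact ⟨_, show T.tr hF (emb a) ∈ Subgroup.closure T.om from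
        Subgroup.subset_closure (T.tr_emb_mem hF hω ha), T.phi_tr hF hω (isPt_emb ha)⟩

theorem card_om : T.om.ncard = 22 := by
  rw [show T.om = Subtype.val '' T.K.dConj from Set.ext fun x => ⟨fun ⟨⟨y, hy, e⟩, hc⟩ =>
    ⟨y, ⟨hy, by rw [show (y : G) = x from e]; exact hc⟩, e⟩, fun ⟨y, hy, e⟩ =>
    ⟨⟨y, hy.1, e⟩, e ▸ hy.2⟩⟩, Set.ncard_image_of_injective _ Subtype.val_injective]
  exact T.K.ncard_dConj hF hω T.hz T.nwc

/-- The part of the centraliser normalising the elementary subgroup. -/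
theorem stab_of_norm {n : ↥(Subgroup.centralizer ({d} : Set G))} (hn : (n : G) ∈ T.N) {g : Cfsg.SU 6 F 2}
    (hg : T.K.φ n = π g) : g ∈ stabPlane (F := F) := by
  refine mem_stabPlane.2 fun a => ?_
  by_cases ha : a = 0
  · exact ⟨0, by rw [ha, map_zero, Matrix.mulVec_zero]⟩
  have hw : IsPt (suMat g *ᵥ emb a) := pt_moved hF hω g (isPt_emb ha)
  have h := T.om_conj hn (T.tr_emb_mem hF hω ha)
  rw [T.tr_conj hF hω hg (isPt_emb ha)] at h
  rcases T.mem_om hF hω h with h | ⟨b, hb, h⟩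
  · exact absurd h (T.tr_ne hF hω hw)
  · obtain ⟨c, hc⟩ := T.tr_eq_smul hF hω hw (isPt_emb hb) h
    exact ⟨c • b, by rw [hc, map_smul]⟩

theorem stab_le_N {m : ↥(Subgroup.centralizer ({d} : Set G))} (hm : m ∈ T.K.stab) : (m : G) ∈ T.N :=
  T.K.stab_normalizes hF hω T.hz hm

theorem mem_stab {n : ↥(Subgroup.centralizer ({d} : Set G))} (hn : (n : G) ∈ T.N) : n ∈ T.K.stab := by
  obtain ⟨g, hg⟩ := QuotientGroup.mk'_surjective _ (T.K.φ n)
  exact ⟨g, T.stab_of_norm hF hω hn hg.symm, hg⟩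

/-- An element of the plane stabiliser whose lifts act evenly. -/
def Ev (g : Cfsg.SU 6 F 2) : Prop :=
  ∀ n : ↥T.N, ∀ h : (n : G) ∈ Subgroup.centralizer ({d} : Set G), T.K.φ ⟨n, h⟩ = π g → T.sgn n = 1

theorem exists_lift {g : Cfsg.SU 6 F 2} (hg : g ∈ stabPlane (F := F)) :
    ∃ n : ↥T.N, ∃ h : (n : G) ∈ Subgroup.centralizer ({d} : Set G), T.K.φ ⟨n, h⟩ = π g := by
  obtain ⟨m, hm⟩ := T.K.surj (π g)
  exact ⟨⟨m, T.stab_le_N hF hω ⟨g, hg, hm.symm⟩⟩, m.2, hm⟩

theorem sgn_base {n : ↥T.N} (hn : (n : G) ∈ T.K.baseG) : T.sgn n = 1 := by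
  have : T.perm n = 1 := Equiv.ext fun x => Subtype.ext (by
    show (n : G) * x * (n : G)⁻¹ = x
    rw [(T.base_comm hF hω hn x.2.1).eq, mul_inv_cancel_right])
  simp [sgn, this]

theorem ev_fix {g : Cfsg.SU 6 F 2} (hg : g ∈ fixPlane (F := F)) : T.Ev g := fun n h e =>
  T.sgn_base hF hω ⟨⟨n, h⟩, ⟨g, hg, e.symm⟩, rfl⟩

theorem ev_mul {g g' : Cfsg.SU 6 F 2} (hs : g ∈ stabPlane (F := F)) (hg : T.Ev g) (hg' : T.Ev g') :
    T.Ev (g * g') := fun n h e => by
  obtain ⟨m, hm, em⟩ := T.exists_lift hF hω hs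
  have h' : ((m⁻¹ * n : ↥T.N) : G) ∈ Subgroup.centralizer ({d} : Set G) := by
    rw [Subgroup.coe_mul, Subgroup.coe_inv]; exact mul_mem (inv_mem hm) h
  have e' : T.K.φ ⟨_, h'⟩ = π g' := by
    have : (⟨_, h'⟩ : ↥(Subgroup.centralizer ({d} : Set G))) = ⟨m, hm⟩⁻¹ * ⟨n, h⟩ := Subtype.ext rfl
    rw [this, map_mul, map_inv, em, e, map_mul, inv_mul_cancel_left]
  have := hg' _ h' e'
  rw [map_mul, map_inv, hg m hm em, inv_one, one_mul] at this
  exact this

/-- Commutators act evenly. -/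
theorem ev_comm {g g' k : Cfsg.SU 6 F 2} (hs : g ∈ stabPlane (F := F)) (hs' : g' ∈ stabPlane (F := F))
    (hk : k = g⁻¹ * (g' * g * g'⁻¹)) : T.Ev k := fun n h e => by
  obtain ⟨a, ha, ea⟩ := T.exists_lift hF hω hs
  obtain ⟨b, hb, eb⟩ := T.exists_lift hF hω hs'
  set c : ↥T.N := a⁻¹ * (b * a * b⁻¹) with hc
  have hc' : (c : G) ∈ Subgroup.centralizer ({d} : Set G) :=
    mul_mem (inv_mem ha) (mul_mem (mul_mem hb ha) (inv_mem hb))
  have h' : ((c⁻¹ * n : ↥T.N) : G) ∈ T.K.baseG := by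
    refine ⟨⟨c, hc'⟩⁻¹ * ⟨n, h⟩, ⟨1, one_mem _, ?_⟩, rfl⟩
    have : (⟨c, hc'⟩ : ↥(Subgroup.centralizer ({d} : Set G))) = ⟨a, ha⟩⁻¹ * (⟨b, hb⟩ * ⟨a, ha⟩ * ⟨b, hb⟩⁻¹) :=
      Subtype.ext rfl
    rw [map_mul, map_inv, this, map_mul T.K.φ, map_mul T.K.φ, map_mul T.K.φ, map_inv, map_inv, e, ea, eb, hk,
      map_mul, map_mul, map_mul, map_inv, map_inv]
    rw [map_one]
    group
  have := T.sgn_base hF hω h'
  rw [map_mul, map_inv, hc] at this
  simp only [map_mul, map_inv, inv_mul_eq_one] at this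
  rw [← this, mul_comm (T.sgn b) (T.sgn a), mul_inv_cancel_right, inv_mul_cancel]

omit T hω in
theorem el_stab (i : Fin 3) {w : V} (hw : hh w w = 0) (hi : hh (bu i) w = 0) :
    el hF (bu i) w ∈ stabPlane (F := F) :=
  mem_stabPlane.2 fun a => ⟨a + hh (emb a) w • Pi.single i 1, by
    rw [el_apply hF (hh_bu i i) hw hi, show hh (emb a) (bu i) = 0 from hh_emb_emb _ _, zero_smul, add_zero,
      map_add, map_smul]
    rfl⟩

omit T in
theorem duals₀ : hh (dd0 ω) (dd0 ω) = 0 ∧ hh (bu 1) (dd0 ω) = 0 ∧ hh (bu 0) (dd0 ω) = 1 ∧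
    hh (dd2 ω) (dd0 ω) = 0 := by
  have e2 : (2 : F) = 0 := CharTwo.two_eq_zero
  refine ⟨?_, ?_, ?_, ?_⟩ <;>
    simp [bu, emb, dd0, dd2, Cfsg.hermForm, Fin.sum_univ_six] <;> grind

omit T hω in
theorem el_conj (g : Cfsg.SU 6 F 2) {v w : V} (hv : hh v v = 0) (hw : hh w w = 0) (h : hh v w = 0) :
    g * el hF v w * g⁻¹ = el hF (suMat g *ᵥ v) (suMat g *ᵥ w) := by
  have hs : hh (v + w) (v + w) = 0 := by
    simp [herm_add_left, hh_add_right hF, hv, hw, h, (hh_comm hF).1 h]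
  rw [el, el, ← Matrix.mulVec_add, ← tv_conj hF g hv, ← tv_conj hF g hw, ← tv_conj hF g hs]
  group

theorem ev_pieces (a b c : F) : T.Ev (e12 hF ω a) ∧ T.Ev (el hF (bu 0) (b • dd2 ω)) ∧
    T.Ev (el hF (bu 1) (c • dd2 ω)) := by
  obtain ⟨h11, h22, h12, h01, h02, h112, h111, h222, h21⟩ := duals hF hω
  obtain ⟨h00, h10, h000, h20⟩ := duals₀ hF hω
  have sm : ∀ (r : F) {v w : V}, hh v w = 0 → hh v (r • w) = 0 := fun r v w h => by
    rw [herm_smul_right hF, h, mul_zero]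
  have s0 : ∀ b : F, el hF (bu 0) (b • dd2 ω) ∈ stabPlane (F := F) := fun b =>
    el_stab hF 0 (hh_smul_zero hF h22 b b) (sm b h02)
  have k1 : ∀ a : F, T.Ev (e12 hF ω a) := fun a => by
    have hv : suMat (el hF (bu 2) (a • dd1 ω)) *ᵥ bu 0 = bu 0 := by
      rw [el_apply hF (hh_bu _ _) (hh_smul_zero hF h11 a a) (sm a h21), sm a h01, hh_bu]; simp
    have hw : suMat (el hF (bu 2) (a • dd1 ω)) *ᵥ dd2 ω = dd2 ω + a • dd1 ω := by
      rw [el_apply hF (hh_bu _ _) (hh_smul_zero hF h11 a a) (sm a h21), sm a ((hh_comm hF).1 h12),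
        herm_swap hF, h222]
      simp
    refine T.ev_comm hF hω (s0 1) (el_stab hF 2 (hh_smul_zero hF h11 a a) (sm a h21)) ?_
    rw [one_smul, el_conj hF _ (hh_bu _ _) h22 h02, hv, hw,
      el_add_right hF (hh_bu _ _) h22 (hh_smul_zero hF h11 a a) h02 (sm a h01)
        (sm a ((hh_comm hF).1 h12)), inv_mul_cancel_left]
    rfl
  have k2 : ∀ b : F, T.Ev (el hF (bu 0) (b • dd2 ω)) := fun b => by
    have e1 : ∀ x y, l2 hF ω x y ∈ stabPlane (F := F) := fun x y => flag_le hF (l2_mem hF hω x y)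
    have h := T.ev_comm hF hω (e1 0 b) (flag_le hF (e12_mem hF hω 1)) (k := l2 hF ω b 0) (by
      rw [e12_l2 hF hω, one_mul, zero_add, eq_inv_mul_iff_mul_eq, ← l2_add hF hω, zero_add, add_zero])
    refine (show el hF (bu 0) (b • dd2 ω) = l2 hF ω b 0 from ?_) ▸ h
    rw [l2, zero_smul]
    have : el hF (bu 1) (0 : V) = 1 := su_ext fun x => by
      rw [el_apply hF (hh_bu _ _) (hh_zero_right hF _) (hh_zero_right hF _), hh_zero_right hF]
      simp [suMat_one]
    rw [this, mul_one]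
  have k3 : T.Ev (el hF (bu 1) (c • dd2 ω)) := by
    have hv : suMat (el hF (bu 1) (dd0 ω)) *ᵥ bu 0 = bu 0 + bu 1 := by
      rw [el_apply hF (hh_bu _ _) h00 h10, h000, hh_bu]; simp
    have hw : suMat (el hF (bu 1) (dd0 ω)) *ᵥ (c • dd2 ω) = c • dd2 ω := by
      rw [el_apply hF (hh_bu _ _) h00 h10, herm_smul_left, herm_smul_left, h20, (hh_comm hF).1 h112]; simp
    refine T.ev_comm hF hω (s0 c) (el_stab hF 1 h00 h10) ?_
    rw [el_conj hF _ (hh_bu _ _) (hh_smul_zero hF h22 c c) (sm c h02), hv, hw,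
      el_add_left hF (hh_bu _ _) (hh_bu _ _) (hh_smul_zero hF h22 c c) (sm c h02) (sm c h112) (hh_bu _ _),
      inv_mul_cancel_left]
  exact ⟨k1 a, k2 b, k3⟩

theorem sgn_stab {n : ↥T.N} (hn : (n : G) ∈ Subgroup.centralizer ({d} : Set G)) : T.sgn n = 1 := by
  let f : ↥T.K.stab →* ↥T.N :=
    { toFun := fun m => ⟨((m : ↥(Subgroup.centralizer ({d} : Set G))) : G), T.stab_le_N hF hω m.2⟩
      map_one' := rfl
      map_mul' := fun _ _ => rfl }
  have hsyl : T.K.syl.subgroupOf T.K.stab ≤ (T.sgn.comp f).ker := by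
    intro m hm
    obtain ⟨g, hg, e⟩ := (Subgroup.mem_subgroupOf.1 hm : (m : ↥(Subgroup.centralizer ({d} : Set G))) ∈ T.K.syl)
    obtain ⟨a, b, c, q, hq, rfl⟩ := flag_decomp hF hω hg
    obtain ⟨p1, p2, p3⟩ := T.ev_pieces hF hω a b c
    have sE : e12 hF ω a ∈ stabPlane (F := F) := flag_le hF (e12_mem hF hω a)
    refine T.ev_mul hF hω (fixPlane_le hq) (T.ev_fix hF hω hq)
      (T.ev_mul hF hω sE p1 (T.ev_mul hF hω ?_ p2 p3)) (f m) m.1.2 e.symm
    exact el_stab hF 0 (hh_smul_zero hF (duals hF hω).2.1 b b)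
      (by rw [herm_smul_right hF, (duals hF hω).2.2.2.2.1, mul_zero])
  have h1 : (T.K.syl.subgroupOf T.K.stab).index = 315 := by
    have h := Subgroup.card_mul_index (T.K.syl.subgroupOf T.K.stab)
    rw [Nat.card_congr (Subgroup.subgroupOfEquivOfLe (T.K.syl_le hF)).toEquiv, T.K.card_syl hF hω,
      T.K.card_stab' hF] at h
    omega
  have h2 := Subgroup.index_dvd_of_le hsyl
  have h3 : Nat.card ↥(T.sgn.comp f).range ∣ 2 := by
    have := Subgroup.card_subgroup_dvd_card (T.sgn.comp f).range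
    rwa [Nat.card_eq_fintype_card (α := ℤˣ), Fintype.card_units_int] at this
  rw [h1, Subgroup.index_ker] at h2
  have h4 : (T.sgn.comp f).range = ⊥ := by
    rw [← Subgroup.card_eq_one]
    exact Nat.eq_one_of_dvd_coprimes (k := Nat.card ↥(T.sgn.comp f).range) (by norm_num) h2 h3
  have := MonoidHom.range_eq_bot_iff.1 h4
  exact DFunLike.congr_fun this ⟨⟨n, hn⟩, T.mem_stab hF hω n.2⟩

/-- The centraliser is transitive on the other members. -/
theorem stab_transitive {a : Fin 3 → F} (ha : a ≠ 0) :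
    ∃ m : ↥(Subgroup.centralizer ({d} : Set G)), m ∈ T.K.stab ∧
      (m : G) * T.tr hF (bu 0) * (m : G)⁻¹ = T.tr hF (emb a) := by
  obtain ⟨r, rfl, hr⟩ := Cov.exists_basis ha
  obtain ⟨g, l, hl, hg⟩ := exists_move hF (fun i => emb (r i))
    (hr.map' emb (LinearMap.ker_eq_bot.2 emb_injective)) fun i j => hh_emb_emb _ _
  have hgs : g ∈ stabPlane := mem_stabPlane.2 fun b => ⟨∑ i, b i • (l i • r i), by
    conv_lhs => rw [pi_eq_sum_univ' b]
    simp only [map_sum, map_smul, Matrix.mulVec_sum, Matrix.mulVec_smul, hg]⟩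
  obtain ⟨m, hm⟩ := T.K.surj (π g)
  refine ⟨m, ⟨g, hgs, hm.symm⟩, ?_⟩
  rw [T.tr_conj hF hω hm (v := bu 0) (isPt_emb fun e => one_ne_zero (α := F) (by simpa using congrFun e 0)),
    show suMat g *ᵥ bu 0 = l 0 • emb (r 0) from hg 0, T.tr_smul hF hω (isPt_emb (hr.ne_zero 0)) (hl 0)]

theorem trans_N {x : G} (hx : x ∈ T.om) : ∃ n ∈ T.N, n * d * n⁻¹ = x :=
  T.K.transitive hF hω T.hz hx.1 hx.2

/-- All of the normaliser acts evenly. -/
theorem sgn_one (n : ↥T.N) : T.sgn n = 1 := by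
  by_contra hn
  -- every mover is odd
  have move : ∀ m : ↥T.N, (m : G) * d * (m : G)⁻¹ ≠ d → T.sgn m ≠ 1 := by
    intro m hm he
    obtain ⟨k, hk, e⟩ : ∃ k : ↥T.N, T.sgn k = 1 ∧ (k : G) * d * (k : G)⁻¹ = (n : G) * d * (n : G)⁻¹ := by
      rcases T.mem_om hF hω (T.om_conj n.2 (T.d_mem_om hF hω)) with h | ⟨b, hb, h⟩
      · exact ⟨1, map_one _, by rw [h]; simp⟩
      rcases T.mem_om hF hω (T.om_conj m.2 (T.d_mem_om hF hω)) with h' | ⟨a, ha, h'⟩
      · exact absurd h' hm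
      obtain ⟨s, hs, es⟩ := T.stab_transitive hF hω ha
      obtain ⟨t, ht, et⟩ := T.stab_transitive hF hω hb
      let s' : ↥T.N := ⟨(s : G), T.stab_le_N hF hω hs⟩
      let t' : ↥T.N := ⟨(t : G), T.stab_le_N hF hω ht⟩
      refine ⟨t' * s'⁻¹ * m, by simp [T.sgn_stab hF hω (n := t') t.2, T.sgn_stab hF hω (n := s') s.2, he], ?_⟩
      rw [h, Subgroup.coe_mul, Subgroup.coe_mul, Subgroup.coe_inv,
        show (t : G) * (s : G)⁻¹ * m * d * ((t : G) * (s : G)⁻¹ * m)⁻¹ =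
          t * ((s : G)⁻¹ * ((m : G) * d * (m : G)⁻¹) * s) * (t : G)⁻¹ by group, h', ← es, ← et]
      group
    have hc : ((k⁻¹ * n : ↥T.N) : G) ∈ Subgroup.centralizer ({d} : Set G) := by
      refine mem_cent.2 ?_
      show (k : G)⁻¹ * n * d = d * ((k : G)⁻¹ * n)
      calc (k : G)⁻¹ * n * d = (k : G)⁻¹ * ((n : G) * d * (n : G)⁻¹) * n := by group
        _ = (k : G)⁻¹ * ((k : G) * d * (k : G)⁻¹) * n := by rw [e]
        _ = d * ((k : G)⁻¹ * n) := by group
    have := T.sgn_stab hF hω hc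
    rw [map_mul, map_inv, hk, inv_one, one_mul] at this
    exact hn this
  have hu : ∀ m : ↥T.N, T.sgn m ≠ 1 → T.sgn m = -1 := fun m h => (Int.units_eq_one_or _).resolve_left h
  obtain ⟨p, hp⟩ : ∃ a : Fin 3 → F, a ≠ 0 := ⟨Pi.single 0 1, fun e => one_ne_zero (α := F) (by simpa using congrFun e 0)⟩
  obtain ⟨m, hm, em⟩ := T.trans_N hF hω (T.tr_emb_mem hF hω hp)
  have hm1 : T.sgn ⟨m, hm⟩ ≠ 1 := move _ (by rw [em]; exact T.tr_ne hF hω (isPt_emb hp))
  obtain ⟨q, hq, hqp⟩ : ∃ a : Fin 3 → F, a ≠ 0 ∧ ∀ c : F, a ≠ c • p := by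
    by_contra hc; push Not at hc
    obtain ⟨c, hc0⟩ := hc (Pi.single 0 1) (fun e => one_ne_zero (α := F) (by simpa using congrFun e 0))
    obtain ⟨c', hc1⟩ := hc (Pi.single 1 1) (fun e => one_ne_zero (α := F) (by simpa using congrFun e 1))
    have a0 := congrFun hc0 0
    have a1 := congrFun hc1 1
    have a2 := congrFun hc0 1
    simp at a0 a1 a2
    rcases a2 with h | h
    · simp [h] at a0
    · simp [h] at a1
  obtain ⟨m', hm', em'⟩ := T.trans_N hF hω (T.tr_emb_mem hF hω hq)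
  have hm2 : T.sgn ⟨m', hm'⟩ ≠ 1 := move _ (by rw [em']; exact T.tr_ne hF hω (isPt_emb hq))
  refine move (⟨m, hm⟩⁻¹ * ⟨m', hm'⟩) ?_ (by rw [map_mul, map_inv, hu _ hm1, hu _ hm2, inv_mul_cancel])
  intro e
  obtain ⟨c, hc⟩ := T.tr_eq_smul hF hω (isPt_emb hq) (isPt_emb hp) (by
    rw [← em, ← em']
    calc m' * d * m'⁻¹ = m * (m⁻¹ * m' * d * (m⁻¹ * m')⁻¹) * m⁻¹ := by group
      _ = m * d * m⁻¹ := by
        rw [show m⁻¹ * m' * d * (m⁻¹ * m')⁻¹ = d from e])
  exact hqp c (emb_injective (by rw [hc, map_smul]))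

/-- An involution of the normaliser fixes a member. -/
theorem invol_fix {x : G} (hx : x ∈ T.N) (hxx : x * x = 1) : ∃ y ∈ T.om, Commute x y := by
  classical
  haveI := Fintype.ofFinite ↥T.om
  by_contra hno; push Not at hno
  set σ := T.perm ⟨x, hx⟩
  have h2 : σ ^ 2 = 1 := by
    rw [← map_pow, show (⟨x, hx⟩ : ↥T.N) ^ 2 = 1 from Subtype.ext (by simp [pow_two, hxx]), map_one]
  have hfix : Fintype.card (Function.fixedPoints σ) = 0 := Fintype.card_eq_zero_iff.2 ⟨fun y =>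
    hno y.1.1 y.1.2 (by
      have := congrArg Subtype.val y.2
      change x * (y.1 : G) * x⁻¹ = y.1 at this
      exact mul_inv_eq_iff_eq_mul.1 this)⟩
  have hsgn : Equiv.Perm.sign σ = 1 := by
    have := T.sgn_one hF hω ⟨x, hx⟩
    convert this using 1
    simp only [sgn, MonoidHom.comp_apply]
    convert rfl
  rw [Equiv.Perm.sign_of_pow_two_eq_one h2, hfix, Nat.sub_zero, ← Nat.card_eq_fintype_card,
    Nat.card_coe_set_eq, T.card_om hF hω] at hsgn
  exact absurd hsgn (by decide)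

/-- The members normalising the elementary subgroup lie in it. -/
theorem conj_N {x : G} (hc : IsConj d x) (hx : x ∈ T.N) : x ∈ T.K.baseG := by
  obtain ⟨y, hy, hxy⟩ := T.invol_fix hF hω hx (T.sq_of_conj hc)
  obtain ⟨n, hn, rfl⟩ := T.trans_N hF hω hy
  have hc' : IsConj d (n⁻¹ * x * n) := hc.trans (isConj_iff.2 ⟨n⁻¹, by group⟩)
  have hd : Commute (n⁻¹ * x * n) d := by
    show n⁻¹ * x * n * d = d * (n⁻¹ * x * n)
    calc n⁻¹ * x * n * d = n⁻¹ * (x * (n * d * n⁻¹)) * n := by group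
      _ = n⁻¹ * ((n * d * n⁻¹) * x) * n := by rw [hxy.eq]
      _ = d * (n⁻¹ * x * n) := by group
  have key : n⁻¹ * x * n ∈ T.K.baseG := by
    rcases T.exists_tr hF hω hc' hd with h | ⟨v, hv, h⟩
    · rw [h]; exact T.z_mem_baseG hF hω
    have hn' : T.tr hF v ∈ T.N := h ▸ mul_mem (mul_mem (inv_mem hn) hx) hn
    have hgs := T.stab_of_norm hF hω (n := T.K.kk hF (T.base₀ hF) v) hn' (T.phi_tr hF hω hv)
    have hco : co v = 0 := by
      by_contra hco
      obtain ⟨a, ha⟩ : ∃ a, sf (co v) a ≠ 0 := by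
        by_contra h; push Not at h
        exact hco (sf_ext fun a => by rw [h a]; simp [sf])
      obtain ⟨b, hb⟩ := mem_stabPlane.1 hgs a
      rw [tv_apply hF hv.2] at hb
      rw [← hh_emb] at ha
      have ha' : hh (emb a) v ≠ 0 := fun e => ha ((hh_comm hF).1 e)
      have h1 := congrArg co hb
      simp only [map_add, map_smul, co_emb, zero_add, smul_eq_zero] at h1
      exact h1.elim ha' hco
    rw [h, eq_emb_of_co hco]
    exact ⟨_, T.tr_emb_mem_base hF hω _, rfl⟩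
  have := (Subgroup.mem_normalizer_iff.1 hn _).1 key
  rwa [show n * (n⁻¹ * x * n) * n⁻¹ = x by group] at this

/-- A two-group can be moved into the normaliser, its members into the elementary subgroup. -/
theorem two_group {P : Subgroup G} (hP : IsPGroup 2 ↥P) :
    ∃ g : G, ∀ x ∈ P, g * x * g⁻¹ ∈ T.N ∧ (IsConj d x → g * x * g⁻¹ ∈ T.om) := by
  haveI : Fact (Nat.Prime 2) := ⟨Nat.prime_two⟩
  have hA : IsPGroup 2 ↥T.K.baseG := IsPGroup.of_card (n := 10) (by
    rw [Cov.baseG, Subgroup.card_map_of_injective Subtype.val_injective, T.K.card_base hF hω]; norm_num)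
  obtain ⟨S, hS⟩ := hA.exists_le_sylow
  have hSN : (S : Subgroup G) ≤ T.N := by
    set H : Subgroup ↥(S : Subgroup G) := T.N.subgroupOf S
    haveI : Group.IsNilpotent ↥(S : Subgroup G) := S.isPGroup'.isNilpotent
    by_contra hne
    have hlt : H < ⊤ := lt_top_iff_ne_top.2 fun e => hne (Subgroup.subgroupOf_eq_top.1 e)
    obtain ⟨t, ht, htH⟩ := SetLike.exists_of_lt (Group.normalizerCondition_of_isNilpotent H hlt)
    refine htH (Subgroup.mem_subgroupOf.2 (Subgroup.mem_normalizer_fintype fun a ha => ?_))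
    revert a
    show ∀ a ∈ T.K.baseG, _
    rw [← T.base_eq_closure hF hω]
    intro a ha
    induction ha using Subgroup.closure_induction with
    | mem x hx =>
      rw [SetLike.mem_coe, T.base_eq_closure hF hω]
      refine T.conj_N hF hω (hx.2.trans (isConj_iff.2 ⟨_, rfl⟩)) ?_
      exact (Subgroup.mem_normalizer_iff.1 ht ⟨x, hS hx.1⟩).1
        (Subgroup.mem_subgroupOf.2 (Subgroup.le_normalizer hx.1))
    | one => simp
    | mul x y _ _ hx hy => rw [← conj_mul]; exact mul_mem hx hy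
    | inv x _ hx => rw [← conj_inv]; exact inv_mem hx
  obtain ⟨Q, hQ⟩ := hP.exists_le_sylow
  obtain ⟨g, hg⟩ := MulAction.exists_smul_eq G Q S
  refine ⟨g, fun x hx => ?_⟩
  have hxS : g * x * g⁻¹ ∈ T.N := hSN (by
    rw [← hg]
    exact ⟨x, hQ hx, rfl⟩)
  exact ⟨hxS, fun hc => ⟨T.conj_N hF hω (hc.trans (isConj_iff.2 ⟨g, rfl⟩)) hxS, hc.trans (isConj_iff.2 ⟨g, rfl⟩)⟩⟩

include T in
/-- The members of a two-group commute. -/
theorem two_group_commute {P : Subgroup G} (hP : IsPGroup 2 ↥P) {x y : G} (hx : x ∈ P) (hy : y ∈ P)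
    (hcx : IsConj d x) (hcy : IsConj d y) : Commute x y := by
  obtain ⟨g, hg⟩ := T.two_group hF hω hP
  exact (Commute.conj_iff g).1 (T.base_comm hF hω ((hg x hx).2 hcx).1 ((hg y hy).2 hcy).1)

/-- A two-group of the normaliser fixes an even number of members. -/
theorem even_fixed {W : Subgroup G} (hW : IsPGroup 2 ↥W) (hle : W ≤ T.N) :
    Even {y : G | y ∈ T.om ∧ ∀ w ∈ W, Commute w y}.ncard := by
  classical
  haveI : Fact (Nat.Prime 2) := ⟨Nat.prime_two⟩
  letI : MulAction ↥W ↥T.om := MulAction.compHom _ (T.perm.comp (Subgroup.inclusion hle))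
  have h := hW.card_modEq_card_fixedPoints ↥T.om
  rw [Nat.card_coe_set_eq, T.card_om hF hω] at h
  have e : Nat.card ↑(MulAction.fixedPoints ↥W ↥T.om) = {y : G | y ∈ T.om ∧ ∀ w ∈ W, Commute w y}.ncard := by
    rw [Nat.card_coe_set_eq, ← Set.ncard_image_of_injective _ Subtype.val_injective]
    congr 1
    ext y
    constructor
    · rintro ⟨y', hy', rfl⟩
      exact ⟨y'.2, fun w hw => mul_inv_eq_iff_eq_mul.1 (congrArg Subtype.val (hy' ⟨w, hw⟩))⟩
    · rintro ⟨hy, hc⟩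
      exact ⟨⟨y, hy⟩, fun w => Subtype.ext (mul_inv_eq_iff_eq_mul.2 (hc w w.2).eq), rfl⟩
  rw [← e, Nat.even_iff]
  exact h.symm

end TC

end CfsgLib.TC22
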