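import Cfsg.Agent.TC22.Key

/-!
The class is a class of 3-transpositions generating the group, the action on it is primitive.
-/

set_option autoImplicit false
set_option linter.unusedSectionVars false
set_option linter.style.haveILetI false

namespace CfsgLib.TC22

open Matrix CfsgLib.Unitary CfsgLib.ThreeT CfsgLib.ThreeT.SixTwo CfsgLib.SixPlane

variable {F : Type} [Field F] [CharP F 2] [Finite F] (hF : Nat.card F = 2 ^ 2) {ω : F}
  (hω : ω ^ 2 = ω + 1) {G : Type*} [Group G] [Finite G] {d : G} (T : TC F d)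

local notation "V" => Fin 6 → F
local notation "hh" => Cfsg.hermForm 6 F 2
local notation "π" => QuotientGroup.mk' (Subgroup.center (Cfsg.SU 6 F 2))

namespace TC

include hF hω T

theorem dd0_pt : IsPt (dd0 ω) :=
  ⟨fun e => (omega_ne hω).1 (by simpa [dd0] using congrFun e 0), (duals₀ hF hω).1⟩

/-- Two points that are not orthogonal can be moved to the standard ones. -/
theorem exists_move_pair {u w : V} (hu : IsPt u) (hw : IsPt w) (h : hh u w ≠ 0) :
    ∃ (g : Cfsg.SU 6 F 2) (a b : F), a ≠ 0 ∧ b ≠ 0 ∧ suMat g *ᵥ bu 0 = a • u ∧ suMat g *ᵥ dd0 ω = b • w := by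
  obtain ⟨h00, -, h01, -⟩ := duals₀ hF hω
  set s := hh u w with hs
  have hsw : hh (s • w) (s • w) = 0 := hh_smul_zero hF hw.2 s s
  have huw : hh u (s • w) = 1 := by
    rw [herm_smul_right hF, ← hs, ← pow_succ]
    exact SixTwo.pow_three hF h
  have hwu : hh (s • w) u = 1 := by rw [herm_swap hF u (s • w), huw, one_pow]
  have h10 : hh (dd0 ω) (bu 0) = 1 := by rw [herm_swap hF (bu 0) (dd0 ω), h01, one_pow]
  have hi : ∀ {p q : V}, IsPt p → hh p p = 0 → hh p q = 1 → LinearIndependent F (![p, q] : Fin 2 → V) :=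
    fun {p q} hp hpp hpq => indep_pair hp.1 fun c e => one_ne_zero (α := F) (by
      rw [← hpq, ← e, herm_smul_right hF, hpp, mul_zero])
  obtain ⟨M₀, hM₀⟩ := exists_GU_family hF (![bu 0, dd0 ω] : Fin 2 → V) ![u, s • w]
    (hi (T.bu_pt hF hω) (hh_bu 0 0) h01) (hi hu hu.2 huw) (fun i j => by
      fin_cases i <;> fin_cases j <;> simp [hh_bu, h00, h01, h10, hu.2, hsw, huw, hwu])
  set M := ((M₀ : Matrix.GeneralLinearGroup (Fin 6) F) : Matrix (Fin 6) (Fin 6) F) with hM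
  set δ := M.det with hδ
  have h3 : δ ^ 3 = 1 := by
    have := congrArg Units.val (det_GU hF M₀.2)
    simpa [hδ, hM] using this
  have hδ0 : δ ≠ 0 := fun e => by simp [e] at h3
  let D : Matrix (Fin 6) (Fin 6) F := Matrix.diagonal ![δ, δ, 1, 1, 1, 1]
  have hD : ∀ x, D *ᵥ x = fun i => (![δ, δ, 1, 1, 1, 1] : V) i * x i := fun x => funext fun i =>
    Matrix.mulVec_diagonal _ _ i
  have e0 : D *ᵥ bu 0 = δ • bu 0 := by rw [hD]; funext j; fin_cases j <;> simp [bu, emb]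
  have e1 : D *ᵥ dd0 ω = δ • dd0 ω := by rw [hD]; funext j; fin_cases j <;> simp [dd0]
  refine ⟨⟨⟨M * D, ?_⟩, fun x y => ?_⟩, δ, δ * s, hδ0, mul_ne_zero hδ0 h, ?_, ?_⟩
  · rw [Matrix.det_mul, Matrix.det_diagonal, ← hδ, Fin.prod_univ_six]
    simp only [Matrix.cons_val]
    linear_combination h3
  · show hh ((M * D) *ᵥ x) ((M * D) *ᵥ y) = hh x y
    rw [← Matrix.mulVec_mulVec, ← Matrix.mulVec_mulVec, mem_GU_iff.1 M₀.2, hD, hD]
    simp [Cfsg.hermForm, Fin.sum_univ_six]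
    linear_combination (x 0 * y 0 ^ 2 + x 1 * y 1 ^ 2) * h3
  · show (M * D) *ᵥ bu 0 = δ • u
    rw [← Matrix.mulVec_mulVec, e0, Matrix.mulVec_smul]
    exact congrArg (δ • ·) (hM₀ 0)
  · show (M * D) *ᵥ dd0 ω = (δ * s) • w
    rw [← Matrix.mulVec_mulVec, e1, Matrix.mulVec_smul, ← smul_smul]
    exact congrArg (δ • ·) (hM₀ 1)

/-- The key lemma. -/
theorem key {e : G} (he : IsConj d e) (hed : ¬ Commute e d) {u w : V} (hu : IsPt u) (hw : IsPt w)
    (huw : hh u w ≠ 0) (hez : Commute e (T.tr hF u)) :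
    ∃ v : V, IsPt v ∧ Commute e (T.tr hF v) ∧ Commute (T.tr hF v) (T.tr hF w) := by
  obtain ⟨g, a, b, ha, hb, h1, h2⟩ := T.exists_move_pair hF hω hu hw huw
  obtain ⟨c, hc⟩ := T.K.surj (π g)
  have hz : (c : G) * T.tr hF (bu 0) * (c : G)⁻¹ = T.tr hF u := by
    rw [T.tr_conj hF hω hc (T.bu_pt hF hω), h1, T.tr_smul hF hω hu ha]
  have hq : (c : G) * T.tr hF (dd0 ω) * (c : G)⁻¹ = T.tr hF w := by
    rw [T.tr_conj hF hω hc (T.dd0_pt hF hω), h2, T.tr_smul hF hω hw hb]
  have hcd : Commute (c : G) d := mem_cent.1 c.2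
  obtain ⟨v, hv, -, hv0, hev⟩ := T.key_normal hF hω (e := (c : G)⁻¹ * e * c)
    (by simpa using T.conj_mem hF hω (c : G)⁻¹ he)
    (fun h => hed (by
      have := (Commute.conj_iff (c : G)).2 h
      rwa [hcd.eq, mul_inv_cancel_right, show (c : G) * ((c : G)⁻¹ * e * c) * (c : G)⁻¹ = e by group] at this))
    ((Commute.conj_iff (c : G)).1 (by
      rw [hz, show (c : G) * ((c : G)⁻¹ * e * c) * (c : G)⁻¹ = e by group]; exact hez))
  refine ⟨suMat g *ᵥ v, pt_moved hF hω g hv, ?_, ?_⟩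
  · rw [← T.tr_conj hF hω hc hv]
    have := (Commute.conj_iff (c : G)).2 hev
    rwa [show (c : G) * ((c : G)⁻¹ * e * c) * (c : G)⁻¹ = e by group] at this
  · rw [← T.tr_conj hF hω hc hv, ← hq]
    exact (Commute.conj_iff _).2 ((T.tr_commute_iff hF hω hv (T.dd0_pt hF hω)).2 hv0)

/-- Any two members have a common commuting member. -/
theorem far_common {x e : G} (hx : IsConj d x) (he : IsConj d e) :
    ∃ y, IsConj d y ∧ Commute x y ∧ Commute y e := by
  have hcon := T.connected hF hω hx he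
  induction hcon with
  | refl => exact ⟨x, hx, Commute.refl x, Commute.refl x⟩
  | @tail b c _ hbc ih =>
    obtain ⟨y, hy, hxy, hyb⟩ := ih hbc.1
    by_cases hyc : Commute y c
    · exact ⟨y, hy, hxy, hyc⟩
    by_cases hxb : Commute x b
    · exact ⟨b, hbc.1, hxb, hbc.2.2⟩
    obtain ⟨g, hg⟩ := T.exists_conj hF hω hy
    have hto : ∀ {p : G}, IsConj d p → Commute p y → p ≠ y → ∃ s : V, IsPt s ∧ g * p * g⁻¹ = T.tr hF s :=
      fun {p} hp hc hne => T.exists_tr_ne hF hω (T.conj_mem hF hω g hp)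
        (hg ▸ (Commute.conj_iff g).2 hc) fun e => hne (mul_left_cancel (mul_right_cancel (e.trans hg.symm)))
    obtain ⟨w, hw, ew⟩ := hto hx hxy fun h => hxb (h ▸ hyb)
    obtain ⟨u, hu, eu⟩ := hto hbc.1 hyb.symm fun h => hxb (h ▸ hxy)
    have huw : hh u w ≠ 0 := fun h => hxb (by
      refine (Commute.conj_iff g).1 ?_
      rw [ew, eu]
      exact (T.tr_commute_iff hF hω hw hu).2 ((hh_comm hF).1 h))
    obtain ⟨v, hv, hev, hvw⟩ := T.key hF hω (T.conj_mem hF hω g hbc.2.1)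
      (fun h => hyc ((Commute.conj_iff g).1 (hg.symm ▸ h.symm))) hu hw huw
      (eu ▸ (Commute.conj_iff g).2 hbc.2.2.symm)
    have e0 : g * (g⁻¹ * T.tr hF v * g) * g⁻¹ = T.tr hF v := by group
    exact ⟨g⁻¹ * T.tr hF v * g, by simpa using T.conj_mem hF hω g⁻¹ (T.isConj_tr hF hω hv),
      (Commute.conj_iff g).1 (by rw [ew, e0]; exact hvw.symm),
      (Commute.conj_iff g).1 (by rw [e0]; exact hev.symm)⟩

/-- Members that do not commute have product of order three. -/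
theorem cube {x e : G} (hx : IsConj d x) (he : IsConj d e) (hne : ¬ Commute x e) : (x * e) ^ 3 = 1 := by
  obtain ⟨y, hy, hxy, hye⟩ := T.far_common hF hω hx he
  obtain ⟨g, hg⟩ := T.exists_conj hF hω hy
  have hto : ∀ {p : G}, IsConj d p → Commute p y → p ≠ y → ∃ s : V, IsPt s ∧ g * p * g⁻¹ = T.tr hF s :=
    fun {p} hp hc hne => T.exists_tr_ne hF hω (T.conj_mem hF hω g hp)
      (hg ▸ (Commute.conj_iff g).2 hc) fun e => hne (mul_left_cancel (mul_right_cancel (e.trans hg.symm)))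
  obtain ⟨a, ha, ea⟩ := hto hx hxy fun h => hne (h ▸ hye)
  obtain ⟨b, hb, eb⟩ := hto he hye.symm fun h => hne (h.symm ▸ hxy)
  have h := T.tr_cube hF hω ha hb fun h => hne (by
    refine (Commute.conj_iff g).1 ?_
    rw [ea, eb]
    exact (T.tr_commute_iff hF hω ha hb).2 h)
  rw [← ea, ← eb, conj_mul, conj_pow, conj_eq_one_iff] at h
  exact h

theorem three_set : Cfsg.IsThreeTranspositionSet (conjugatesOf d) := by
  refine ⟨fun x hx => ?_, fun x hx y hy => ?_⟩
  · exact orderOf_eq_prime (by rw [pow_two]; exact T.sq_of_conj hx) (T.conj_ne_one hx)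
  · by_cases h : Commute x y
    · left; rw [h.mul_pow, pow_two, pow_two, T.sq_of_conj hx, T.sq_of_conj hy, one_mul]
    · exact Or.inr (T.cube hF hω hx hy h)

/-- All transvections' members are conjugate in the centraliser. -/
theorem tr_trans {u v : V} (hu : IsPt u) (hv : IsPt v) :
    ∃ c ∈ Subgroup.centralizer ({d} : Set G), c * T.tr hF u * c⁻¹ = T.tr hF v := by
  obtain ⟨a, ha⟩ := (T.tr_spec hF hω hu).conj
  obtain ⟨b, hb⟩ := (T.tr_spec hF hω hv).conj
  refine ⟨((b * a⁻¹ : ↥(Subgroup.centralizer ({d} : Set G))) : G), (b * a⁻¹).2, ?_⟩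
  rw [tr, tr, ← ha, ← hb]
  simp only [Subgroup.coe_mul, Subgroup.coe_inv]
  group

/-- Some member does not commute with `d`. -/
theorem exists_far : ∃ e, IsConj d e ∧ ¬ Commute e d := by
  obtain ⟨g, hg⟩ := T.exists_conj hF hω (T.isConj_tr hF hω (T.bu_pt hF hω))
  refine ⟨g * T.tr hF (dd0 ω) * g⁻¹, T.conj_mem hF hω g (T.isConj_tr hF hω (T.dd0_pt hF hω)), fun h => ?_⟩
  nth_rw 2 [← hg] at h
  have := (T.tr_commute_iff hF hω (T.dd0_pt hF hω) (T.bu_pt hF hω)).1 ((Commute.conj_iff g).1 h)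
  exact one_ne_zero (α := F) (by rw [← (duals₀ hF hω).2.2.1, (hh_comm hF).1 this])

/-- A member far from `d` fails to commute with some neighbour of `d`. -/
theorem far_neighbour {e : G} (he : IsConj d e) (hed : ¬ Commute e d) :
    ∃ w : V, IsPt w ∧ ¬ Commute e (T.tr hF w) := by
  by_contra hno
  push Not at hno
  have h : Subgroup.centralizer ({d} : Set G) ≤ Subgroup.centralizer ({e} : Set G) := by
    rw [← T.closure_tr hF hω, Subgroup.closure_le]
    rintro _ ⟨v, hv, rfl⟩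
    exact Subgroup.mem_centralizer_singleton_iff.2 (hno v hv).symm.eq
  exact hed (Subgroup.mem_centralizer_singleton_iff.1 (h (mem_cent.2 (Commute.refl d)))).symm

/-- A set of conjugates of `d` containing two members and invariant under the centralisers of its members is
everything. -/
theorem saturated {B : Set G} (hB : ∀ x ∈ B, IsConj d x) (hd : d ∈ B) {b : G} (hb : b ∈ B) (hbd : b ≠ d)
    (hinv : ∀ x ∈ B, ∀ k, Commute k x → ∀ y ∈ B, k * y * k⁻¹ ∈ B) : ∀ x, IsConj d x → x ∈ B := by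
  -- some neighbour of `d` lies in `B`
  obtain ⟨v, hv, hvB⟩ : ∃ v : V, IsPt v ∧ T.tr hF v ∈ B := by
    by_cases hc : Commute b d
    · obtain ⟨v, hv, rfl⟩ := T.exists_tr_ne hF hω (hB b hb) hc hbd
      exact ⟨v, hv, hb⟩
    obtain ⟨w, hw, hwb⟩ := T.far_neighbour hF hω (hB b hb) hc
    set q := T.tr hF w
    have hq : IsConj d q := T.isConj_tr hF hω hw
    have h3 := T.cube hF hω (hB b hb) hq hwb
    have hbb := T.sq_of_conj (hB b hb)
    have hqq := T.sq_of_conj hq
    refine ⟨w, hw, ?_⟩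
    -- `b` fixes `b`, `q` fixes `d`
    have h1 : q * b * q⁻¹ ∈ B := hinv d hd q (T.tr_cent hF w) b hb
    have h2 := hinv b hb b (Commute.refl b) _ h1
    show q ∈ B
    have e : b * (q * b * q⁻¹) * b⁻¹ = q := by
      rw [T.inv_of_conj hF hω hq, T.inv_of_conj hF hω (hB b hb)]
      calc b * (q * b * q) * b = (b * q) ^ 3 * q := by
            simp only [pow_succ, pow_zero, one_mul, mul_assoc]
            rw [hqq, mul_one]
        _ = q := by rw [h3, one_mul]
    rwa [e] at h2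
  have hall : ∀ u : V, IsPt u → T.tr hF u ∈ B := fun u hu => by
    obtain ⟨c, hc, e⟩ := T.tr_trans hF hω hv hu
    exact e ▸ hinv d hd c (mem_cent.1 hc) _ hvB
  -- connectedness
  have hall' : ∀ y, IsConj d y → Commute d y → y ∈ B := fun y hy hc => by
    rcases T.exists_tr hF hω hy hc.symm with rfl | ⟨u, hu, rfl⟩
    exacts [hd, hall u hu]
  have hgen : ∀ x ∈ B, ∀ y, IsConj d y → Commute x y → y ∈ B → ∀ g : G, g * x * g⁻¹ = d →
      ∀ z, IsConj d z → Commute x z → y ≠ x → z ∈ B := by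
    intro x hx y hy hxy hyB g hg z hz hxz hne
    by_cases hzx : z = x
    · exact hzx ▸ hx
    obtain ⟨a, ha, ea⟩ := T.exists_tr_ne hF hω (T.conj_mem hF hω g hy) (hg ▸ (Commute.conj_iff g).2 hxy.symm)
      fun e => hne (mul_left_cancel (mul_right_cancel (e.trans hg.symm)))
    obtain ⟨c', hc', ec'⟩ := T.exists_tr_ne hF hω (T.conj_mem hF hω g hz) (hg ▸ (Commute.conj_iff g).2 hxz.symm)
      fun e => hzx (mul_left_cancel (mul_right_cancel (e.trans hg.symm)))
    obtain ⟨c, hc, e⟩ := T.tr_trans hF hω ha hc'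
    have := hinv x hx (g⁻¹ * c * g) ((Commute.conj_iff g).1 (by
      rw [hg, show g * (g⁻¹ * c * g) * g⁻¹ = c by group]; exact mem_cent.1 hc)) y hyB
    rwa [show g⁻¹ * c * g * y * (g⁻¹ * c * g)⁻¹ = g⁻¹ * (c * (g * y * g⁻¹) * c⁻¹) * g by group, ea, e, ← ec',
      show g⁻¹ * (g * z * g⁻¹) * g = z by group] at this
  intro x hx
  suffices h : x ∈ B ∧ ∃ y ∈ B, Commute x y ∧ y ≠ x from h.1
  have hcon := T.connected hF hω (IsConj.refl d) hx
  clear hx
  induction hcon with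
  | refl => exact ⟨hd, _, hall v hv, (T.tr_cent hF v).symm, T.tr_ne hF hω hv⟩
  | @tail p q _ hpq ih =>
    obtain ⟨hp, y, hy, hpy, hne⟩ := ih
    obtain ⟨g, hg⟩ := T.exists_conj hF hω (hB p hp)
    have hq := hgen p hp y (hB y hy) hpy hy g hg q hpq.2.1 hpq.2.2 hne
    by_cases hpq' : q = p
    · exact ⟨hq, y, hy, hpq' ▸ hpy, hpq' ▸ hne⟩
    · exact ⟨hq, p, hp, hpq.2.2.symm, Ne.symm hpq'⟩

theorem mem_conjugates {x : G} : x ∈ conjugatesOf d ↔ IsConj d x := Iff.rfl

theorem conj_set (g : G) {x : G} (hx : x ∈ conjugatesOf d) : g * x * g⁻¹ ∈ conjugatesOf d :=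
  T.conj_mem hF hω g hx

/-- The class generates. -/
theorem closure_class : Subgroup.closure (conjugatesOf d) = ⊤ := by
  set H := Subgroup.closure (conjugatesOf d)
  have hd : d ∈ H := Subgroup.subset_closure (IsConj.refl d)
  have hC : Subgroup.centralizer ({d} : Set G) ≤ H := by
    rw [← T.closure_tr hF hω, Subgroup.closure_le]
    rintro _ ⟨v, hv, rfl⟩
    exact Subgroup.subset_closure (T.isConj_tr hF hω hv)
  -- the orbit of `d` under `H` is everything
  obtain ⟨e, he, hed⟩ := T.exists_far hF hω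
  set B : Set G := {x | ∃ h ∈ H, h * d * h⁻¹ = x}
  have hB : ∀ x ∈ B, IsConj d x := fun x ⟨h, _, hx⟩ => isConj_iff.2 ⟨h, hx⟩
  have hall := T.saturated hF hω hB ⟨1, one_mem _, by group⟩ (b := e) ?_ (fun h => hed (h ▸ Commute.refl d)) ?_
  · refine eq_top_iff.2 fun g _ => ?_
    obtain ⟨h, hh', eh⟩ := hall (g * d * g⁻¹) (isConj_iff.2 ⟨g, rfl⟩)
    have : h⁻¹ * g ∈ H := hC (mem_cent.2 (by
      show h⁻¹ * g * d = d * (h⁻¹ * g)
      calc h⁻¹ * g * d = h⁻¹ * (g * d * g⁻¹) * g := by group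
        _ = h⁻¹ * (h * d * h⁻¹) * g := by rw [eh]
        _ = d * (h⁻¹ * g) := by group))
    have := mul_mem hh' this
    rwa [mul_inv_cancel_left] at this
  · refine ⟨d * e, mul_mem hd (Subgroup.subset_closure he), ?_⟩
    have h3 := T.cube hF hω (IsConj.refl d) he fun h => hed h.symm
    calc d * e * d * (d * e)⁻¹ = d * e * d * e * d := by
          rw [_root_.mul_inv_rev, T.inv_of_conj hF hω he, T.inv_of_conj hF hω (IsConj.refl d)]; group
      _ = (d * e) ^ 3 * e⁻¹ := by simp only [pow_succ, pow_zero, one_mul]; group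
      _ = e := by rw [h3, one_mul, T.inv_of_conj hF hω he]
  · rintro x ⟨p, hp, rfl⟩ k hk y ⟨q, hq, rfl⟩
    refine ⟨k * q, mul_mem ?_ hq, by group⟩
    have hk' : p⁻¹ * k * p ∈ H := hC (mem_cent.2 (by
      have := (Commute.conj_iff p⁻¹).2 hk
      rwa [inv_inv, show p⁻¹ * (p * d * p⁻¹) * p = d by group] at this))
    have := mul_mem (mul_mem hp hk') (inv_mem hp)
    rwa [show p * (p⁻¹ * k * p) * p⁻¹ = k by group] at this

theorem isClass : Cfsg.IsThreeTranspositionClass (conjugatesOf d) :=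
  ⟨T.three_set hF hω, ⟨d, IsConj.refl d, rfl⟩, T.closure_class hF hω⟩

theorem isGroup : Cfsg.IsThreeTranspositionGroup (conjugatesOf d) :=
  ⟨T.three_set hF hω, fun g _ hx => T.conj_set hF hω g hx, T.closure_class hF hω⟩

/-- The action is primitive. -/
theorem primitive : Cfsg.IsPrimitiveUnderConj (conjugatesOf d) := by
  refine ⟨fun a ha b hb => ?_, ?_, fun B hB hblock => ?_⟩
  · obtain ⟨g, hg⟩ := T.exists_conj hF hω ha
    obtain ⟨h, hh'⟩ := T.exists_conj hF hω hb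
    refine ⟨h⁻¹ * g, ?_⟩
    rw [show h⁻¹ * g * a * (h⁻¹ * g)⁻¹ = h⁻¹ * (g * a * g⁻¹) * h by group, hg, ← hh']
    group
  · exact ⟨d, IsConj.refl d, _, T.isConj_tr hF hω (T.bu_pt hF hω), (T.tr_ne hF hω (T.bu_pt hF hω)).symm⟩
  by_cases hsub : B.Subsingleton
  · exact Or.inl hsub
  right
  obtain ⟨a, ha, b, hb, hab⟩ := Set.not_subsingleton_iff.1 hsub
  obtain ⟨g, hg⟩ := T.exists_conj hF hω (hB ha)
  set B' := (fun x => g * x * g⁻¹) '' B with hB'
  have hinv : ∀ x ∈ B, ∀ k, Commute k x → ∀ y ∈ B, k * y * k⁻¹ ∈ B := fun x hx k hk y hy => by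
    rcases hblock k with h | h
    · exact h ▸ ⟨y, hy, rfl⟩
    · exact absurd hx (Set.disjoint_left.1 h ⟨x, hx, mul_inv_eq_iff_eq_mul.2 hk.eq⟩)
  have hall := T.saturated hF hω (B := B') (fun x ⟨y, hy, e⟩ => e ▸ T.conj_mem hF hω g (hB hy))
    ⟨a, ha, hg⟩ (b := g * b * g⁻¹) ⟨b, hb, rfl⟩ (fun h => hab (mul_left_cancel (mul_right_cancel (hg.trans h.symm)))) ?_
  · refine Set.Subset.antisymm hB fun x hx => ?_
    obtain ⟨y, hy, e⟩ := hall _ (T.conj_mem hF hω g hx)
    obtain rfl : y = x := mul_left_cancel (mul_right_cancel e)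
    exact hy
  · rintro _ ⟨x, hx, rfl⟩ k hk _ ⟨y, hy, rfl⟩
    refine ⟨_, hinv x hx (g⁻¹ * k * g) ((Commute.conj_iff g).1 ?_) y hy, by group⟩
    rwa [show g * (g⁻¹ * k * g) * g⁻¹ = k by group]

theorem center_bot : Subgroup.center G = ⊥ := by
  haveI := Fintype.ofFinite F
  haveI hs : IsSimpleGroup (Cfsg.PSU 6 F 2) := Unitary.isSimpleGroup_PSU hF (by norm_num) (by omega)
  refine (Subgroup.eq_bot_iff_forall _).2 fun x hx => ?_
  have hxd : Commute x d := (Subgroup.mem_center_iff.1 hx d).symm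
  set x' : ↥(Subgroup.centralizer ({d} : Set G)) := ⟨x, mem_cent.2 hxd⟩
  have hc : T.K.φ x' ∈ Subgroup.center (Cfsg.PSU 6 F 2) := Subgroup.mem_center_iff.2 fun q => by
    obtain ⟨y, rfl⟩ := T.K.surj q
    rw [← map_mul, ← map_mul]
    exact congrArg T.K.φ (Subtype.ext (Subgroup.mem_center_iff.1 hx y))
  have hne : Subgroup.center (Cfsg.PSU 6 F 2) ≠ ⊤ := fun h => by
    have hb := T.bu_pt hF hω
    have hd0 := T.dd0_pt hF hω
    have := (comm_pi hF hb hd0).1 ((Subgroup.mem_center_iff.1 (h ▸ Subgroup.mem_top (π (tv hF (bu 0)))) _).symm)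
    rw [(duals₀ hF hω).2.2.1] at this
    exact one_ne_zero this
  rw [(Subgroup.Normal.eq_bot_or_eq_top inferInstance).resolve_right hne, Subgroup.mem_bot] at hc
  rcases (T.K.ker_iff _).1 hc with h | h
  · exact congrArg Subtype.val h
  · exfalso
    obtain ⟨e, he, hed⟩ := T.exists_far hF hω
    have : x = d := (congrArg Subtype.val h).trans T.hz
    exact hed (this ▸ Subgroup.mem_center_iff.1 hx e)

theorem set_eq : {y : G | y ∈ conjugatesOf d ∧ y ≠ d ∧ Commute d y} = {x : G | ∃ v : V, IsPt v ∧ x = T.tr hF v} := by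
  ext y
  constructor
  · rintro ⟨hy, hne, hc⟩; exact T.exists_tr_ne hF hω hy hc.symm hne
  · rintro ⟨v, hv, rfl⟩; exact ⟨T.isConj_tr hF hω hv, T.tr_ne hF hω hv, (T.tr_cent hF v).symm⟩

/-- The local quotient. -/
theorem local_iso : Nonempty (↥(Subgroup.closure {y : G | y ∈ conjugatesOf d ∧ y ≠ d ∧ Commute d y}) ⧸
    Subgroup.center ↥(Subgroup.closure {y : G | y ∈ conjugatesOf d ∧ y ≠ d ∧ Commute d y}) ≃* Cfsg.PSU 6 F 2) := by
  haveI := Fintype.ofFinite F
  haveI hs : IsSimpleGroup (Cfsg.PSU 6 F 2) := Unitary.isSimpleGroup_PSU hF (by norm_num) (by omega)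
  rw [T.set_eq hF hω, T.closure_tr hF hω]
  have hker : T.K.φ.ker = Subgroup.center ↥(Subgroup.centralizer ({d} : Set G)) := by
    refine le_antisymm T.K.ker_le_center fun x hx => MonoidHom.mem_ker.2 ?_
    have hc : T.K.φ x ∈ Subgroup.center (Cfsg.PSU 6 F 2) := Subgroup.mem_center_iff.2 fun q => by
      obtain ⟨y, rfl⟩ := T.K.surj q
      rw [← map_mul, ← map_mul, Subgroup.mem_center_iff.1 hx y]
    have hne : Subgroup.center (Cfsg.PSU 6 F 2) ≠ ⊤ := fun h => by
      have := (comm_pi hF (T.bu_pt hF hω) (T.dd0_pt hF hω)).1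
        ((Subgroup.mem_center_iff.1 (h ▸ Subgroup.mem_top (π (tv hF (bu 0)))) _).symm)
      rw [(duals₀ hF hω).2.2.1] at this
      exact one_ne_zero this
    rw [(Subgroup.Normal.eq_bot_or_eq_top inferInstance).resolve_right hne, Subgroup.mem_bot] at hc
    exact hc
  exact ⟨(QuotientGroup.quotientMulEquivOfEq hker.symm).trans
    (QuotientGroup.quotientKerEquivOfSurjective T.K.φ T.K.surj)⟩

end TC

end CfsgLib.TC22
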