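import Cfsg.Agent.TC22.TriData

/-!
The checks on the lists of codes.
-/

set_option autoImplicit false

namespace CfsgLib.TC22.Data

open CfsgLib.SixPlane

/-- Strictly ascending. -/
def asc : List ℕ → Bool
  | a :: b :: l => Nat.blt a b && asc (b :: l)
  | _ => true

theorem asc_sorted : ∀ {l : List ℕ}, asc l = true → l.Pairwise (· < ·)
  | [], _ => List.Pairwise.nil
  | [_], _ => List.pairwise_singleton _ _
  | a :: b :: l, h => by
    simp only [asc, Bool.and_eq_true, Nat.blt_eq] at h
    have hl := asc_sorted h.2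
    refine List.pairwise_cons.2 ⟨fun c hc => ?_, hl⟩
    rcases List.mem_cons.1 hc with rfl | hc
    · exact h.1
    · exact h.1.trans (List.rel_of_pairwise_cons hl hc)

theorem codes_asc : ∀ κ, asc ((goods κ).map fun e => e.1) = true ∧ asc ((bads κ).map fun e => e.1) = true := by
  decide +kernel

theorem codes_iso : ∀ κ, ∀ n ∈ (goods κ).map (fun e => e.1) ++ (bads κ).map (fun e => e.1),
    n < 1024 ∧ h6 (wvec n) (wvec n) = 0 := by
  decide +kernel

theorem codes_ok (κ : Fin 3) : ((goods κ).map fun e => e.1).Nodup ∧ ((bads κ).map fun e => e.1).Nodup ∧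
    ∀ n ∈ (goods κ).map (fun e => e.1) ++ (bads κ).map (fun e => e.1), n < 1024 ∧ h6 (wvec n) (wvec n) = 0 :=
  ⟨(asc_sorted (codes_asc κ).1).imp fun h => h.ne, (asc_sorted (codes_asc κ).2).imp fun h => h.ne, codes_iso κ⟩

theorem goods_some : ∀ κ, ∀ e ∈ goods κ, (List.finRange 45).any (fun j => agree κ e.1 j) = true := by decide +kernel

end CfsgLib.TC22.Data
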