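import Cfsg.Agent.TC22.TriData
import Mathlib.Data.ZMod.Basic

/-!
The checks on the tables for the common neighbours.
-/

set_option autoImplicit false

namespace CfsgLib.TC22.Data

open CfsgLib.SixPlane

theorem goods_count : ∀ κ j, (goods κ).countP (fun e => agree κ e.1 j) = 32 := by decide +kernel

theorem bads_count : ∀ κ, 32 < (bads κ).countP (fun e => agree κ e.1 0) := by decide +kernel

end CfsgLib.TC22.Data
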