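import Cfsg.Agent.TC22.Normal
import Cfsg.Agent.TC22.TriCheckCount
import Cfsg.Agent.TC22.TriCheckRefl
import Cfsg.Agent.TC22.TriCheckCodes

/-!
The members commuting with two members that do not commute: one hundred and twenty-six, in a fixed configuration.
-/

set_option autoImplicit false
set_option linter.unusedSectionVars false
set_option linter.style.haveILetI false

namespace CfsgLib.TC22

open Matrix CfsgLib.Unitary CfsgLib.ThreeT CfsgLib.ThreeT.SixTwo CfsgLib.SixPlane

theorem testBit_mask {l : List ℕ} {n : ℕ} (h : (Data.mask l).testBit n = true) : n ∈ l := by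
  induction l with
  | nil => simp [Data.mask] at h
  | cons a l ih =>
    simp only [Data.mask, List.foldr_cons, Nat.testBit_or, Bool.or_eq_true] at h
    rcases h with h | h
    · rw [Nat.one_shiftLeft, Nat.testBit_two_pow] at h
      exact List.mem_cons.2 (Or.inl (of_decide_eq_true h).symm)
    · exact List.mem_cons_of_mem _ (ih h)

/-- The code of a vector with first coordinates `a, a + 1`. -/
def encodeW (a x y z w : Fin 4) : ℕ := encode ![a, x, y, z, w]

theorem wvec_inj {n m : ℕ} (hn : n < 1024) (hm : m < 1024) (h : ∀ k, Data.wvec n k = Data.wvec m k) : n = m := by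
  have h0 := congrArg Fin.val (h 0)
  have h2 := congrArg Fin.val (h 2)
  have h3 := congrArg Fin.val (h 3)
  have h4 := congrArg Fin.val (h 4)
  have h5 := congrArg Fin.val (h 5)
  simp [Data.wvec, Data.dig] at h0 h2 h3 h4 h5
  omega

variable {F : Type} [Field F] [CharP F 2] [Finite F] (hF : Nat.card F = 2 ^ 2) {ω : F}
  (hω : ω ^ 2 = ω + 1) {G : Type*} [Group G] [Finite G] {d : G} (T : TC F d)

local notation "V" => Fin 6 → F
local notation "hh" => Cfsg.hermForm 6 F 2
local notation "π" => QuotientGroup.mk' (Subgroup.center (Cfsg.SU 6 F 2))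

/-- The vector of six coordinates. -/
def vec6 (ω : F) (x : Fin 6 → Fin 4) : Fin 6 → F := fun k => enc ω (x k)

include hF hω

theorem hh_vec6 (x u : Fin 6 → Fin 4) : hh (vec6 ω x) (vec6 ω u) = enc ω (Data.h6 x u) := by
  simp [Data.h6, Data.sqr, enc_add hω, enc_mul hω, vec6, Cfsg.hermForm, Fin.sum_univ_six, pow_two]
  ring

theorem vec6_tv (u x : Fin 6 → Fin 4) :
    vec6 ω (Data.tv6 u x) = vec6 ω x + hh (vec6 ω x) (vec6 ω u) • vec6 ω u := funext fun k => by
  rw [Pi.add_apply, Pi.smul_apply, smul_eq_mul, hh_vec6 hF hω]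
  simp [vec6, Data.tv6, enc_add hω, enc_mul hω]

theorem vec6_smul (c : Fin 4) (x : Fin 6 → Fin 4) : vec6 ω (fun k => mul4 c (x k)) = enc ω c • vec6 ω x :=
  funext fun k => by simp [vec6, enc_mul hω]

theorem vec6_ptv (κ : Fin 3) (j : Fin 45) : vec6 ω (Data.ptv κ j) = vec4 ω (Data.sol κ j) (Data.pts45 j) :=
  funext fun k => by fin_cases k <;> rfl

theorem vec6_pt {x : Fin 6 → Fin 4} (h1 : ∃ k, x k ≠ 0) (h2 : Data.h6 x x = 0) : IsPt (vec6 ω x) := by
  obtain ⟨k, hk⟩ := h1
  exact ⟨fun e => hk (enc_injective hω ((congrFun e k).trans (show (0 : F) = enc ω 0 from rfl))),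
    by rw [hh_vec6 hF hω, h2]; rfl⟩

theorem vec6_first_sum (n : ℕ) (a : F) :
    (a • vec6 ω (Data.wvec n)) 0 + (a • vec6 ω (Data.wvec n)) 1 = a := by
  simp only [Pi.smul_apply, smul_eq_mul, vec6, Data.wvec, Matrix.cons_val_zero, Matrix.cons_val_one, enc_add hω]
  rw [show enc ω (1 : Fin 4) = 1 from rfl]
  linear_combination (a * enc ω (Data.dig n 0)) * CharTwo.two_eq_zero (R := F)

theorem vec4_first_sum (l : Fin 4) (x : Fin 4 → Fin 4) (a : F) : (a • vec4 ω l x) 0 + (a • vec4 ω l x) 1 = 0 := by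
  simp [vec4, CharTwo.add_self_eq_zero]

theorem wvec_pt {n : ℕ} (h : Data.h6 (Data.wvec n) (Data.wvec n) = 0) : IsPt (vec6 ω (Data.wvec n)) :=
  vec6_pt hF hω (by
    by_contra hc; push Not at hc
    have h1 := hc 1
    rw [show Data.wvec n 1 = add4 (Data.wvec n 0) 1 from rfl, hc 0] at h1
    exact absurd h1 (by decide)) h

/-- An isotropic vector orthogonal to the base point lies over it or over one of the forty-five. -/
theorem perp_cases {v : V} (hv : IsPt v) (h0 : hh v (bu 0) = 0) :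
    (∃ a : F, v = a • bu 0) ∨ ∃ l j, ∃ a : F, v = a • vec4 ω l (Data.pts45 j) := by
  have h01 : v 0 = v 1 := by
    simp [bu, emb, Cfsg.hermForm, Fin.sum_univ_six] at h0
    exact CharTwo.add_eq_zero.1 h0
  choose n hn using fun i => enc_surjective hF hω (v i)
  have hvv : v = vec4 ω (n 0) ![n 2, n 3, n 4, n 5] := funext fun i => by
    fin_cases i <;> simp [vec4, hn, h01]
  by_cases hz : ![n 2, n 3, n 4, n 5] = ![0, 0, 0, 0]
  · left
    exact ⟨enc ω (n 0), by rw [hvv, hz]; funext i; fin_cases i <;> simp [vec4, bu, emb, enc]⟩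
  right
  have hiso : Data.h4 ![n 2, n 3, n 4, n 5] ![n 2, n 3, n 4, n 5] = 0 := enc_injective hω (by
    rw [← hh_vec4 hF hω (n 0) (n 0), ← hvv, hv.2]; rfl)
  obtain ⟨j, s, hs, hj⟩ := Data.pts45_cover _ _ _ _ hiso hz
  refine ⟨mul4 (Data.inv4 s) (n 0), j, enc ω s, ?_⟩
  rw [hvv, ← vec4_smul hF hω, show (fun k => mul4 s (Data.pts45 j k)) = ![n 2, n 3, n 4, n 5] from
    funext fun k => (hj k).symm]
  congr 1
  exact ((by decide : ∀ c x : Fin 4, c ≠ 0 → mul4 c (mul4 (Data.inv4 c) x) = x) s (n 0) hs).symm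

/-- The other isotropic vectors. -/
theorem far_cases {v : V} (hv : IsPt v) (h0 : hh v (bu 0) ≠ 0) :
    ∃ n < 1024, Data.h6 (Data.wvec n) (Data.wvec n) = 0 ∧ ∃ a : F, v = a • vec6 ω (Data.wvec n) := by
  have hs : v 0 + v 1 ≠ 0 := fun e => h0 (by simp [bu, emb, Cfsg.hermForm, Fin.sum_univ_six, e])
  set s := v 0 + v 1 with hsdef
  choose m hm using fun i => enc_surjective hF hω (s⁻¹ * v i)
  set μ : Fin 5 → Fin 4 := ![m 0, m 2, m 3, m 4, m 5] with hμ
  obtain ⟨hlt, hdig⟩ := encode_spec μ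
  have hw : vec6 ω (Data.wvec (encode μ)) = s⁻¹ • v := funext fun k => by
    fin_cases k
    all_goals simp only [vec6, Data.wvec, hdig, Pi.smul_apply, smul_eq_mul]
    all_goals simp [μ, enc_add hω, hm]
    rw [show enc ω (1 : Fin 4) = 1 from rfl]
    have e : s⁻¹ * v 0 + s⁻¹ * v 1 = 1 := by rw [← mul_add, inv_mul_cancel₀ hs]
    linear_combination -e + (s⁻¹ * v 0) * CharTwo.two_eq_zero (R := F)
  refine ⟨encode μ, hlt, enc_injective hω ?_, s, by rw [hw, smul_smul, mul_inv_cancel₀ hs, one_smul]⟩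
  rw [← hh_vec6 hF hω, hw, herm_smul_left, herm_smul_right hF, hv.2, mul_zero, mul_zero]; rfl

namespace TC

include T

section Normal

variable {κ : Fin 3} {e : G} (he : IsConj d e) (hed : ¬ Commute e d)
  (hez : Commute e (T.tr hF (bu 0)))
  (hsol : ∀ l j, Commute e (T.tr hF (vec4 ω l (Data.pts45 j))) ↔ l = Data.sol κ j)

include he hed hez hsol

theorem yv_pt (j : Fin 45) : IsPt (vec6 ω (Data.ptv κ j)) := by
  rw [vec6_ptv hF hω]; exact vec4_pt hF hω _ _

theorem y_comm (j : Fin 45) : Commute e (T.tr hF (vec6 ω (Data.ptv κ j))) := by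
  rw [vec6_ptv hF hω]; exact (hsol _ j).2 rfl

/-- Moving along the words does not change commuting with `e`. -/
theorem word_iff (w : List (Fin 45)) {x : Fin 6 → Fin 4} (hx : IsPt (vec6 ω x)) :
    IsPt (vec6 ω (Data.act6 κ w x)) ∧
      (Commute e (T.tr hF (vec6 ω (Data.act6 κ w x))) ↔ Commute e (T.tr hF (vec6 ω x))) := by
  induction w with
  | nil => exact ⟨hx, Iff.rfl⟩
  | cons j w ih =>
    obtain ⟨hp, hi⟩ := ih
    set y := Data.act6 κ w x
    have hj : IsPt (vec6 ω (Data.ptv κ j)) := T.yv_pt hF hω he hed hez hsol j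
    have hstep : Data.act6 κ (j :: w) x = Data.tv6 (Data.ptvc κ j) y := rfl
    rw [hstep, show Data.ptvc κ j = Data.ptv κ j from funext (Data.ptvc_spec κ j), vec6_tv hF hω]
    refine ⟨by rw [← tv_apply hF hj.2]; exact pt_moved hF hω _ hp, ?_⟩
    rw [← T.tr_conj_tr hF hω hj hp, ← hi]
    set u := T.tr hF (vec6 ω (Data.ptv κ j))
    have hue : Commute e u := T.y_comm hF hω he hed hez hsol j
    have huu : u⁻¹ = u := T.inv_of_conj hF hω (T.isConj_tr hF hω hj)
    nth_rw 2 [← huu]
    have heu : u * e * u⁻¹ = e := by rw [hue.symm.eq, mul_inv_cancel_right]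
    conv_lhs => arg 1; rw [← heu]
    exact Commute.conj_iff u

/-- The vectors of the far neighbours. -/
def Good (T : TC F d) (hF : Nat.card F = 2 ^ 2) (ω : F) (e : G) (n : ℕ) : Prop :=
  n < 1024 ∧ Data.h6 (Data.wvec n) (Data.wvec n) = 0 ∧ Commute e (T.tr hF (vec6 ω (Data.wvec n)))

open Classical in
/-- The set of indices of the neighbours at a position. -/
noncomputable def nbrIdx (T : TC F d) (hF : Nat.card F = 2 ^ 2) (ω : F) (κ : Fin 3) (e : G) (j : Fin 45) : Finset (Option (Fin 45) ⊕ ℕ) :=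
  (insert (Sum.inl none) ((((List.finRange 45).filter fun k => decide (k ≠ j) && Data.h4 (Data.pts45 k) (Data.pts45 j) == 0).toFinset).image
    fun k => Sum.inl (some k))) ∪
    (((Finset.range 1024).filter fun n => T.Good hF ω e n ∧ Data.agree κ n j = true).image Sum.inr)

theorem agree_iff {n : ℕ} (hn : Data.h6 (Data.wvec n) (Data.wvec n) = 0) (j : Fin 45) :
    Data.agree κ n j = true ↔
      Commute (T.tr hF (vec6 ω (Data.wvec n))) (T.tr hF (vec6 ω (Data.ptv κ j))) := by
  rw [T.tr_commute_iff hF hω (wvec_pt hF hω hn) (T.yv_pt hF hω he hed hez hsol j), hh_comm hF, hh_vec6 hF hω,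
    Data.agree, beq_iff_eq, show Data.ptvc κ j = Data.ptv κ j from funext (Data.ptvc_spec κ j)]
  exact ⟨fun h => by rw [h]; rfl, fun h => enc_injective hω h⟩

open Classical in
theorem nbr_count (j : Fin 45) :
    13 + ((Finset.range 1024).filter fun n => T.Good hF ω e n ∧ Data.agree κ n j = true).card = 45 := by
  classical
  let φ : Option (Fin 45) ⊕ ℕ → G := fun i => match i with
    | Sum.inl none => T.tr hF (bu 0)
    | Sum.inl (some k) => T.tr hF (vec6 ω (Data.ptv κ k))
    | Sum.inr n => T.tr hF (vec6 ω (Data.wvec n))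
  set S := T.nbrIdx hF ω κ e j with hS
  have hyj := T.yv_pt hF hω he hed hez hsol j
  have hb := T.bu_pt hF hω
  have hset : {x : G | IsConj d x ∧ Commute x d ∧ Commute x e ∧ Commute x (T.tr hF (vec6 ω (Data.ptv κ j))) ∧
      x ≠ T.tr hF (vec6 ω (Data.ptv κ j))} = φ '' (S : Set (Option (Fin 45) ⊕ ℕ)) := by
    ext x
    constructor
    · rintro ⟨hx, hxd, hxe, hxy, hne⟩
      obtain ⟨v, hv, rfl⟩ := T.exists_tr_ne hF hω hx hxd fun h => hed (h ▸ hxe).symm
      by_cases h0 : hh v (bu 0) = 0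
      · rcases perp_cases hF hω hv h0 with ⟨a, ha⟩ | ⟨l, k, a, ha⟩
        · refine ⟨Sum.inl none, by simp [hS, nbrIdx], ?_⟩
          rw [ha, T.tr_smul hF hω hb fun h => hv.1 (by rw [ha, h, zero_smul])]
        · have hp := vec4_pt hF hω l k
          have e1 : T.tr hF v = T.tr hF (vec4 ω l (Data.pts45 k)) := by
            rw [ha, T.tr_smul hF hω hp fun h => hv.1 (by rw [ha, h, zero_smul])]
          have hl : l = Data.sol κ k := (hsol l k).1 (e1 ▸ hxe.symm)
          subst hl
          rw [← vec6_ptv hF hω] at e1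
          refine ⟨Sum.inl (some k), ?_, e1.symm⟩
          have hkj : k ≠ j := fun h => hne (h ▸ e1)
          have hperp : Data.h4 (Data.pts45 k) (Data.pts45 j) = 0 := by
            rw [e1, T.tr_commute_iff hF hω (T.yv_pt hF hω he hed hez hsol k) hyj, vec6_ptv hF hω, vec6_ptv hF hω,
              hh_vec4 hF hω] at hxy
            exact enc_injective hω hxy
          simp [hS, nbrIdx, hkj, hperp]
      · obtain ⟨n, hn, hiso, a, ha⟩ := far_cases hF hω hv h0
        have e1 : T.tr hF v = T.tr hF (vec6 ω (Data.wvec n)) := by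
          rw [ha, T.tr_smul hF hω (wvec_pt hF hω hiso) fun h => hv.1 (by rw [ha, h, zero_smul])]
        refine ⟨Sum.inr n, ?_, e1.symm⟩
        have hag := (T.agree_iff hF hω he hed hez hsol hiso j).2 (e1 ▸ hxy)
        have hg : T.Good hF ω e n := ⟨hn, hiso, e1 ▸ hxe.symm⟩
        simp [hS, nbrIdx, hn, hg, hag]
    · rintro ⟨i, hi, rfl⟩
      rcases i with (_ | k) | n
      · refine ⟨T.isConj_tr hF hω hb, T.tr_cent hF _, hez.symm, ?_, ?_⟩
        · refine ((T.tr_commute_iff hF hω hyj hb).2 ?_).symm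
          rw [vec6_ptv hF hω]; exact hh_vec4_bu hF hω _ _
        · refine T.tr_ne_of hF hω hb hyj fun a h => ?_
          rw [vec6_ptv hF hω] at h
          have ha : a ≠ 0 := fun h0 => hb.1 (by rw [h, h0, zero_smul])
          exact vec4_ne_bu hF hω _ j a⁻¹ (by rw [h, smul_smul, inv_mul_cancel₀ ha, one_smul])
      · simp [hS, nbrIdx] at hi
        have hk := T.yv_pt hF hω he hed hez hsol k
        refine ⟨T.isConj_tr hF hω hk, T.tr_cent hF _, (T.y_comm hF hω he hed hez hsol k).symm, ?_, ?_⟩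
        · refine (T.tr_commute_iff hF hω hk hyj).2 ?_
          rw [vec6_ptv hF hω, vec6_ptv hF hω, hh_vec4 hF hω, hi.2]; rfl
        · refine T.tr_ne_of hF hω hk hyj fun a h => hi.1 ?_
          rw [vec6_ptv hF hω, vec6_ptv hF hω] at h
          exact vec4_prop hF hω h
      · simp [hS, nbrIdx] at hi
        obtain ⟨-, ⟨hn, hiso, hce⟩, hag⟩ := hi
        have hp := wvec_pt hF hω hiso
        refine ⟨T.isConj_tr hF hω hp, T.tr_cent hF _, hce.symm, (T.agree_iff hF hω he hed hez hsol hiso j).1 hag, ?_⟩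
        refine T.tr_ne_of hF hω hp hyj fun a h => ?_
        have h1 := vec6_first_sum hF hω n 1
        rw [one_smul, h, vec6_ptv hF hω, vec4_first_sum hF hω] at h1
        exact zero_ne_one h1
  have hinj : Set.InjOn φ (S : Set (Option (Fin 45) ⊕ ℕ)) := by
    intro i hi k hk h
    have hw : ∀ n, Sum.inr n ∈ (S : Set (Option (Fin 45) ⊕ ℕ)) →
        n < 1024 ∧ IsPt (vec6 ω (Data.wvec n)) := fun n hn => by
      simp [hS, nbrIdx] at hn
      exact ⟨hn.1, wvec_pt hF hω hn.2.1.2.1⟩
    have hbw : ∀ n, Sum.inr n ∈ (S : Set (Option (Fin 45) ⊕ ℕ)) →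
        T.tr hF (bu 0) ≠ T.tr hF (vec6 ω (Data.wvec n)) := fun n hn =>
      (T.tr_ne_of hF hω (hw n hn).2 hb fun a h => zero_ne_one (α := F) (by
        have h1 := vec6_first_sum hF hω n 1
        rw [one_smul, h] at h1
        rw [← h1]; simp [bu, emb, CharTwo.add_self_eq_zero])).symm
    have hyw : ∀ l n, Sum.inr n ∈ (S : Set (Option (Fin 45) ⊕ ℕ)) →
        T.tr hF (vec6 ω (Data.ptv κ l)) ≠ T.tr hF (vec6 ω (Data.wvec n)) := fun l n hn =>
      (T.tr_ne_of hF hω (hw n hn).2 (T.yv_pt hF hω he hed hez hsol l) fun a h => zero_ne_one (α := F) (by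
        have h1 := vec6_first_sum hF hω n 1
        rw [one_smul, h, vec6_ptv hF hω, vec4_first_sum hF hω] at h1
        exact h1)).symm
    have hby : ∀ l, T.tr hF (bu 0) ≠ T.tr hF (vec6 ω (Data.ptv κ l)) := fun l =>
      (T.tr_ne_of hF hω (T.yv_pt hF hω he hed hez hsol l) hb fun a h =>
        vec4_ne_bu hF hω _ l a (by rw [← vec6_ptv hF hω]; exact h)).symm
    rcases i with (_ | k₁) | n₁ <;> rcases k with (_ | k₂) | n₂
    · rfl
    · exact absurd h (hby k₂)
    · exact absurd h (hbw n₂ hk)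
    · exact absurd h.symm (hby k₁)
    · obtain ⟨a, ha⟩ := T.tr_eq_smul hF hω (T.yv_pt hF hω he hed hez hsol k₁) (T.yv_pt hF hω he hed hez hsol k₂) h
      rw [vec6_ptv hF hω, vec6_ptv hF hω] at ha
      rw [vec4_prop hF hω ha]
    · exact absurd h (hyw k₁ n₂ hk)
    · exact absurd h.symm (hbw n₁ hi)
    · exact absurd h.symm (hyw k₂ n₁ hi)
    · obtain ⟨a, ha⟩ := T.tr_eq_smul hF hω (hw n₁ hi).2 (hw n₂ hk).2 h
      have h1 := vec6_first_sum hF hω n₁ 1
      rw [one_smul, ha, vec6_first_sum hF hω] at h1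
      rw [h1, one_smul] at ha
      rw [wvec_inj (hw n₁ hi).1 (hw n₂ hk).1 fun t => enc_injective hω (congrFun ha t)]
  have h45 := T.ncard_nbrs hF hω he hed hyj (T.y_comm hF hω he hed hez hsol j)
  rw [hset, hinj.ncard_image, Set.ncard_coe_finset, hS, nbrIdx, Finset.card_union_of_disjoint (by
      rw [Finset.disjoint_left]; rintro i hi hi'
      simp at hi hi'
      obtain ⟨n, -, rfl⟩ := hi'
      simp at hi),
    Finset.card_insert_of_notMem (by simp), Finset.card_image_of_injective _ (fun a b h => by simpa using h),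
    Finset.card_image_of_injective _ Sum.inr_injective,
    List.toFinset_card_of_nodup ((List.nodup_finRange 45).filter _), ← List.countP_eq_length_filter,
    Data.perp_count j] at h45
  exact h45

theorem code_cases {n : ℕ} (hn : n < 1024) (hiso : Data.h6 (Data.wvec n) (Data.wvec n) = 0) :
    n ∈ (Data.goods κ).map (fun e => e.1) ∨ n ∈ (Data.bads κ).map (fun e => e.1) :=
  List.mem_append.1 (testBit_mask (Data.codes_cover n hn hiso κ))

theorem codes_nodup :
    ((Data.goods κ).map fun e => e.1).Nodup ∧ ((Data.bads κ).map fun e => e.1).Nodup ∧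
      (∀ n ∈ (Data.goods κ).map (fun e => e.1), n < 1024 ∧ Data.h6 (Data.wvec n) (Data.wvec n) = 0) ∧
      ∀ n ∈ (Data.bads κ).map (fun e => e.1), n < 1024 ∧ Data.h6 (Data.wvec n) (Data.wvec n) = 0 := by
  obtain ⟨h1, h2, h3⟩ := Data.codes_ok κ
  refine ⟨h1, h2, fun n hn => ?_, fun n hn => ?_⟩
  · have := h3 n (List.mem_append.2 (Or.inl hn))
    exact ⟨this.1, this.2⟩
  · have := h3 n (List.mem_append.2 (Or.inr hn))
    exact ⟨this.1, this.2⟩

/-- No vector of the large orbit gives a neighbour. -/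
theorem no_bad {n : ℕ} (hn : n ∈ (Data.bads κ).map (fun e => e.1)) : ¬ T.Good hF ω e n := by
  classical
  rintro ⟨-, hiso, hc⟩
  obtain ⟨-, hnd, -, hbad⟩ := T.codes_nodup hF hω he hed hez hsol
  have hroot : ∀ p ∈ Data.bads κ, (Commute e (T.tr hF (vec6 ω (Data.wvec p.1))) ↔
      Commute e (T.tr hF (vec6 ω (Data.wvec (Data.rootCode κ))))) := fun p hp => by
    have h := (T.word_iff hF hω he hed hez hsol p.2 (x := Data.wvec p.1)
      (wvec_pt hF hω (hbad p.1 (List.mem_map_of_mem hp)).2)).2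
    rw [show Data.act6 κ p.2 (Data.wvec p.1) = Data.wvec (Data.rootCode κ) from funext (Data.bads_spec κ p hp)] at h
    exact h.symm
  obtain ⟨p, hp, rfl⟩ := List.mem_map.1 hn
  have hr := (hroot p hp).1 hc
  have hcount := T.nbr_count hF hω he hed hez hsol 0
  set L := ((Data.bads κ).filter fun q => Data.agree κ q.1 0).map fun q => q.1 with hL
  have hLn : L.Nodup := by
    refine (List.Sublist.map _ (List.filter_sublist)).nodup hnd
  have hsub : L.toFinset ⊆ (Finset.range 1024).filter fun n => T.Good hF ω e n ∧ Data.agree κ n 0 = true := by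
    intro m hm
    rw [List.mem_toFinset, hL, List.mem_map] at hm
    obtain ⟨q, hq, rfl⟩ := hm
    obtain ⟨hq1, hq2⟩ := List.mem_filter.1 hq
    obtain ⟨b1, b2⟩ := hbad q.1 (List.mem_map_of_mem hq1)
    exact Finset.mem_filter.2 ⟨Finset.mem_range.2 b1, ⟨b1, b2, (hroot q hq1).2 hr⟩, hq2⟩
  have h := Finset.card_le_card hsub
  rw [List.toFinset_card_of_nodup hLn, hL, List.length_map, ← List.countP_eq_length_filter] at h
  have := Data.bads_count κ
  omega

/-- All vectors agreeing eighteen times give neighbours. -/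
theorem all_good {p : ℕ × Fin 126 × Fin 4} (hp : p ∈ Data.goods κ) : T.Good hF ω e p.1 := by
  classical
  obtain ⟨hnd, -, -, -⟩ := T.codes_nodup hF hω he hed hez hsol
  obtain ⟨j, -, hj⟩ := List.any_eq_true.1 (Data.goods_some κ p hp)
  have hcount := T.nbr_count hF hω he hed hez hsol j
  set L := ((Data.goods κ).filter fun q => Data.agree κ q.1 j).map fun q => q.1 with hL
  have hLn : L.Nodup := (List.Sublist.map _ (List.filter_sublist)).nodup hnd
  have hsub : ((Finset.range 1024).filter fun n => T.Good hF ω e n ∧ Data.agree κ n j = true) ⊆ L.toFinset := by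
    intro m hm
    obtain ⟨-, hg, ha⟩ := Finset.mem_filter.1 hm
    rw [List.mem_toFinset, hL, List.mem_map]
    rcases T.code_cases hF hω he hed hez hsol hg.1 hg.2.1 with h | h
    · obtain ⟨q, hq, rfl⟩ := List.mem_map.1 h
      exact ⟨q, List.mem_filter.2 ⟨hq, ha⟩, rfl⟩
    · exact absurd hg (T.no_bad hF hω he hed hez hsol h)
  have hlen : L.toFinset.card = 32 := by
    rw [List.toFinset_card_of_nodup hLn, hL, List.length_map, ← List.countP_eq_length_filter, Data.goods_count]
  have heq := Finset.eq_of_subset_of_card_le hsub (by omega)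
  have hm : p.1 ∈ L.toFinset := by
    rw [List.mem_toFinset, hL]
    exact List.mem_map.2 ⟨p, List.mem_filter.2 ⟨hp, hj⟩, rfl⟩
  rw [← heq] at hm
  exact (Finset.mem_filter.1 hm).2.1

/-- The common neighbours, in the normal form. -/
theorem tri_normal :
    {x : G | IsConj d x ∧ Commute x d ∧ Commute x e} =
      Set.range fun i => T.tr hF (vec6 ω (Data.pts126 κ i)) := by
  have hb := T.bu_pt hF hω
  have hbu : bu (F := F) 0 = vec6 ω (Data.pts126 κ (Data.busIdx κ)) := funext fun k => by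
    show _ = enc ω _
    rw [Data.busIdx_spec]
    fin_cases k <;> simp [bu, emb, enc]
  have hy : ∀ j, T.tr hF (vec6 ω (Data.ptv κ j)) = T.tr hF (vec6 ω (Data.pts126 κ (Data.yIdx κ j).1)) := fun j => by
    obtain ⟨hc, hk⟩ := Data.yIdx_spec κ j
    have hp := T.yv_pt hF hω he hed hez hsol j
    rw [show Data.ptv κ j = fun k => mul4 (Data.yIdx κ j).2 (Data.pts126 κ (Data.yIdx κ j).1 k) from funext hk,
      vec6_smul hF hω] at hp ⊢
    have hc0 : enc ω (Data.yIdx κ j).2 ≠ 0 := fun h => hc (enc_injective hω h)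
    exact T.tr_smul hF hω ⟨fun h => hp.1 (by rw [h, smul_zero]), by
      have h2 := hp.2
      rw [herm_smul_left, herm_smul_right hF] at h2
      exact (mul_eq_zero.1 ((mul_eq_zero.1 h2).resolve_left hc0)).resolve_left (pow_ne_zero _ hc0)⟩ hc0
  have hw : ∀ p ∈ Data.goods κ, Data.h6 (Data.wvec p.1) (Data.wvec p.1) = 0 →
      T.tr hF (vec6 ω (Data.wvec p.1)) = T.tr hF (vec6 ω (Data.pts126 κ p.2.1)) := fun p hp hiso => by
    obtain ⟨hc, hk⟩ := Data.goods_spec κ p hp
    have hpt := wvec_pt hF hω hiso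
    rw [show Data.wvec p.1 = fun k => mul4 p.2.2 (Data.pts126 κ p.2.1 k) from funext hk, vec6_smul hF hω] at hpt ⊢
    have hc0 : enc ω p.2.2 ≠ 0 := fun h => hc (enc_injective hω h)
    exact T.tr_smul hF hω ⟨fun h => hpt.1 (by rw [h, smul_zero]), by
      have h2 := hpt.2
      rw [herm_smul_left, herm_smul_right hF] at h2
      exact (mul_eq_zero.1 ((mul_eq_zero.1 h2).resolve_left hc0)).resolve_left (pow_ne_zero _ hc0)⟩ hc0
  ext x
  constructor
  · rintro ⟨hx, hxd, hxe⟩
    obtain ⟨v, hv, rfl⟩ := T.exists_tr_ne hF hω hx hxd fun h => hed (h ▸ hxe).symm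
    by_cases h0 : hh v (bu 0) = 0
    · rcases perp_cases hF hω hv h0 with ⟨a, ha⟩ | ⟨l, j, a, ha⟩
      · refine ⟨Data.busIdx κ, ?_⟩
        show T.tr hF _ = _
        rw [← hbu, ha, T.tr_smul hF hω hb fun h => hv.1 (by rw [ha, h, zero_smul])]
      · refine ⟨(Data.yIdx κ j).1, ?_⟩
        have e1 : T.tr hF v = T.tr hF (vec4 ω l (Data.pts45 j)) := by
          rw [ha, T.tr_smul hF hω (vec4_pt hF hω l j) fun h => hv.1 (by rw [ha, h, zero_smul])]
        show T.tr hF _ = _
        rw [← hy, vec6_ptv hF hω, e1, (hsol l j).1 (e1 ▸ hxe.symm)]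
    · obtain ⟨n, hn, hiso, a, ha⟩ := far_cases hF hω hv h0
      have e1 : T.tr hF v = T.tr hF (vec6 ω (Data.wvec n)) := by
        rw [ha, T.tr_smul hF hω (wvec_pt hF hω hiso) fun h => hv.1 (by rw [ha, h, zero_smul])]
      have hg : T.Good hF ω e n := ⟨hn, hiso, e1 ▸ hxe.symm⟩
      rcases T.code_cases hF hω he hed hez hsol hn hiso with h | h
      · obtain ⟨p, hp, rfl⟩ := List.mem_map.1 h
        exact ⟨p.2.1, (e1.trans (hw p hp hiso)).symm⟩
      · exact absurd hg (T.no_bad hF hω he hed hez hsol h)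
  · rintro ⟨i, rfl⟩
    show IsConj d (T.tr hF (vec6 ω _)) ∧ Commute (T.tr hF (vec6 ω _)) d ∧ Commute (T.tr hF (vec6 ω _)) e
    rcases Data.pts126_kinds κ i with rfl | h | h
    · rw [← hbu]
      exact ⟨T.isConj_tr hF hω hb, T.tr_cent hF _, hez.symm⟩
    · obtain ⟨j, rfl⟩ := List.mem_ofFn.1 h
      rw [← hy]
      exact ⟨T.isConj_tr hF hω (T.yv_pt hF hω he hed hez hsol j), T.tr_cent hF _,
        (T.y_comm hF hω he hed hez hsol j).symm⟩
    · obtain ⟨p, hp, rfl⟩ := List.mem_map.1 h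
      obtain ⟨hn, hiso, hc⟩ := T.all_good hF hω he hed hez hsol hp
      rw [← hw p hp hiso]
      exact ⟨T.isConj_tr hF hω (wvec_pt hF hω hiso), T.tr_cent hF _, hc.symm⟩

end Normal

end TC

end CfsgLib.TC22
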