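import Cfsg.Agent.TC22.TriData
import Mathlib.Data.ZMod.Basic

/-!
The checks on the tables for the common neighbours.
-/

set_option autoImplicit false

namespace CfsgLib.TC22.Data

open CfsgLib.SixPlane

theorem act7_pts : ∀ κ a i,
    [(1 : Fin 4), 2, 3].any (fun c => (List.finRange 6).all fun k =>
      tv6 (pts126 κ (gen7 a)) (pts126 κ i) k == mul4 c (pts126 κ (act7 a i) k)) = true := by decide +kernel

theorem pts126_code : ∀ κ, (pts126List κ).Nodup ∧ (pts126List κ).length = 126 ∧ ∀ x ∈ pts126List κ, x < 4096 := by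
  decide +kernel

theorem parent_spec : ∀ i : Fin 126, i.val < 7 ∨ ((parent i).2.val < i.val ∧ act7 (parent i).1 (parent i).2 = i) := by
  decide +kernel

end CfsgLib.TC22.Data
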