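import Cfsg.Agent.TC22.Data
import Mathlib.Data.ZMod.Basic

/-!
Tables for the common neighbours of two members that do not commute.
-/

set_option autoImplicit false

namespace CfsgLib.TC22.Data

open CfsgLib.SixPlane

/-- Four positions at which the values of a linear form can be prescribed. -/
def base4 : Fin 4 → Fin 45 := ![0, 1, 3, 9]

/-- A basis of isotropic vectors. -/
def qbasis : Fin 4 → Fin 4 → Fin 4 :=
  ![![1, 1, 0, 0], ![1, 2, 0, 0], ![0, 0, 1, 1], ![0, 0, 1, 2]]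

/-- Coefficients of the form with prescribed values, by the code of the values. -/
def coef : List ℕ :=
  [0, 131, 66, 193, 51, 176, 113, 242, 34, 161, 96, 227, 17, 146, 83, 208, 10, 137, 72, 203, 57, 186, 123,
    248, 40, 171, 106, 233, 27, 152, 89, 218, 5, 134, 71, 196, 54, 181, 116, 247, 39, 164, 101, 230, 20, 151,
    86, 213, 15, 140, 77, 206, 60, 191, 126, 253, 45, 174, 111, 236, 30, 157, 92, 223, 11, 136, 73, 202, 56,
    187, 122, 249, 41, 170, 107, 232, 26, 153, 88, 219, 1, 130, 67, 192, 50, 177, 112, 243, 35, 160, 97, 226,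
    16, 147, 82, 209, 14, 141, 76, 207, 61, 190, 127, 252, 44, 175, 110, 237, 31, 156, 93, 222, 4, 135, 70, 197,
    55, 180, 117, 246, 38, 165, 100, 231, 21, 150, 87, 212, 6, 133, 68, 199, 53, 182, 119, 244, 36, 167, 102,
    229, 23, 148, 85, 214, 12, 143, 78, 205, 63, 188, 125, 254, 46, 173, 108, 239, 29, 158, 95, 220, 3, 128, 65,
    194, 48, 179, 114, 241, 33, 162, 99, 224, 18, 145, 80, 211, 9, 138, 75, 200, 58, 185, 120, 251, 43, 168,
    105, 234, 24, 155, 90, 217, 13, 142, 79, 204, 62, 189, 124, 255, 47, 172, 109, 238, 28, 159, 94, 221, 7,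
    132, 69, 198, 52, 183, 118, 245, 37, 166, 103, 228, 22, 149, 84, 215, 8, 139, 74, 201, 59, 184, 121, 250,
    42, 169, 104, 235, 25, 154, 91, 216, 2, 129, 64, 195, 49, 178, 115, 240, 32, 163, 98, 225, 19, 144, 81, 210]

/-- The normalised functions. -/
def sol : Fin 3 → Fin 45 → Fin 4 :=
  ![![0, 0, 0, 0, 0, 0, 0, 0, 0, 0, 0, 0, 0, 0, 0, 0, 1, 2, 3, 2, 3, 1, 3, 1, 2, 0, 2, 3, 1, 3, 1, 2, 1, 2, 3,
    0, 3, 1, 2, 1, 2, 3, 2, 3, 1],
    ![0, 0, 0, 0, 0, 0, 0, 0, 0, 0, 0, 0, 0, 0, 0, 0, 2, 3, 1, 3, 1, 2, 1, 2, 3, 0, 3, 1, 2, 1, 2, 3, 2, 3, 1,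
    0, 1, 2, 3, 2, 3, 1, 3, 1, 2],
    ![0, 0, 0, 0, 0, 0, 0, 0, 0, 0, 0, 0, 0, 0, 0, 0, 3, 1, 2, 1, 2, 3, 2, 3, 1, 0, 1, 2, 3, 2, 3, 1, 3, 1, 2,
    0, 2, 3, 1, 3, 1, 2, 1, 2, 3]]

/-- A search tree with solutions at its leaves. -/
inductive Tree2 where
  | done
  | node (L : Fin 27) {m : ℕ} (kids : Fin m → Tree2)

/-- Extends a partial map, zero allowed. -/
def extend0 : List (Fin 45 × Fin 4) → List (Fin 45 × Fin 4) → Option (List (Fin 45 × Fin 4))
  | [], s => some s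
  | (j, v) :: r, s =>
    match look s j with
    | none => extend0 r ((j, v) :: s)
    | some x => if x = v then extend0 r s else none

/-- The check of a search tree with solutions. -/
def check2 (κ : Fin 3) : ℕ → Tree2 → List (Fin 45 × Fin 4) → Bool
  | 0, _, _ => false
  | _ + 1, .done, s => (List.finRange 45).all fun j => look s j == some (sol κ j)
  | k + 1, .node L kids, s =>
    let good := (patt κ).filterMap fun n => extend0 (assigns L n) s
    good.length == (List.ofFn kids).length && (good.zip (List.ofFn kids)).all fun p => check2 κ k p.2 p.1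

/-- The search trees for the normalised functions. -/
def tree2 : Fin 3 → Tree2 :=
  ![.node 0 ![.node 2 ![.node 3 ![.node 6 ![.node 19 ![.node 5 ![.node 21 ![]]]]]], .node 2 ![.node 3 ![.node 6 ![.node 19
    ![.node 5 ![.node 21 ![]]]]]], .node 2 ![.node 3 ![.node 6 ![.node 19 ![.node 5 ![.node 7 ![.node 10 ![.node 12 ![.node
    1 ![.node 4 ![.node 9 ![.node 11 ![.node 8 ![.done]]]]]]]]]]]]], .node 2 ![.node 3 ![.node 6 ![.node 19 ![.node 5
    ![.node 21 ![]]]]]]],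
    .node 0 ![.node 2 ![.node 3 ![.node 6 ![.node 19 ![.node 5 ![.node 21 ![]]]]]], .node 2 ![.node 3 ![.node 6 ![.node 19
    ![.node 5 ![.node 21 ![]]]]]], .node 2 ![.node 3 ![.node 6 ![.node 19 ![.node 5 ![.node 21 ![]]]]]], .node 2 ![.node 3
    ![.node 6 ![.node 19 ![.node 5 ![.node 7 ![.node 10 ![.node 12 ![.node 1 ![.node 4 ![.node 9 ![.node 11 ![.node 8
    ![.done]]]]]]]]]]]]]],
    .node 0 ![.node 2 ![.node 3 ![.node 6 ![.node 19 ![.node 5 ![.node 21 ![]]]]]], .node 2 ![.node 3 ![.node 6 ![.node 19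
    ![.node 5 ![.node 7 ![.node 10 ![.node 12 ![.node 1 ![.node 4 ![.node 9 ![.node 11 ![.node 8 ![.done]]]]]]]]]]]]],
    .node 2 ![.node 3 ![.node 6 ![.node 19 ![.node 5 ![.node 21 ![]]]]]], .node 2 ![.node 3 ![.node 6 ![.node 19 ![.node 5
    ![.node 21 ![]]]]]]]]

/-- A vector in dimension six from its code. -/
def wvec (n : ℕ) : Fin 6 → Fin 4 :=
  ![dig n 0, add4 (dig n 0) 1, dig n 1, dig n 2, dig n 3, dig n 4]

/-- The form in dimension six. -/
def h6 (x u : Fin 6 → Fin 4) : Fin 4 :=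
  add4 (add4 (add4 (mul4 (x 0) (sqr (u 0))) (mul4 (x 1) (sqr (u 1))))
    (add4 (mul4 (x 2) (sqr (u 2))) (mul4 (x 3) (sqr (u 3))))) (add4 (mul4 (x 4) (sqr (u 4))) (mul4 (x 5) (sqr (u 5))))

/-- A transvection in dimension six. -/
def tv6 (u x : Fin 6 → Fin 4) : Fin 6 → Fin 4 := fun k => add4 (x k) (mul4 (h6 x u) (u k))

/-- The point over a position. -/
def ptv (κ : Fin 3) (j : Fin 45) : Fin 6 → Fin 4 :=
  ![sol κ j, sol κ j, pts45 j 0, pts45 j 1, pts45 j 2, pts45 j 3]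

/-- A digit of a code. -/
def d4 (n : ℕ) : Fin 4 := ⟨n % 4, Nat.mod_lt _ (by omega)⟩

/-- The vector of a code. -/
def dig6 (n : ℕ) : Fin 6 → Fin 4 := ![d4 n, d4 (n / 4), d4 (n / 16), d4 (n / 64), d4 (n / 256), d4 (n / 1024)]

/-- The codes of the points over the positions. -/
def ptvList : Fin 3 → List ℕ :=
  ![[1280, 2304, 3328, 1088, 2112, 3136, 320, 576, 832, 1040, 2064, 3088, 272, 528, 784, 80, 1365, 2394, 3423,
    1626, 2655, 3669, 1887, 2901, 3930, 144, 1434, 2463, 3477, 1695, 2709, 3738, 1941, 2970, 3999, 208, 1503,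
    2517, 3546, 1749, 2778, 3807, 2010, 3039, 4053],
    [1280, 2304, 3328, 1088, 2112, 3136, 320, 576, 832, 1040, 2064, 3088, 272, 528, 784, 80, 1370, 2399, 3413,
    1631, 2645, 3674, 1877, 2906, 3935, 144, 1439, 2453, 3482, 1685, 2714, 3743, 1946, 2975, 3989, 208, 1493,
    2522, 3551, 1754, 2783, 3797, 2015, 3029, 4058],
    [1280, 2304, 3328, 1088, 2112, 3136, 320, 576, 832, 1040, 2064, 3088, 272, 528, 784, 80, 1375, 2389, 3418,
    1621, 2650, 3679, 1882, 2911, 3925, 144, 1429, 2458, 3487, 1690, 2719, 3733, 1951, 2965, 3994, 208, 1498,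
    2527, 3541, 1759, 2773, 3802, 2005, 3034, 4063]]

/-- The point over a position, from its code. -/
def ptvc (κ : Fin 3) (j : Fin 45) : Fin 6 → Fin 4 := dig6 ((ptvList κ).getD j.val 0)

/-- The action of a word in the points over the positions. -/
def act6 (κ : Fin 3) (w : List (Fin 45)) (x : Fin 6 → Fin 4) : Fin 6 → Fin 4 :=
  w.foldr (fun j y => tv6 (ptvc κ j) y) x

/-- The positions whose points commute with a vector. -/
def agree (κ : Fin 3) (n : ℕ) (j : Fin 45) : Bool := h6 (ptvc κ j) (wvec n) == 0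

/-- The codes of the points of the configurations. -/
def pts126List : Fin 3 → List ℕ :=
  ![[5, 9, 1365, 2304, 1088, 80, 3573, 13, 2733, 1629, 2901, 2469, 832, 2805, 1040, 4089, 2985, 3501, 769, 516,
    3933, 1941, 3837, 784, 3765, 1785, 772, 513, 1449, 2541, 3417, 1025, 3076, 2649, 2013, 1893, 1881, 3813,
    3705, 3069, 257, 1028, 260, 3073, 1533, 2409, 2493, 1497, 65, 196, 1689, 1917, 3801, 4029, 1701, 2049, 68,
    2052, 193, 4005, 3453, 2457, 1401, 3033, 17, 52, 3993, 1641, 4077, 2661, 1725, 2037, 3753, 129, 1965, 20,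
    2397, 132, 2553, 49, 3045, 3669, 2685, 3549, 2937, 3945, 2709, 1773, 3957, 3429, 1280, 2793, 33, 2925, 1437,
    36, 3513, 1509, 2997, 1749, 3328, 2781, 1977, 2025, 4053, 3477, 3693, 1653, 320, 3088, 144, 3561, 2745,
    2973, 1389, 208, 1461, 2064, 576, 3741, 272, 3136, 2517, 528, 2112, 2421],
    [5, 9, 4085, 2304, 1088, 80, 2981, 13, 1373, 3581, 1781, 1877, 832, 1445, 1040, 2729, 1625, 2909, 513, 260,
    2813, 3701, 2477, 784, 2405, 3497, 516, 257, 3929, 1949, 3065, 3073, 2052, 1529, 3773, 3797, 3833, 2453,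
    2537, 1709, 769, 3076, 772, 2049, 4013, 2009, 1901, 4025, 193, 132, 3449, 3821, 2489, 2669, 3413, 1025, 196,
    1028, 129, 2645, 3053, 1913, 4073, 1721, 49, 36, 2681, 3545, 2717, 1493, 3437, 3749, 2393, 65, 3677, 52,
    2045, 68, 1961, 33, 1685, 2549, 1517, 3005, 1769, 2777, 1397, 3485, 2789, 3029, 1280, 1433, 17, 1757, 3965,
    20, 2921, 3989, 1637, 3509, 3328, 1469, 3689, 3737, 2741, 2933, 2525, 3557, 320, 3088, 144, 2969, 1385,
    1661, 4061, 208, 3941, 2064, 576, 2429, 272, 3136, 1973, 528, 2112, 2021],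
    [5, 9, 2725, 2304, 1088, 80, 1621, 13, 4093, 2989, 3493, 3829, 832, 3925, 1040, 1369, 3577, 1789, 257, 772,
    1453, 2533, 1885, 784, 2005, 2905, 260, 769, 2809, 3709, 1705, 2049, 1028, 4009, 2413, 2485, 2473, 1909,
    1945, 3421, 513, 2052, 516, 1025, 2653, 3769, 3805, 2665, 129, 68, 3049, 2461, 1897, 1501, 3061, 3073, 132,
    3076, 65, 1525, 1693, 3817, 2713, 3433, 33, 20, 1513, 3001, 1405, 4021, 3037, 2389, 2041, 193, 2557, 36,
    3757, 196, 3673, 17, 3445, 1957, 3997, 1645, 3481, 1465, 4069, 2941, 1429, 1717, 1280, 3961, 49, 3517, 2797,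
    52, 1753, 2677, 3541, 2917, 3328, 3949, 2521, 2425, 1381, 1765, 1981, 2965, 320, 3088, 144, 1657, 4057,
    3565, 2749, 208, 2773, 2064, 576, 2029, 272, 3136, 3685, 528, 2112, 3733]]

/-- The points of the configurations. -/
def pts126 (κ : Fin 3) (i : Fin 126) : Fin 6 → Fin 4 := dig6 ((pts126List κ).getD i.val 0)

/-- The index of the standard point. -/
def busIdx : Fin 3 → Fin 126 := ![0, 0, 0]

/-- The indices of the points over the positions, with scalars. -/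
def yIdx : Fin 3 → Fin 45 → Fin 126 × Fin 4 :=
  ![![(90, 1), (3, 1), (100, 1), (4, 1), (124, 1), (121, 1), (108, 1), (118, 1), (12, 1), (14, 1), (117, 1), (109,
    1), (120, 1), (123, 1), (23, 1), (5, 1), (2, 1), (71, 2), (54, 3), (6, 2), (59, 3), (81, 1), (11, 3), (10,
    1), (13, 2), (110, 1), (88, 2), (37, 3), (105, 1), (80, 3), (86, 1), (125, 2), (21, 1), (107, 2), (97, 3),
    (115, 1), (69, 3), (122, 1), (98, 2), (99, 1), (116, 2), (35, 3), (24, 2), (89, 3), (104, 1)],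
    ![(90, 1), (3, 1), (100, 1), (4, 1), (124, 1), (121, 1), (108, 1), (118, 1), (12, 1), (14, 1), (117, 1), (109,
    1), (120, 1), (123, 1), (23, 1), (5, 1), (2, 2), (71, 3), (54, 1), (6, 3), (59, 1), (81, 2), (11, 1), (10,
    2), (13, 3), (110, 1), (88, 3), (37, 1), (105, 2), (80, 1), (86, 2), (125, 3), (21, 2), (107, 3), (97, 1),
    (115, 1), (69, 1), (122, 2), (98, 3), (99, 2), (116, 3), (35, 1), (24, 3), (89, 1), (104, 2)],
    ![(90, 1), (3, 1), (100, 1), (4, 1), (124, 1), (121, 1), (108, 1), (118, 1), (12, 1), (14, 1), (117, 1), (109,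
    1), (120, 1), (123, 1), (23, 1), (5, 1), (2, 3), (71, 1), (54, 2), (6, 1), (59, 2), (81, 3), (11, 2), (10,
    3), (13, 1), (110, 1), (88, 1), (37, 2), (105, 3), (80, 2), (86, 3), (125, 1), (21, 3), (107, 1), (97, 2),
    (115, 1), (69, 2), (122, 3), (98, 1), (99, 3), (116, 1), (35, 2), (24, 1), (89, 2), (104, 3)]]

/-- The vectors agreeing eighteen times, with index and scalar. -/
def goods : Fin 3 → List (ℕ × Fin 126 × Fin 4) :=
  ![[(2, 1, 2), (3, 7, 3), (4, 75, 1), (5, 64, 1), (8, 95, 1), (9, 92, 1), (12, 65, 1), (13, 79, 1), (16, 56, 1),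
    (17, 48, 1), (32, 77, 1), (33, 73, 1), (48, 49, 1), (49, 58, 1), (64, 42, 1), (65, 40, 1), (128, 19, 1),
    (129, 27, 1), (192, 26, 1), (193, 18, 1), (256, 41, 1), (257, 31, 1), (342, 15, 2), (343, 8, 3), (366, 85,
    2), (367, 101, 3), (378, 66, 2), (379, 82, 3), (414, 111, 2), (415, 113, 3), (426, 30, 2), (427, 39, 3),
    (438, 96, 2), (439, 93, 3), (474, 52, 2), (475, 46, 3), (486, 38, 2), (487, 29, 3), (510, 72, 2), (511, 76,
    3), (512, 57, 1), (513, 55, 1), (606, 103, 2), (607, 119, 3), (618, 36, 2), (619, 22, 3), (630, 102, 2),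
    (631, 106, 3), (666, 47, 2), (667, 53, 3), (678, 62, 2), (679, 68, 3), (702, 28, 2), (703, 20, 3), (726, 25,
    2), (727, 17, 3), (750, 67, 2), (751, 83, 3), (762, 50, 2), (763, 60, 3), (768, 32, 1), (769, 43, 1), (858,
    63, 2), (859, 70, 3), (870, 84, 2), (871, 87, 3), (894, 16, 2), (895, 9, 3), (918, 78, 2), (919, 74, 3),
    (942, 45, 2), (943, 34, 3), (954, 61, 2), (955, 51, 3), (990, 91, 2), (991, 94, 3), (1002, 33, 2), (1003,
    44, 3), (1014, 112, 2), (1015, 114, 3)],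
    [(2, 1, 2), (3, 7, 3), (4, 95, 1), (5, 92, 1), (8, 65, 1), (9, 79, 1), (12, 75, 1), (13, 64, 1), (16, 77, 1),
    (17, 73, 1), (32, 49, 1), (33, 58, 1), (48, 56, 1), (49, 48, 1), (64, 19, 1), (65, 27, 1), (128, 26, 1),
    (129, 18, 1), (192, 42, 1), (193, 40, 1), (256, 57, 1), (257, 55, 1), (350, 62, 2), (351, 68, 3), (362, 28,
    2), (363, 20, 3), (374, 47, 2), (375, 53, 3), (410, 67, 2), (411, 83, 3), (422, 50, 2), (423, 60, 3), (446,
    25, 2), (447, 17, 3), (470, 36, 2), (471, 22, 3), (494, 102, 2), (495, 106, 3), (506, 103, 2), (507, 119,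
    3), (512, 32, 1), (513, 43, 1), (602, 45, 2), (603, 34, 3), (614, 61, 2), (615, 51, 3), (638, 78, 2), (639,
    74, 3), (662, 33, 2), (663, 44, 3), (686, 112, 2), (687, 114, 3), (698, 91, 2), (699, 94, 3), (734, 84, 2),
    (735, 87, 3), (746, 16, 2), (747, 9, 3), (758, 63, 2), (759, 70, 3), (768, 41, 1), (769, 31, 1), (854, 30,
    2), (855, 39, 3), (878, 96, 2), (879, 93, 3), (890, 111, 2), (891, 113, 3), (926, 38, 2), (927, 29, 3),
    (938, 72, 2), (939, 76, 3), (950, 52, 2), (951, 46, 3), (986, 85, 2), (987, 101, 3), (998, 66, 2), (999, 82,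
    3), (1022, 15, 2), (1023, 8, 3)],
    [(2, 1, 2), (3, 7, 3), (4, 65, 1), (5, 79, 1), (8, 75, 1), (9, 64, 1), (12, 95, 1), (13, 92, 1), (16, 49, 1),
    (17, 58, 1), (32, 56, 1), (33, 48, 1), (48, 77, 1), (49, 73, 1), (64, 26, 1), (65, 18, 1), (128, 42, 1),
    (129, 40, 1), (192, 19, 1), (193, 27, 1), (256, 32, 1), (257, 43, 1), (346, 112, 2), (347, 114, 3), (358,
    91, 2), (359, 94, 3), (382, 33, 2), (383, 44, 3), (406, 16, 2), (407, 9, 3), (430, 63, 2), (431, 70, 3),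
    (442, 84, 2), (443, 87, 3), (478, 61, 2), (479, 51, 3), (490, 78, 2), (491, 74, 3), (502, 45, 2), (503, 34,
    3), (512, 41, 1), (513, 31, 1), (598, 72, 2), (599, 76, 3), (622, 52, 2), (623, 46, 3), (634, 38, 2), (635,
    29, 3), (670, 66, 2), (671, 82, 3), (682, 15, 2), (683, 8, 3), (694, 85, 2), (695, 101, 3), (730, 96, 2),
    (731, 93, 3), (742, 111, 2), (743, 113, 3), (766, 30, 2), (767, 39, 3), (768, 57, 1), (769, 55, 1), (862,
    50, 2), (863, 60, 3), (874, 25, 2), (875, 17, 3), (886, 67, 2), (887, 83, 3), (922, 102, 2), (923, 106, 3),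
    (934, 103, 2), (935, 119, 3), (958, 36, 2), (959, 22, 3), (982, 28, 2), (983, 20, 3), (1006, 47, 2), (1007,
    53, 3), (1018, 62, 2), (1019, 68, 3)]]

/-- The base vector of the large orbit. -/
def rootCode : Fin 3 → ℕ := ![322, 322, 322]

/-- The other vectors, with words leading to the base vector. -/
def bads : Fin 3 → List (ℕ × List (Fin 45)) :=
  ![[(22, [3, 12]), (23, [16]), (26, [3, 14]), (27, [3, 5, 43]), (30, [3, 13]), (31, [3, 4, 31]), (38, [5, 12]),
    (39, [3, 5, 28]), (42, [5, 14]), (43, [3, 4, 22]), (46, [5, 13]), (47, [40]), (54, [4, 12]), (55, [3, 4,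
    37]), (58, [4, 14]), (59, [34]), (62, [4, 13]), (63, [3, 5, 19]), (70, [9]), (71, [6, 16]), (74, [11]), (75,
    [7, 34]), (78, [10]), (79, [8, 40]), (82, [3]), (83, [12, 16]), (84, [2, 24]), (85, [1, 20]), (88, [1, 7,
    32]), (89, [7, 24]), (92, [8, 20]), (93, [2, 8, 39]), (98, [5]), (99, [13, 40]), (100, [1, 6, 17]), (101,
    [6, 36]), (104, [7, 44]), (105, [2, 7, 33]), (108, [2, 36]), (109, [1, 44]), (114, [4]), (115, [14, 34]),
    (116, [6, 26]), (117, [2, 6, 18]), (120, [2, 30]), (121, [1, 26]), (124, [1, 8, 41]), (125, [8, 30]), (134,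
    [2, 11]), (135, [7, 39]), (138, [2, 10]), (139, [8, 18]), (142, [2, 9]), (143, [6, 33]), (146, [2, 5]),
    (147, [13, 33]), (148, [1, 17]), (149, [22]), (152, [8, 28]), (153, [2, 8, 17]), (156, [2, 6, 22]), (157,
    [1, 6, 44]), (162, [2, 4]), (163, [14, 18]), (164, [7, 19]), (165, [2, 7, 41]), (168, [2, 8, 37]), (169, [1,
    8, 26]), (172, [1, 41]), (173, [37]), (178, [2, 3]), (179, [12, 39]), (180, [2, 7, 31]), (181, [1, 7, 20]),
    (184, [1, 32]), (185, [31]), (188, [6, 43]), (189, [2, 6, 32]), (198, [1, 10]), (199, [8, 32]), (202, [1,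
    9]), (203, [6, 41]), (206, [1, 11]), (207, [7, 17]), (210, [1, 4]), (211, [14, 41]), (212, [19]), (213, [2,
    18]), (216, [2, 6, 30]), (217, [1, 6, 19]), (220, [1, 7, 18]), (221, [7, 37]), (226, [1, 3]), (227, [12,
    32]), (228, [2, 8, 24]), (229, [1, 8, 43]), (232, [1, 6, 39]), (233, [6, 31]), (236, [43]), (237, [2, 39]),
    (242, [1, 5]), (243, [13, 17]), (244, [1, 8, 33]), (245, [8, 22]), (248, [28]), (249, [2, 33]), (252, [2, 7,
    36]), (253, [1, 7, 28]), (262, [12]), (263, [3, 16]), (266, [14]), (267, [4, 34]), (270, [13]), (271, [5,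
    40]), (274, [6]), (275, [9, 16]), (276, [1, 24]), (277, [2, 20]), (280, [2, 4, 28]), (281, [4, 24]), (284,
    [5, 20]), (285, [1, 5, 37]), (290, [8]), (291, [10, 40]), (292, [2, 3, 19]), (293, [3, 36]), (296, [4, 44]),
    (297, [1, 4, 31]), (300, [1, 36]), (301, [2, 44]), (306, [7]), (307, [11, 34]), (308, [3, 26]), (309, [1, 3,
    22]), (312, [1, 30]), (313, [2, 26]), (316, [2, 5, 43]), (317, [5, 30]), (322, []), (323, [1, 17, 22]),
    (324, [24, 26]), (325, [20, 36]), (328, [16, 30]), (329, [24, 40]), (332, [20, 34]), (333, [16, 44]), (336,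
    [24, 44]), (337, [20, 30]), (346, [5, 28, 31]), (347, [1, 5, 18]), (350, [4, 37, 43]), (351, [1, 7, 19]),
    (352, [16, 36]), (353, [24, 34]), (358, [4, 16, 19]), (359, [1, 4, 39]), (362, [3, 28, 34]), (363, [1, 6,
    43]), (368, [20, 40]), (369, [16, 26]), (374, [5, 16, 22]), (375, [1, 8, 28]), (382, [3, 37, 40]), (383, [1,
    3, 33]), (386, [6, 7]), (387, [3, 13, 33]), (388, [1, 3, 26]), (389, [3, 22]), (392, [1, 4, 44]), (393, [4,
    31]), (396, [1, 5, 20]), (397, [5, 37]), (400, [1, 9, 44]), (401, [9, 22]), (406, [1, 26, 37]), (407, [4,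
    32]), (410, [39, 41]), (411, [1, 43]), (416, [1, 10, 26]), (417, [10, 37]), (422, [32, 34]), (423, [1, 28]),
    (430, [1, 20, 31]), (431, [3, 17]), (432, [1, 11, 20]), (433, [11, 31]), (442, [1, 20, 37]), (443, [5, 41]),
    (446, [16, 18]), (447, [1, 19]), (450, [6, 8]), (451, [3, 14, 41]), (452, [3, 19]), (453, [2, 3, 36]), (456,
    [4, 28]), (457, [2, 4, 24]), (460, [5, 43]), (461, [2, 5, 30]), (464, [9, 19]), (465, [2, 9, 30]), (470, [2,
    28, 36]), (471, [5, 39]), (478, [32, 33]), (479, [2, 31]), (480, [10, 43]), (481, [2, 10, 24]), (490, [16,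
    17]), (491, [2, 22]), (494, [2, 19, 30]), (495, [4, 33]), (496, [11, 28]), (497, [2, 11, 36]), (502, [39,
    40]), (503, [2, 37]), (506, [2, 19, 36]), (507, [3, 18]), (518, [1, 14]), (519, [4, 37]), (522, [1, 13]),
    (523, [5, 22]), (526, [1, 12]), (527, [3, 31]), (530, [1, 8]), (531, [10, 31]), (532, [2, 19]), (533, [18]),
    (536, [5, 32]), (537, [1, 5, 19]), (540, [1, 3, 18]), (541, [2, 3, 44]), (546, [1, 7]), (547, [11, 22]),
    (548, [4, 17]), (549, [1, 4, 43]), (552, [1, 5, 39]), (553, [2, 5, 26]), (556, [2, 43]), (557, [39]), (562,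
    [1, 6]), (563, [9, 37]), (564, [1, 4, 33]), (565, [2, 4, 20]), (568, [2, 28]), (569, [33]), (572, [3, 41]),
    (573, [1, 3, 28]), (578, [3, 4]), (579, [3, 13, 31]), (580, [2, 4, 33]), (581, [6, 18]), (584, [2, 5, 39]),
    (585, [7, 33]), (588, [2, 3, 18]), (589, [8, 39]), (592, [2, 10, 39]), (593, [12, 18]), (598, [2, 26, 39]),
    (599, [7, 28]), (602, [37, 43]), (603, [2, 41]), (608, [2, 11, 33]), (609, [13, 39]), (614, [28, 34]), (615,
    [2, 32]), (622, [2, 18, 26]), (623, [6, 19]), (624, [2, 9, 18]), (625, [14, 33]), (634, [2, 18, 44]), (635,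
    [8, 43]), (638, [16, 22]), (639, [2, 17]), (642, [1, 6, 8]), (643, [3, 14, 36]), (644, [1, 4, 17]), (645,
    [4, 43]), (648, [1, 5, 32]), (649, [5, 19]), (652, [1, 3, 41]), (653, [3, 28]), (656, [1, 10, 17]), (657,
    [10, 28]), (662, [28, 41]), (663, [1, 3, 37]), (670, [30, 34]), (671, [26]), (672, [1, 11, 41]), (673, [11,
    19]), (682, [16, 24]), (683, [20]), (686, [17, 28]), (687, [1, 5, 31]), (688, [1, 9, 32]), (689, [9, 43]),
    (694, [36, 40]), (695, [44]), (698, [17, 43]), (699, [1, 4, 22]), (706, [1]), (707, [17, 22]), (708, [4,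
    40]), (709, [8, 34]), (712, [5, 16]), (713, [6, 40]), (716, [3, 34]), (717, [7, 16]), (720, [10, 34]), (721,
    [14, 40]), (730, [3, 16, 26]), (731, [7, 20]), (734, [5, 28, 41]), (735, [5, 24]), (736, [11, 16]), (737,
    [12, 34]), (742, [4, 16, 24]), (743, [6, 44]), (746, [4, 19, 32]), (747, [4, 36]), (752, [9, 40]), (753,
    [13, 16]), (758, [3, 17, 43]), (759, [3, 30]), (766, [3, 22, 33]), (767, [8, 26]), (774, [2, 13]), (775, [5,
    28]), (778, [2, 12]), (779, [3, 43]), (782, [2, 14]), (783, [4, 19]), (786, [2, 7]), (787, [11, 43]), (788,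
    [17]), (789, [1, 22]), (792, [1, 3, 30]), (793, [2, 3, 17]), (796, [2, 4, 22]), (797, [4, 39]), (802, [2,
    6]), (803, [9, 28]), (804, [1, 5, 24]), (805, [2, 5, 41]), (808, [2, 3, 37]), (809, [3, 33]), (812, [41]),
    (813, [1, 37]), (818, [2, 8]), (819, [10, 19]), (820, [2, 5, 31]), (821, [5, 18]), (824, [32]), (825, [1,
    31]), (828, [1, 4, 36]), (829, [2, 4, 32]), (834, [3, 5]), (835, [3, 14, 43]), (836, [6, 17]), (837, [1, 5,
    41]), (840, [7, 32]), (841, [1, 3, 17]), (844, [8, 41]), (845, [1, 4, 32]), (848, [12, 17]), (849, [1, 11,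
    32]), (854, [1, 30, 41]), (855, [8, 37]), (862, [28, 31]), (863, [1, 33]), (864, [13, 41]), (865, [1, 9,
    17]), (874, [16, 19]), (875, [1, 18]), (878, [1, 17, 30]), (879, [7, 31]), (880, [14, 32]), (881, [1, 10,
    41]), (886, [37, 40]), (887, [1, 39]), (890, [1, 17, 36]), (891, [6, 22]), (898, [2]), (899, [18, 19]),
    (900, [7, 40]), (901, [5, 34]), (904, [8, 16]), (905, [3, 40]), (908, [6, 34]), (909, [4, 16]), (912, [13,
    34]), (913, [11, 40]), (922, [4, 33, 37]), (923, [4, 20]), (926, [3, 16, 36]), (927, [8, 24]), (928, [14,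
    16]), (929, [9, 34]), (934, [3, 18, 31]), (935, [3, 44]), (938, [3, 19, 41]), (939, [7, 36]), (944, [12,
    40]), (945, [10, 16]), (950, [4, 24, 44]), (951, [6, 30]), (958, [5, 22, 39]), (959, [5, 26]), (962, [1, 3,
    4]), (963, [3, 13, 26]), (964, [5, 31]), (965, [1, 8, 22]), (968, [3, 37]), (969, [1, 6, 31]), (972, [4,
    22]), (973, [1, 7, 37]), (976, [11, 37]), (977, [1, 14, 22]), (982, [31, 39]), (983, [1, 6, 32]), (986, [40,
    44]), (987, [36]), (992, [9, 31]), (993, [1, 12, 37]), (998, [26, 34]), (999, [30]), (1006, [18, 31]),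
    (1007, [1, 8, 17]), (1008, [10, 22]), (1009, [1, 13, 31]), (1018, [18, 37]), (1019, [1, 7, 41]), (1022, [16,
    20]), (1023, [24])],
    [(22, [3, 12]), (23, [3, 5, 18]), (26, [3, 14]), (27, [3, 4, 42]), (30, [3, 13]), (31, [30]), (38, [5, 12]),
    (39, [3, 4, 27]), (42, [5, 14]), (43, [24]), (46, [5, 13]), (47, [3, 5, 39]), (54, [4, 12]), (55, [36]),
    (58, [4, 14]), (59, [3, 5, 33]), (62, [4, 13]), (63, [3, 4, 21]), (70, [9]), (71, [7, 36]), (74, [11]), (75,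
    [8, 24]), (78, [10]), (79, [6, 30]), (82, [3]), (83, [13, 30]), (84, [1, 7, 37]), (85, [7, 26]), (88, [8,
    34]), (89, [2, 8, 23]), (92, [2, 26]), (93, [1, 34]), (98, [5]), (99, [14, 24]), (100, [7, 16]), (101, [2,
    7, 38]), (104, [2, 20]), (105, [1, 16]), (108, [1, 6, 31]), (109, [6, 20]), (114, [4]), (115, [12, 36]),
    (116, [2, 44]), (117, [1, 40]), (120, [1, 8, 22]), (121, [8, 44]), (124, [6, 40]), (125, [2, 6, 29]), (134,
    [2, 11]), (135, [8, 29]), (138, [2, 10]), (139, [6, 38]), (142, [2, 9]), (143, [7, 23]), (146, [2, 5]),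
    (147, [14, 38]), (148, [8, 39]), (149, [2, 8, 31]), (152, [2, 6, 27]), (153, [1, 6, 16]), (156, [1, 31]),
    (157, [27]), (162, [2, 4]), (163, [12, 29]), (164, [2, 8, 21]), (165, [1, 8, 40]), (168, [1, 22]), (169,
    [21]), (172, [7, 33]), (173, [2, 7, 22]), (178, [2, 3]), (179, [13, 23]), (180, [1, 37]), (181, [42]), (184,
    [6, 18]), (185, [2, 6, 37]), (188, [2, 7, 42]), (189, [1, 7, 34]), (198, [1, 10]), (199, [6, 22]), (202, [1,
    9]), (203, [7, 31]), (206, [1, 11]), (207, [8, 37]), (210, [1, 4]), (211, [12, 22]), (212, [2, 6, 44]),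
    (213, [1, 6, 33]), (216, [1, 7, 29]), (217, [7, 21]), (220, [33]), (221, [2, 29]), (226, [1, 3]), (227, [13,
    37]), (228, [1, 6, 23]), (229, [6, 42]), (232, [18]), (233, [2, 23]), (236, [2, 8, 26]), (237, [1, 8, 18]),
    (242, [1, 5]), (243, [14, 31]), (244, [39]), (245, [2, 38]), (248, [2, 7, 20]), (249, [1, 7, 39]), (252, [1,
    8, 38]), (253, [8, 27]), (262, [12]), (263, [4, 36]), (266, [14]), (267, [5, 24]), (270, [13]), (271, [3,
    30]), (274, [6]), (275, [10, 30]), (276, [2, 4, 39]), (277, [4, 26]), (280, [5, 34]), (281, [1, 5, 21]),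
    (284, [1, 26]), (285, [2, 34]), (290, [8]), (291, [11, 24]), (292, [4, 16]), (293, [1, 4, 42]), (296, [1,
    20]), (297, [2, 16]), (300, [2, 3, 33]), (301, [3, 20]), (306, [7]), (307, [9, 36]), (308, [1, 44]), (309,
    [2, 40]), (312, [2, 5, 18]), (313, [5, 44]), (316, [3, 40]), (317, [1, 3, 27]), (322, []), (323, [1, 21,
    22]), (324, [16, 30]), (325, [24, 40]), (328, [20, 34]), (329, [16, 44]), (332, [24, 26]), (333, [20, 36]),
    (336, [16, 36]), (337, [24, 34]), (342, [5, 36, 39]), (343, [1, 5, 29]), (346, [4, 18, 24]), (347, [1, 7,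
    33]), (352, [20, 40]), (353, [16, 26]), (358, [3, 36, 42]), (359, [1, 6, 18]), (366, [4, 27, 30]), (367, [1,
    4, 23]), (368, [24, 44]), (369, [20, 30]), (378, [3, 18, 21]), (379, [1, 3, 38]), (382, [5, 27, 33]), (383,
    [1, 8, 39]), (386, [6, 7]), (387, [3, 14, 38]), (388, [1, 4, 16]), (389, [4, 42]), (392, [1, 5, 34]), (393,
    [5, 21]), (396, [1, 3, 40]), (397, [3, 27]), (400, [1, 10, 16]), (401, [10, 27]), (406, [22, 24]), (407, [1,
    18]), (414, [1, 16, 42]), (415, [4, 37]), (416, [1, 11, 40]), (417, [11, 21]), (426, [1, 27, 40]), (427, [3,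
    31]), (430, [36, 38]), (431, [1, 39]), (432, [1, 9, 34]), (433, [9, 42]), (438, [1, 16, 27]), (439, [5,
    22]), (442, [29, 31]), (443, [1, 33]), (450, [6, 8]), (451, [3, 12, 22]), (452, [4, 39]), (453, [2, 4, 26]),
    (456, [5, 18]), (457, [2, 5, 44]), (460, [3, 33]), (461, [2, 3, 20]), (464, [10, 33]), (465, [2, 10, 44]),
    (474, [36, 37]), (475, [2, 42]), (478, [2, 18, 44]), (479, [5, 23]), (480, [11, 18]), (481, [2, 11, 26]),
    (486, [29, 30]), (487, [2, 27]), (490, [2, 26, 39]), (491, [4, 38]), (496, [9, 39]), (497, [2, 9, 20]),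
    (502, [2, 18, 26]), (503, [3, 29]), (510, [22, 23]), (511, [2, 21]), (518, [1, 14]), (519, [5, 27]), (522,
    [1, 13]), (523, [3, 42]), (526, [1, 12]), (527, [4, 21]), (530, [1, 8]), (531, [11, 42]), (532, [5, 37]),
    (533, [1, 5, 33]), (536, [1, 3, 29]), (537, [2, 3, 16]), (540, [2, 33]), (541, [29]), (546, [1, 7]), (547,
    [9, 27]), (548, [1, 5, 23]), (549, [2, 5, 40]), (552, [2, 18]), (553, [23]), (556, [4, 31]), (557, [1, 4,
    18]), (562, [1, 6]), (563, [10, 21]), (564, [2, 39]), (565, [38]), (568, [3, 22]), (569, [1, 3, 39]), (572,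
    [1, 4, 38]), (573, [2, 4, 34]), (578, [3, 4]), (579, [3, 14, 42]), (580, [2, 5, 23]), (581, [7, 38]), (584,
    [2, 3, 29]), (585, [8, 23]), (588, [2, 4, 38]), (589, [6, 29]), (592, [2, 11, 23]), (593, [13, 29]), (598,
    [18, 24]), (599, [2, 22]), (606, [2, 16, 38]), (607, [7, 39]), (608, [2, 9, 38]), (609, [14, 23]), (618, [2,
    29, 40]), (619, [6, 33]), (622, [36, 42]), (623, [2, 37]), (624, [2, 10, 29]), (625, [12, 38]), (630, [2,
    16, 29]), (631, [8, 18]), (634, [27, 33]), (635, [2, 31]), (642, [1, 6, 8]), (643, [3, 12, 20]), (644, [1,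
    5, 37]), (645, [5, 33]), (648, [1, 3, 22]), (649, [3, 39]), (652, [1, 4, 31]), (653, [4, 18]), (656, [1, 11,
    31]), (657, [11, 39]), (666, [36, 44]), (667, [40]), (670, [18, 37]), (671, [1, 3, 21]), (672, [1, 9, 22]),
    (673, [9, 33]), (678, [26, 30]), (679, [34]), (682, [31, 39]), (683, [1, 5, 42]), (688, [1, 10, 37]), (689,
    [10, 18]), (694, [18, 31]), (695, [1, 4, 27]), (702, [20, 24]), (703, [16]), (706, [1]), (707, [21, 22]),
    (708, [5, 30]), (709, [6, 24]), (712, [3, 36]), (713, [7, 30]), (716, [4, 24]), (717, [8, 36]), (720, [11,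
    36]), (721, [12, 24]), (726, [3, 20, 30]), (727, [7, 34]), (730, [5, 22, 39]), (731, [5, 26]), (736, [9,
    30]), (737, [13, 36]), (742, [4, 33, 37]), (743, [4, 20]), (750, [4, 23, 42]), (751, [6, 16]), (752, [10,
    24]), (753, [14, 30]), (762, [3, 20, 24]), (763, [8, 40]), (766, [3, 18, 31]), (767, [3, 44]), (774, [2,
    13]), (775, [3, 18]), (778, [2, 12]), (779, [4, 33]), (782, [2, 14]), (783, [5, 39]), (786, [2, 7]), (787,
    [9, 18]), (788, [1, 3, 44]), (789, [2, 3, 31]), (792, [2, 4, 27]), (793, [4, 23]), (796, [31]), (797, [1,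
    27]), (802, [2, 6]), (803, [10, 39]), (804, [2, 3, 21]), (805, [3, 38]), (808, [22]), (809, [1, 21]), (812,
    [1, 5, 26]), (813, [2, 5, 22]), (818, [2, 8]), (819, [11, 33]), (820, [37]), (821, [1, 42]), (824, [1, 4,
    20]), (825, [2, 4, 37]), (828, [2, 5, 42]), (829, [5, 29]), (834, [3, 5]), (835, [3, 12, 18]), (836, [7,
    37]), (837, [1, 3, 31]), (840, [8, 22]), (841, [1, 4, 37]), (844, [6, 31]), (845, [1, 5, 22]), (848, [13,
    31]), (849, [1, 9, 37]), (858, [36, 39]), (859, [1, 38]), (862, [1, 20, 37]), (863, [8, 21]), (864, [14,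
    22]), (865, [1, 10, 31]), (870, [27, 30]), (871, [1, 29]), (874, [1, 26, 37]), (875, [7, 42]), (880, [12,
    37]), (881, [1, 11, 22]), (886, [1, 20, 31]), (887, [6, 27]), (894, [18, 21]), (895, [1, 23]), (898, [2]),
    (899, [18, 23]), (900, [8, 30]), (901, [3, 24]), (904, [6, 36]), (905, [4, 30]), (908, [7, 24]), (909, [5,
    36]), (912, [14, 36]), (913, [9, 24]), (918, [4, 21, 38]), (919, [4, 34]), (922, [3, 20, 40]), (923, [8,
    26]), (928, [12, 30]), (929, [10, 36]), (934, [3, 22, 33]), (935, [7, 20]), (942, [3, 29, 42]), (943, [3,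
    16]), (944, [13, 24]), (945, [11, 30]), (954, [5, 23, 27]), (955, [5, 40]), (958, [4, 16, 36]), (959, [6,
    44]), (962, [1, 3, 4]), (963, [3, 14, 40]), (964, [3, 21]), (965, [1, 6, 42]), (968, [4, 27]), (969, [1, 7,
    21]), (972, [5, 42]), (973, [1, 8, 27]), (976, [9, 21]), (977, [1, 12, 27]), (982, [16, 24]), (983, [20]),
    (990, [21, 38]), (991, [1, 6, 37]), (992, [10, 42]), (993, [1, 13, 21]), (1002, [27, 38]), (1003, [1, 8,
    31]), (1006, [36, 40]), (1007, [44]), (1008, [11, 27]), (1009, [1, 14, 42]), (1014, [21, 29]), (1015, [1, 7,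
    22]), (1018, [30, 34]), (1019, [26])],
    [(22, [3, 12]), (23, [3, 4, 17]), (26, [3, 14]), (27, [44]), (30, [3, 13]), (31, [3, 5, 29]), (38, [5, 12]),
    (39, [26]), (42, [5, 14]), (43, [3, 5, 23]), (46, [5, 13]), (47, [3, 4, 41]), (54, [4, 12]), (55, [3, 5,
    38]), (58, [4, 14]), (59, [3, 4, 32]), (62, [4, 13]), (63, [20]), (70, [9]), (71, [8, 26]), (74, [11]), (75,
    [6, 44]), (78, [10]), (79, [7, 20]), (82, [3]), (83, [14, 44]), (84, [8, 36]), (85, [2, 8, 28]), (88, [2,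
    40]), (89, [1, 36]), (92, [1, 7, 21]), (93, [7, 40]), (98, [5]), (99, [12, 26]), (100, [2, 34]), (101, [1,
    30]), (104, [1, 6, 42]), (105, [6, 34]), (108, [7, 30]), (109, [2, 7, 19]), (114, [4]), (115, [13, 20]),
    (116, [1, 8, 27]), (117, [8, 16]), (120, [6, 24]), (121, [2, 6, 43]), (124, [2, 16]), (125, [1, 24]), (134,
    [2, 11]), (135, [6, 19]), (138, [2, 10]), (139, [7, 28]), (142, [2, 9]), (143, [8, 43]), (146, [2, 5]),
    (147, [12, 19]), (148, [2, 6, 41]), (149, [1, 6, 30]), (152, [1, 42]), (153, [41]), (156, [8, 23]), (157,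
    [2, 8, 42]), (162, [2, 4]), (163, [13, 43]), (164, [1, 27]), (165, [32]), (168, [7, 38]), (169, [2, 7, 27]),
    (172, [2, 8, 32]), (173, [1, 8, 24]), (178, [2, 3]), (179, [14, 28]), (180, [6, 29]), (181, [2, 6, 21]),
    (184, [2, 7, 17]), (185, [1, 7, 36]), (188, [1, 21]), (189, [17]), (198, [1, 10]), (199, [7, 42]), (202, [1,
    9]), (203, [8, 21]), (206, [1, 11]), (207, [6, 27]), (210, [1, 4]), (211, [13, 27]), (212, [1, 7, 43]),
    (213, [7, 32]), (216, [38]), (217, [2, 43]), (220, [2, 6, 16]), (221, [1, 6, 38]), (226, [1, 3]), (227, [14,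
    21]), (228, [29]), (229, [2, 28]), (232, [2, 8, 40]), (233, [1, 8, 29]), (236, [1, 6, 28]), (237, [6, 17]),
    (242, [1, 5]), (243, [12, 42]), (244, [2, 7, 34]), (245, [1, 7, 23]), (248, [1, 8, 19]), (249, [8, 41]),
    (252, [23]), (253, [2, 19]), (262, [12]), (263, [5, 26]), (266, [14]), (267, [3, 44]), (270, [13]), (271,
    [4, 20]), (274, [6]), (275, [11, 44]), (276, [5, 36]), (277, [1, 5, 32]), (280, [1, 40]), (281, [2, 36]),
    (284, [2, 4, 23]), (285, [4, 40]), (290, [8]), (291, [9, 26]), (292, [1, 34]), (293, [2, 30]), (296, [2, 3,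
    38]), (297, [3, 34]), (300, [4, 30]), (301, [1, 4, 17]), (306, [7]), (307, [10, 20]), (308, [2, 5, 29]),
    (309, [5, 16]), (312, [3, 24]), (313, [1, 3, 41]), (316, [1, 16]), (317, [2, 24]), (322, []), (323, [1, 17,
    21]), (324, [20, 34]), (325, [16, 44]), (328, [24, 26]), (329, [20, 36]), (332, [16, 30]), (333, [24, 40]),
    (336, [20, 40]), (337, [16, 26]), (342, [4, 26, 32]), (343, [1, 7, 38]), (350, [5, 17, 20]), (351, [1, 5,
    43]), (352, [24, 44]), (353, [20, 30]), (362, [4, 38, 41]), (363, [1, 4, 28]), (366, [3, 17, 23]), (367, [1,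
    6, 29]), (368, [16, 36]), (369, [24, 34]), (374, [3, 26, 29]), (375, [1, 3, 19]), (378, [5, 38, 44]), (379,
    [1, 8, 23]), (386, [6, 7]), (387, [3, 12, 19]), (388, [1, 5, 36]), (389, [5, 32]), (392, [1, 3, 24]), (393,
    [3, 41]), (396, [1, 4, 30]), (397, [4, 17]), (400, [1, 11, 30]), (401, [11, 41]), (410, [1, 17, 30]), (411,
    [4, 21]), (414, [26, 28]), (415, [1, 29]), (416, [1, 9, 24]), (417, [9, 32]), (422, [1, 17, 36]), (423, [3,
    42]), (426, [19, 21]), (427, [1, 23]), (432, [1, 10, 36]), (433, [10, 17]), (438, [42, 44]), (439, [1, 38]),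
    (446, [1, 30, 41]), (447, [5, 27]), (450, [6, 8]), (451, [3, 13, 27]), (452, [5, 29]), (453, [2, 5, 16]),
    (456, [3, 38]), (457, [2, 3, 34]), (460, [4, 23]), (461, [2, 4, 40]), (464, [11, 38]), (465, [2, 11, 16]),
    (470, [19, 20]), (471, [2, 17]), (474, [2, 16, 29]), (475, [5, 28]), (480, [9, 29]), (481, [2, 9, 40]),
    (486, [2, 16, 38]), (487, [4, 19]), (494, [42, 43]), (495, [2, 41]), (496, [10, 23]), (497, [2, 10, 34]),
    (506, [26, 27]), (507, [2, 32]), (510, [2, 29, 40]), (511, [3, 43]), (518, [1, 14]), (519, [3, 17]), (522,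
    [1, 13]), (523, [4, 32]), (526, [1, 12]), (527, [5, 41]), (530, [1, 8]), (531, [9, 17]), (532, [1, 3, 43]),
    (533, [2, 3, 30]), (536, [2, 38]), (537, [43]), (540, [5, 21]), (541, [1, 5, 38]), (546, [1, 7]), (547, [10,
    41]), (548, [2, 29]), (549, [28]), (552, [4, 42]), (553, [1, 4, 29]), (556, [1, 5, 28]), (557, [2, 5, 24]),
    (562, [1, 6]), (563, [11, 32]), (564, [3, 27]), (565, [1, 3, 23]), (568, [1, 4, 19]), (569, [2, 4, 36]),
    (572, [2, 23]), (573, [19]), (578, [3, 4]), (579, [3, 12, 17]), (580, [2, 3, 43]), (581, [8, 28]), (584, [2,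
    4, 19]), (585, [6, 43]), (588, [2, 5, 28]), (589, [7, 19]), (592, [2, 9, 28]), (593, [14, 43]), (602, [2,
    19, 30]), (603, [7, 23]), (606, [26, 32]), (607, [2, 27]), (608, [2, 10, 19]), (609, [12, 28]), (614, [2,
    19, 36]), (615, [6, 38]), (618, [17, 23]), (619, [2, 21]), (624, [2, 11, 43]), (625, [13, 19]), (630, [38,
    44]), (631, [2, 42]), (638, [2, 28, 36]), (639, [8, 29]), (642, [1, 6, 8]), (643, [3, 13, 34]), (644, [1, 3,
    27]), (645, [3, 23]), (648, [1, 4, 42]), (649, [4, 29]), (652, [1, 5, 21]), (653, [5, 38]), (656, [1, 9,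
    42]), (657, [9, 23]), (662, [16, 20]), (663, [24]), (666, [21, 29]), (667, [1, 3, 32]), (672, [1, 10, 27]),
    (673, [10, 38]), (678, [21, 38]), (679, [1, 5, 17]), (686, [40, 44]), (687, [36]), (688, [1, 11, 21]), (689,
    [11, 29]), (698, [26, 34]), (699, [30]), (702, [27, 38]), (703, [1, 4, 41]), (706, [1]), (707, [17, 21]),
    (708, [3, 20]), (709, [7, 44]), (712, [4, 26]), (713, [8, 20]), (716, [5, 44]), (717, [6, 26]), (720, [9,
    20]), (721, [13, 26]), (726, [5, 23, 27]), (727, [5, 40]), (734, [3, 24, 34]), (735, [7, 36]), (736, [10,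
    44]), (737, [14, 20]), (746, [4, 17, 28]), (747, [6, 30]), (750, [4, 21, 38]), (751, [4, 34]), (752, [11,
    26]), (753, [12, 44]), (758, [3, 19, 41]), (759, [8, 24]), (762, [3, 29, 42]), (763, [3, 16]), (774, [2,
    13]), (775, [4, 38]), (778, [2, 12]), (779, [5, 23]), (782, [2, 14]), (783, [3, 29]), (786, [2, 7]), (787,
    [10, 29]), (788, [2, 4, 41]), (789, [4, 28]), (792, [42]), (793, [1, 41]), (796, [1, 3, 16]), (797, [2, 3,
    42]), (802, [2, 6]), (803, [11, 23]), (804, [27]), (805, [1, 32]), (808, [1, 5, 40]), (809, [2, 5, 27]),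
    (812, [2, 3, 32]), (813, [3, 19]), (818, [2, 8]), (819, [9, 38]), (820, [1, 4, 34]), (821, [2, 4, 21]),
    (824, [2, 5, 17]), (825, [5, 43]), (828, [21]), (829, [1, 17]), (834, [3, 5]), (835, [3, 13, 29]), (836, [8,
    27]), (837, [1, 4, 21]), (840, [6, 42]), (841, [1, 5, 27]), (844, [7, 21]), (845, [1, 3, 42]), (848, [14,
    42]), (849, [1, 10, 21]), (854, [17, 20]), (855, [1, 19]), (858, [1, 16, 27]), (859, [8, 32]), (864, [12,
    27]), (865, [1, 11, 42]), (870, [1, 16, 42]), (871, [7, 17]), (878, [38, 41]), (879, [1, 43]), (880, [13,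
    21]), (881, [1, 9, 27]), (890, [26, 29]), (891, [1, 28]), (894, [1, 27, 40]), (895, [6, 41]), (898, [2]),
    (899, [19, 23]), (900, [6, 20]), (901, [4, 44]), (904, [7, 26]), (905, [5, 20]), (908, [8, 44]), (909, [3,
    26]), (912, [12, 20]), (913, [10, 26]), (918, [3, 24, 44]), (919, [8, 40]), (926, [4, 19, 32]), (927, [4,
    36]), (928, [13, 44]), (929, [11, 20]), (938, [3, 17, 43]), (939, [3, 30]), (942, [3, 20, 24]), (943, [7,
    34]), (944, [14, 26]), (945, [9, 44]), (950, [5, 28, 41]), (951, [5, 24]), (954, [4, 20, 40]), (955, [6,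
    16]), (962, [1, 3, 4]), (963, [3, 12, 24]), (964, [4, 41]), (965, [1, 7, 32]), (968, [5, 17]), (969, [1, 8,
    41]), (972, [3, 32]), (973, [1, 6, 17]), (976, [10, 32]), (977, [1, 13, 41]), (986, [17, 28]), (987, [1, 6,
    21]), (990, [26, 30]), (991, [34]), (992, [11, 17]), (993, [1, 14, 32]), (998, [17, 43]), (999, [1, 8, 42]),
    (1002, [20, 24]), (1003, [16]), (1008, [9, 41]), (1009, [1, 12, 17]), (1014, [36, 44]), (1015, [40]), (1022,
    [28, 41]), (1023, [1, 7, 27])]]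

/-- The set of a list of numbers, as bits. -/
def mask (l : List ℕ) : ℕ := l.foldr (fun n r => 1 <<< n ||| r) 0

/-- The generators among the reflections. -/
def gen7 (a : Fin 7) : Fin 126 := a.castLE (by omega)

/-- How the generators permute the configuration. -/
def act7 (a : Fin 7) (i : Fin 126) : Fin 126 :=
  Fin.ofNat 126 (((
  ![[0, 7, 2, 3, 4, 5, 6, 1, 15, 16, 10, 11, 12, 13, 14, 8, 9, 25, 26, 27, 28, 21, 36, 23, 24, 17, 18, 19, 20,
    38, 39, 41, 43, 44, 45, 35, 22, 37, 29, 30, 42, 31, 40, 32, 33, 34, 52, 53, 56, 58, 60, 61, 46, 47, 54, 57,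
    48, 55, 49, 59, 50, 51, 68, 70, 75, 79, 82, 83, 62, 69, 63, 71, 76, 77, 78, 64, 72, 73, 74, 65, 80, 81, 66,
    67, 87, 101, 86, 84, 88, 89, 90, 94, 95, 96, 91, 92, 93, 97, 98, 99, 100, 85, 106, 119, 104, 105, 102, 107,
    108, 109, 110, 113, 114, 111, 112, 115, 116, 117, 118, 103, 120, 121, 122, 123, 124, 125],
    [7, 1, 8, 3, 4, 5, 9, 0, 2, 6, 17, 22, 12, 20, 14, 15, 16, 10, 19, 18, 13, 29, 11, 23, 34, 25, 40, 42, 28,
    21, 30, 32, 31, 33, 24, 46, 36, 51, 38, 54, 26, 55, 27, 57, 59, 45, 35, 47, 49, 48, 50, 37, 52, 69, 39, 41,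
    73, 43, 77, 44, 80, 61, 62, 63, 65, 64, 66, 67, 86, 53, 89, 76, 72, 56, 81, 92, 71, 58, 78, 95, 60, 74, 97,
    98, 84, 85, 68, 105, 94, 70, 90, 91, 75, 99, 88, 79, 96, 82, 83, 93, 100, 116, 102, 103, 114, 87, 122, 113,
    108, 109, 110, 111, 112, 107, 104, 115, 101, 117, 118, 125, 120, 121, 106, 123, 124, 119],
    [0, 8, 2, 10, 4, 5, 11, 15, 1, 19, 3, 6, 21, 13, 14, 7, 27, 17, 22, 9, 33, 12, 18, 35, 24, 25, 36, 16, 44,
    29, 32, 31, 30, 20, 50, 23, 26, 37, 38, 43, 40, 41, 42, 39, 28, 60, 46, 49, 48, 47, 34, 67, 52, 58, 71, 72,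
    56, 76, 53, 59, 45, 83, 65, 63, 64, 62, 66, 51, 79, 88, 70, 54, 55, 91, 74, 75, 57, 94, 78, 68, 80, 100, 82,
    61, 84, 85, 104, 87, 69, 109, 90, 73, 112, 93, 77, 114, 96, 115, 98, 118, 81, 101, 102, 103, 86, 121, 106,
    123, 108, 89, 116, 111, 92, 113, 95, 97, 110, 125, 99, 119, 120, 105, 124, 107, 122, 117],
    [0, 1, 10, 3, 12, 5, 13, 7, 17, 20, 2, 11, 4, 6, 23, 25, 28, 8, 31, 32, 9, 21, 22, 14, 24, 15, 41, 43, 16,
    29, 33, 18, 19, 30, 34, 35, 36, 37, 38, 44, 55, 26, 57, 27, 39, 45, 46, 63, 48, 49, 66, 51, 52, 70, 59, 40,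
    56, 42, 58, 54, 82, 61, 84, 47, 64, 65, 50, 85, 87, 89, 53, 71, 72, 73, 74, 75, 76, 77, 78, 79, 97, 81, 60,
    101, 62, 67, 105, 68, 107, 69, 100, 111, 92, 114, 113, 95, 112, 80, 116, 104, 90, 83, 102, 103, 99, 86, 106,
    88, 124, 123, 110, 91, 96, 94, 93, 115, 98, 120, 121, 119, 117, 118, 122, 109, 108, 125],
    [0, 1, 2, 12, 4, 14, 6, 7, 8, 9, 21, 11, 3, 24, 5, 15, 16, 29, 18, 19, 34, 10, 22, 23, 13, 38, 26, 27, 45,
    17, 47, 48, 49, 50, 20, 35, 36, 37, 25, 53, 40, 56, 42, 58, 60, 28, 46, 30, 31, 32, 33, 51, 52, 39, 69, 73,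
    41, 77, 43, 80, 44, 61, 62, 66, 64, 65, 63, 67, 68, 54, 82, 88, 91, 55, 93, 75, 94, 57, 96, 79, 59, 99, 70,
    83, 102, 103, 86, 106, 71, 97, 108, 72, 92, 74, 76, 95, 78, 89, 98, 81, 118, 119, 84, 85, 104, 122, 87, 107,
    90, 115, 117, 111, 112, 113, 114, 109, 125, 110, 100, 101, 120, 124, 105, 123, 121, 116],
    [0, 1, 2, 3, 14, 5, 6, 7, 8, 9, 10, 11, 23, 13, 4, 15, 16, 17, 18, 19, 20, 35, 22, 12, 37, 25, 26, 27, 28,
    46, 30, 31, 32, 33, 51, 21, 36, 24, 52, 39, 40, 41, 42, 43, 44, 61, 29, 62, 64, 65, 67, 34, 38, 68, 54, 55,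
    75, 57, 79, 59, 83, 45, 47, 84, 48, 49, 85, 50, 53, 86, 87, 71, 72, 92, 74, 56, 76, 95, 78, 58, 98, 81, 101,
    60, 63, 66, 69, 70, 104, 105, 90, 112, 73, 113, 114, 77, 111, 116, 80, 107, 100, 82, 103, 102, 88, 89, 119,
    99, 120, 121, 115, 96, 91, 93, 94, 110, 97, 124, 123, 106, 108, 109, 125, 118, 117, 122],
    [0, 9, 11, 13, 4, 5, 6, 16, 18, 1, 10, 2, 24, 3, 14, 26, 7, 30, 8, 22, 20, 21, 19, 37, 12, 39, 15, 36, 28,
    47, 17, 33, 32, 31, 34, 35, 27, 23, 53, 25, 40, 44, 42, 43, 41, 45, 62, 29, 50, 49, 48, 51, 68, 38, 54, 74,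
    60, 78, 58, 81, 56, 61, 46, 63, 67, 65, 66, 64, 52, 69, 70, 90, 72, 93, 55, 83, 76, 96, 57, 79, 99, 59, 82,
    75, 84, 85, 86, 87, 108, 110, 71, 91, 113, 73, 94, 111, 77, 117, 107, 80, 100, 101, 102, 103, 120, 115, 106,
    98, 88, 122, 89, 95, 112, 92, 114, 105, 124, 97, 118, 119, 104, 125, 109, 123, 116, 121]] : Fin 7 → List ℕ) a).getD i.val 0)

/-- The tree generating the configuration. -/
def parent : Fin 126 → Fin 7 × Fin 126 :=
  ![(0, 0), (0, 0), (0, 0), (0, 0), (0, 0), (0, 0), (0, 0), (1, 0), (2, 1), (6, 1), (3, 2), (6, 2), (4, 3),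
    (6, 3), (5, 4), (2, 7), (6, 7), (3, 8), (6, 8), (2, 9), (3, 9), (4, 10), (1, 11), (5, 12), (6, 12), (3, 15),
    (6, 15), (2, 16), (3, 16), (4, 17), (6, 17), (3, 18), (3, 19), (2, 20), (4, 20), (5, 21), (0, 22), (6, 23),
    (4, 25), (6, 25), (1, 26), (3, 26), (1, 27), (3, 27), (2, 28), (4, 28), (5, 29), (6, 29), (4, 31), (4, 32),
    (4, 33), (5, 34), (5, 38), (6, 38), (1, 39), (3, 40), (4, 41), (3, 42), (4, 43), (1, 44), (4, 44), (5, 45),
    (6, 46), (3, 47), (5, 48), (5, 49), (3, 50), (5, 50), (6, 52), (1, 53), (3, 53), (2, 54), (2, 55), (4, 55),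
    (6, 55), (5, 56), (2, 57), (4, 57), (6, 57), (5, 58), (4, 59), (6, 59), (3, 60), (5, 60), (3, 62), (5, 66),
    (1, 68), (3, 68), (2, 69), (3, 69), (6, 71), (4, 72), (5, 73), (6, 73), (4, 76), (5, 77), (6, 77), (3, 80),
    (5, 80), (6, 80), (2, 81), (5, 82), (4, 84), (4, 85), (2, 86), (3, 86), (4, 87), (3, 88), (6, 88), (2, 89),
    (6, 89), (3, 91), (5, 91), (6, 92), (3, 93), (2, 97), (5, 97), (6, 97), (2, 99), (4, 101), (6, 104), (2,
    105), (4, 105), (2, 107), (3, 108), (4, 116)]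

/-- The codes of the vectors of norm one, up to sign. -/
def rvecList : List ℕ :=
  [1, 3, 9, 27, 81, 243, 333, 7, 21, 669, 63, 657, 189, 360, 567, 16, 340, 48, 327, 651, 723, 144, 345, 432,
    279, 70, 655, 331, 367, 210, 687, 381, 678, 714, 561, 630, 664, 522, 151, 403, 649, 682, 325, 385, 376, 286,
    453, 606, 462, 597, 552, 318, 637, 484, 400, 676, 601, 379, 466, 373, 295, 529, 120, 579, 219, 111, 498,
    309, 241, 481, 430, 391, 694, 595, 37, 115, 388, 460, 73, 223, 292, 40, 268, 538, 93, 255, 238, 187, 472,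
    427, 58, 613, 109, 199, 469, 217, 154, 265, 535, 202, 31, 511, 174, 417, 229, 184, 106, 445, 139, 409, 490,
    640, 127, 442, 226, 247, 508, 571, 193, 592, 625, 166, 103, 436, 85, 589]

/-- The vectors of norm one, up to sign. -/
def rvec (i : Fin 126) : Fin 6 → ZMod 3 := fun k => Fin.ofNat 3 (rvecList.getD i.val 0 / 3 ^ k.val)

end CfsgLib.TC22.Data
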