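import Cfsg.Agent.TC22.Tri
import Cfsg.Agent.TC22.Quot

/-!
Type M(22): two members that do not commute have the reflection configuration as their common neighbours.
-/

set_option autoImplicit false
set_option linter.unusedSectionVars false
set_option linter.style.haveILetI false

namespace CfsgLib.TC22

open Matrix CfsgLib.Unitary CfsgLib.ThreeT CfsgLib.ThreeT.SixTwo CfsgLib.SixPlane

namespace Data

theorem pts126_iso : ∀ κ i, h6 (pts126 κ i) (pts126 κ i) = 0 := by decide +kernel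

theorem dig6_inj {n m : ℕ} (hn : n < 4096) (hm : m < 4096) (h : ∀ k, dig6 n k = dig6 m k) : n = m := by
  have h0 := congrArg Fin.val (h 0)
  have h1 := congrArg Fin.val (h 1)
  have h2 := congrArg Fin.val (h 2)
  have h3 := congrArg Fin.val (h 3)
  have h4 := congrArg Fin.val (h 4)
  have h5 := congrArg Fin.val (h 5)
  simp [dig6, d4] at h0 h1 h2 h3 h4 h5
  omega

theorem pts126_inj {κ : Fin 3} {i j : Fin 126} (h : ∀ k, pts126 κ i k = pts126 κ j k) : i = j := by
  obtain ⟨hnd, hlen, hlt⟩ := pts126_code κ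
  have hi : i.val < (pts126List κ).length := lt_of_lt_of_eq i.2 hlen.symm
  have hj : j.val < (pts126List κ).length := lt_of_lt_of_eq j.2 hlen.symm
  simp only [pts126, List.getD_eq_getElem _ _ hi, List.getD_eq_getElem _ _ hj] at h
  exact Fin.ext (hnd.getElem_inj_iff.1 (dig6_inj (hlt _ (List.getElem_mem hi)) (hlt _ (List.getElem_mem hj)) h))

end Data

variable {F : Type} [Field F] [CharP F 2] [Finite F] (hF : Nat.card F = 2 ^ 2) {ω : F}
  (hω : ω ^ 2 = ω + 1) {G : Type*} [Group G] [Finite G] {d : G} (T : TC F d)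

local notation "V" => Fin 6 → F

include hF hω

theorem pts126_pt (κ : Fin 3) (i : Fin 126) : IsPt (vec6 ω (Data.pts126 κ i)) := by
  obtain ⟨k, hk, -⟩ := Data.pts126_first κ i
  exact vec6_pt hF hω ⟨k, by rw [hk]; decide⟩ (Data.pts126_iso κ i)

/-- The points of a configuration are pairwise different as points. -/
theorem pts126_proj {κ : Fin 3} {i j : Fin 126} {a : F}
    (h : vec6 ω (Data.pts126 κ i) = a • vec6 ω (Data.pts126 κ j)) : i = j := by
  obtain ⟨k, hk, hk'⟩ := Data.pts126_first κ i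
  obtain ⟨l, hl, hl'⟩ := Data.pts126_first κ j
  have e0 : enc ω (0 : Fin 4) = 0 := rfl
  have e1 : enc ω (1 : Fin 4) = 1 := rfl
  have hkk := congrFun h k
  have hll := congrFun h l
  simp only [vec6, Pi.smul_apply, smul_eq_mul, hk, e1] at hkk
  simp only [vec6, Pi.smul_apply, smul_eq_mul, hl, e1, mul_one] at hll
  have hkl : k = l := by
    rcases lt_trichotomy k l with hlt | he | hgt
    · rw [hl' k hlt, e0, mul_zero] at hkk
      exact absurd hkk one_ne_zero
    · exact he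
    · rw [hk' l hgt, e0] at hll
      rw [← hll, zero_mul] at hkk
      exact absurd hkk one_ne_zero
  subst hkl
  rw [hk, e1] at hll
  rw [← hll, one_smul] at h
  exact Data.pts126_inj fun t => enc_injective hω (congrFun h t)

namespace TC

include T

/-- The members commuting with two members that do not commute, generating a reflection group modulo its centre. -/
theorem pair_iso {e : G} (he : IsConj d e) (hed : ¬ Commute e d) :
    Nonempty (↥(Subgroup.closure ({y : G | y ∈ conjugatesOf d ∧ y ≠ d ∧ Commute d y} ∩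
        {y : G | y ∈ conjugatesOf d ∧ y ≠ e ∧ Commute e y})) ⧸
      Subgroup.center ↥(Subgroup.closure ({y : G | y ∈ conjugatesOf d ∧ y ≠ d ∧ Commute d y} ∩
        {y : G | y ∈ conjugatesOf d ∧ y ≠ e ∧ Commute e y})) ≃* tablePerms) := by
  classical
  obtain ⟨κ, c, hcd, he', hed', hez', hsol'⟩ := T.exists_normal hF hω he hed
  have hτ := T.tri_normal hF hω he' hed' hez' hsol'
  set τ : Fin 126 → G := fun i => T.tr hF (vec6 ω (Data.pts126 κ i)) with hτdef
  set S := {y : G | y ∈ conjugatesOf d ∧ y ≠ d ∧ Commute d y} ∩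
    {y : G | y ∈ conjugatesOf d ∧ y ≠ e ∧ Commute e y} with hSdef
  have hmove : ∀ x, (IsConj d (c⁻¹ * x * c) ↔ IsConj d x) ∧ (Commute (c⁻¹ * x * c) d ↔ Commute x d) ∧
      (Commute (c⁻¹ * x * c) (c⁻¹ * e * c) ↔ Commute x e) := fun x => by
    refine ⟨⟨fun h => h.trans (isConj_iff.2 ⟨c, by group⟩), fun h => h.trans (isConj_iff.2 ⟨c⁻¹, by group⟩)⟩, ?_, ?_⟩
    · rw [← Commute.conj_iff c, show c * (c⁻¹ * x * c) * c⁻¹ = x by group, hcd.eq, mul_inv_cancel_right]
    · rw [← Commute.conj_iff c, show c * (c⁻¹ * x * c) * c⁻¹ = x by group,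
        show c * (c⁻¹ * e * c) * c⁻¹ = e by group]
  have hS : ∀ x, x ∈ S ↔ ∃ i, c * τ i * c⁻¹ = x := by
    intro x
    have h1 : x ∈ S ↔ IsConj d x ∧ Commute x d ∧ Commute x e := by
      constructor
      · rintro ⟨⟨h1, -, h2⟩, -, -, h3⟩; exact ⟨h1, h2.symm, h3.symm⟩
      · rintro ⟨h1, h2, h3⟩
        exact ⟨⟨h1, fun h => hed (h ▸ h3).symm, h2.symm⟩, h1, fun h => hed (h ▸ h2), h3.symm⟩
    rw [h1, ← (hmove x).1, ← (hmove x).2.1, ← (hmove x).2.2]
    refine ((Set.ext_iff.1 hτ) (c⁻¹ * x * c)).trans ?_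
    exact ⟨fun ⟨i, hi⟩ => ⟨i, by rw [show τ i = c⁻¹ * x * c from hi]; group⟩,
      fun ⟨i, hi⟩ => ⟨i, by show τ i = _; rw [← hi]; group⟩⟩
  let t : Fin 126 → ↥(Subgroup.closure S) := fun i =>
    ⟨c * τ i * c⁻¹, Subgroup.subset_closure ((hS _).2 ⟨i, rfl⟩)⟩
  refine quot_iso t (fun i j h => ?_) ?_ fun a k => Subtype.ext ?_
  · obtain ⟨a, ha⟩ := T.tr_eq_smul hF hω (pts126_pt hF hω κ i) (pts126_pt hF hω κ j)
      (mul_left_cancel (mul_right_cancel (congrArg Subtype.val h)))
    exact pts126_proj hF hω ha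
  · refine Eq.trans ?_ (Subgroup.closure_closure_coe_preimage (k := S))
    congr 1
    ext r
    exact ⟨fun ⟨i, hi⟩ => hi ▸ (hS _).2 ⟨i, rfl⟩, fun hr => by
      obtain ⟨i, hi⟩ := (hS r).1 hr
      exact ⟨i, Subtype.ext hi⟩⟩
  · have hp := pts126_pt hF hω κ
    show c * τ (Data.gen7 a) * c⁻¹ * (c * τ k * c⁻¹) * (c * τ (Data.gen7 a) * c⁻¹)⁻¹ = c * τ (Data.act7 a k) * c⁻¹
    rw [show c * τ (Data.gen7 a) * c⁻¹ * (c * τ k * c⁻¹) * (c * τ (Data.gen7 a) * c⁻¹)⁻¹ =
      c * (τ (Data.gen7 a) * τ k * (τ (Data.gen7 a))⁻¹) * c⁻¹ by group]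
    congr 2
    rw [inv_eq_of_mul_eq_one_right (T.sq_of_conj (T.isConj_tr hF hω (hp _)))]
    show T.tr hF _ * T.tr hF _ * T.tr hF _ = T.tr hF _
    rw [T.tr_conj_tr hF hω (hp _) (hp _), ← vec6_tv hF hω]
    obtain ⟨s, hs, hs'⟩ := List.any_eq_true.1 (Data.act7_pts κ a k)
    rw [List.all_eq_true] at hs'
    rw [show Data.tv6 (Data.pts126 κ (Data.gen7 a)) (Data.pts126 κ k) =
        fun l => mul4 s (Data.pts126 κ (Data.act7 a k) l) from
      funext fun l => by simpa using hs' l (List.mem_finRange l), vec6_smul hF hω]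
    refine T.tr_smul hF hω (hp _) fun h0 => ?_
    have hs0 : s ≠ 0 := by
      simp only [List.mem_cons, List.not_mem_nil, or_false] at hs
      rcases hs with rfl | rfl | rfl <;> decide
    exact hs0 (enc_injective hω h0)

/-- Type M(22). -/
theorem isTypeM22 : Cfsg.IsOfTypeM22 G (conjugatesOf d) := by
  haveI := Fintype.ofFinite F
  obtain ⟨e, he, hed⟩ := T.exists_far hF hω
  refine ⟨T.center_bot hF hω, d, IsConj.refl d, e, he, fun h => hed h.symm,
    ⟨F, inferInstance, inferInstance, by rw [← Nat.card_eq_fintype_card, hF]; rfl, T.local_iso hF hω⟩,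
    1, one_ne_zero, ThreeT.Prod.chainForm 1, ThreeT.Prod.chain_nondeg one_ne_zero, ?_, ?_⟩
  · rw [ThreeT.Prod.chainForm_coe, Cfsg.polarGramDet]
    refine Eq.trans ?_ (ThreeT.Prod.chain_det 1 one_ne_zero)
    congr 1
    ext i j
    simp only [Matrix.of_apply]
    exact ThreeT.Prod.chain_gram 1 one_ne_zero i j
  · obtain ⟨f⟩ := T.pair_iso hF hω he hed
    obtain ⟨g⟩ := refl_iso
    exact ⟨f.trans g.symm⟩

end TC

end CfsgLib.TC22
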